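import Cfsg.Agent.Omega.FFTwoA.Main

/-!
# FF-2a, case (b1): `C(d) ≤ C(z)`

bb OMEGA #12472, case (b1) of helper9, in the elementwise form of helper338: an element of `C(z)` fixing `d₂` modulo
`O z` fixes `a` modulo `z`.
-/

set_option autoImplicit false

namespace Cfsg.Agent.Omega.FFTwoA.BOne

open Cfsg.Agent.Omega.FFTwoA.Main

variable {G : Type*} [Group G] {O : G → Subgroup G} {z a : G}

/-- equality modulo `z` -/
def R (z x y : G) : Prop := x = y ∨ x = z * y

theorem R.refl (z x : G) : R z x x := Or.inl rfl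

theorem R.symm (hzz : z * z = 1) {x y : G} (h : R z x y) : R z y x := by
  rcases h with rfl | rfl
  · exact Or.inl rfl
  · exact Or.inr (by rw [← mul_assoc, hzz, one_mul])

theorem R.trans (hzz : z * z = 1) {x y w : G} (h : R z x y) (h' : R z y w) : R z x w := by
  rcases h with rfl | rfl
  · exact h'
  · rcases h' with rfl | rfl
    · exact Or.inr rfl
    · exact Or.inl (by rw [← mul_assoc, hzz, one_mul])

theorem R.conj {x y g : G} (hg : g * z = z * g) (h : R z x y) : R z (g * x * g⁻¹) (g * y * g⁻¹) := by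
  rcases h with rfl | rfl
  · exact Or.inl rfl
  · right
    calc g * (z * y) * g⁻¹ = (g * z) * y * g⁻¹ := by group
      _ = z * (g * y * g⁻¹) := by rw [hg]; group

theorem R.mul (hzz : z * z = 1) {x y x' y' : G} (hy : y * z = z * y) (h : R z x y) (h' : R z x' y') :
    R z (x * x') (y * y') := by
  rcases h with rfl | rfl <;> rcases h' with rfl | rfl
  · exact Or.inl rfl
  · exact Or.inr (by rw [← mul_assoc, hy, mul_assoc])
  · exact Or.inr (by rw [mul_assoc])
  · left
    calc z * y * (z * y') = z * (y * z) * y' := by group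
      _ = (z * z) * y * y' := by rw [hy]; group
      _ = y * y' := by rw [hzz, one_mul]

theorem conj_comm {g x z : G} (hg : g * z = z * g) (hx : x * z = z * x) : (g * x * g⁻¹) * z = z * (g * x * g⁻¹) := by
  have hgi : g⁻¹ * z = z * g⁻¹ := by rw [inv_mul_eq_iff_eq_mul, ← mul_assoc, hg, mul_assoc, mul_inv_cancel, mul_one]
  calc g * x * g⁻¹ * z = g * x * (g⁻¹ * z) := by group
    _ = g * (x * z) * g⁻¹ := by rw [hgi]; group
    _ = (g * z) * x * g⁻¹ := by rw [hx]; group
    _ = z * (g * x * g⁻¹) := by rw [hg]; group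

/-- an element commuting with `u` and conjugates -/
theorem comm_inv {g x : G} (h : g * x = x * g) : g⁻¹ * x = x * g⁻¹ := by
  rw [inv_mul_eq_iff_eq_mul, ← mul_assoc, h, mul_assoc, mul_inv_cancel, mul_one]

theorem b_one (h : Cfg O z a) {d2 d3 w s u0 m : G}
    (hd2 : Dp O a d2) (hd2q : d2 * d2 = 1) (hd3 : Dp O (z * a) d3) (hd3q : d3 * d3 = 1)
    (hw : w ∈ O z) (hwa : w * a * w⁻¹ = z * a) (hwd : w * d2 * w⁻¹ = d3) (hwd' : w * d3 * w⁻¹ = d2)
    (hs : s = d2 * d3) (hsO : s ∈ O z) (hsa : s ∉ O a)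
    (f2 : ∀ x, Dp O a x → x = 1 ∨ x = a ∨ x = d2 ∨ x = a * d2)
    (f3 : ∀ x, Dp O (z * a) x → x = 1 ∨ x = z * a ∨ x = d3 ∨ x = z * a * d3)
    (hu : u0 ∈ O a) (huz : u0 * z = z * u0) (hud : u0 * d3 * u0⁻¹ = z * a * d3)
    (hb : ∀ g x, x * (g * d2 * g⁻¹) = g * d2 * g⁻¹ * x → x * (g * a * g⁻¹) = g * a * g⁻¹ * x)
    (hl : ∀ m, m * z = z * m → d2⁻¹ * (m * d2 * m⁻¹) ∈ O z →
      (R z (m * a * m⁻¹) 1 ∨ R z (m * a * m⁻¹) a ∨ R z (m * a * m⁻¹) s ∨ R z (m * a * m⁻¹) (a * s)) ∧
      (R z (m * s * m⁻¹) 1 ∨ R z (m * s * m⁻¹) a ∨ R z (m * s * m⁻¹) s ∨ R z (m * s * m⁻¹) (a * s)))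
    (hm : m * z = z * m) (hmd : d2⁻¹ * (m * d2 * m⁻¹) ∈ O z) : m * a * m⁻¹ = a ∨ m * a * m⁻¹ = z * a := by
  classical
  -- basic facts
  have hzz := h.zz
  have haa := h.aa
  have hza := h.za
  have haz : a * z = z * a := hza.symm
  have hzOa : z ∈ O a := h.symm.aO
  have haOa : a ∈ O a := h.symm.zO
  have haOz : a ∈ O z := h.aO
  have hd2i : d2⁻¹ = d2 := inv_eq_of_mul_eq_one_left hd2q
  have hd3i : d3⁻¹ = d3 := inv_eq_of_mul_eq_one_left hd3q
  have hai : a⁻¹ = a := inv_eq_of_mul_eq_one_left haa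
  have hzi : z⁻¹ = z := inv_eq_of_mul_eq_one_left hzz
  -- centres
  have c2 : ∀ x ∈ O a, d2 * x = x * d2 := (h.symm.dp_iff.1 hd2).2
  have c3 : ∀ x ∈ O (z * a), d3 * x = x * d3 := (h.third.dp_iff.1 hd3).2
  have hzO3 : z ∈ O (z * a) := h.third.aO
  have h3O3 : z * a ∈ O (z * a) := h.third.zO
  have haO3 : a ∈ O (z * a) := by
    have := mul_mem hzO3 h3O3
    rwa [← mul_assoc, hzz, one_mul] at this
  have d2a : d2 * a = a * d2 := c2 a haOa
  have d2z : d2 * z = z * d2 := c2 z hzOa
  have d3a : d3 * a = a * d3 := c3 a haO3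
  have d3z : d3 * z = z * d3 := c3 z hzO3
  have d23 : d2 * d3 = d3 * d2 := h.rot'.dd hd2 hd3
  have sz : s * z = z * s := by rw [hs, mul_assoc, d3z, ← mul_assoc, d2z, mul_assoc]
  have sa : s * a = a * s := by rw [hs, mul_assoc, d3a, ← mul_assoc, d2a, mul_assoc]
  have ss : s * s = 1 := by
    rw [hs]
    calc d2 * d3 * (d2 * d3) = d2 * (d3 * d2) * d3 := by group
      _ = (d2 * d2) * (d3 * d3) := by rw [← d23]; group
      _ = 1 := by rw [hd2q, hd3q, one_mul]
  have hwz : w * z = z * w := h.comm w hw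
  have ws : w * s * w⁻¹ = s := by
    have : w * s * w⁻¹ = (w * d2 * w⁻¹) * (w * d3 * w⁻¹) := by rw [hs]; group
    rw [this, hwd, hwd', ← d23, hs]
  have ua : u0 * a = a * u0 := h.symm.comm u0 hu
  have ud2 : u0 * d2 = d2 * u0 := (c2 u0 hu).symm
  have us : u0 * s * u0⁻¹ = z * a * s := by
    have : u0 * s * u0⁻¹ = (u0 * d2 * u0⁻¹) * (u0 * d3 * u0⁻¹) := by rw [hs]; group
    rw [this, hud, ud2, mul_inv_cancel_right, hs]
    calc d2 * (z * a * d3) = (d2 * z) * a * d3 := by group
      _ = z * (d2 * a) * d3 := by rw [d2z]; group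
      _ = z * a * (d2 * d3) := by rw [d2a]; group
  -- `s` is not in `O a`
  have s1 : s ≠ 1 := fun e => hsa (e ▸ one_mem _)
  have notOa : ∀ {x y : G}, R z x y → y ∉ O a → x ∉ O a := by
    rintro x y (rfl | rfl) hy hx
    · exact hy hx
    · exact hy ((Subgroup.mul_mem_cancel_left _ hzOa).1 hx)
  have as_not : a * s ∉ O a := fun hx => hsa ((Subgroup.mul_mem_cancel_left _ haOa).1 hx)
  -- conjugates in the normaliser of `O z`
  have nOz : ∀ {g x : G}, g * z = z * g → x ∈ O z → g * x * g⁻¹ ∈ O z := fun hg hx => h.eqv.mem_conj hx hg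
  have inv_z : ∀ {g : G}, g * z = z * g → g⁻¹ * z = z * g⁻¹ := fun hg => comm_inv hg
  -- (0) reduction to an element permuting `a, s, a s` cyclically
  by_contra hcon
  have mulN : ∀ {m n : G}, (m * z = z * m ∧ d2⁻¹ * (m * d2 * m⁻¹) ∈ O z) →
      (n * z = z * n ∧ d2⁻¹ * (n * d2 * n⁻¹) ∈ O z) →
      (m * n) * z = z * (m * n) ∧ d2⁻¹ * ((m * n) * d2 * (m * n)⁻¹) ∈ O z := by
    rintro m n ⟨h1, h2⟩ ⟨h3, h4⟩
    refine ⟨by rw [mul_assoc, h3, ← mul_assoc, h1, mul_assoc], ?_⟩
    have := mul_mem h2 (nOz h1 h4)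
    convert this using 1; group
  have uN : u0 * z = z * u0 ∧ d2⁻¹ * (u0 * d2 * u0⁻¹) ∈ O z :=
    ⟨huz, by rw [ud2, mul_inv_cancel_right, inv_mul_cancel]; exact one_mem _⟩
  have usR : R z (u0 * s * u0⁻¹) (a * s) := Or.inr (by rw [us]; group)
  have uaR : R z (u0 * a * u0⁻¹) a := Or.inl (by rw [ua, mul_inv_cancel_right])
  have asz : (a * s) * z = z * (a * s) := by rw [mul_assoc, sz, ← mul_assoc, haz, mul_assoc]
  have uasR : R z (u0 * (a * s) * u0⁻¹) s := by
    have h1 : R z ((u0 * a * u0⁻¹) * (u0 * s * u0⁻¹)) (a * (a * s)) := uaR.mul hzz haz usR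
    have h2 : (u0 * a * u0⁻¹) * (u0 * s * u0⁻¹) = u0 * (a * s) * u0⁻¹ := by group
    rw [h2, ← mul_assoc a a s, haa, one_mul] at h1
    exact h1
  obtain ⟨g, ⟨gz, gd⟩, ga, gs⟩ : ∃ g, (g * z = z * g ∧ d2⁻¹ * (g * d2 * g⁻¹) ∈ O z) ∧
      R z (g * a * g⁻¹) s ∧ R z (g * s * g⁻¹) (a * s) := by
    obtain ⟨hA, hS⟩ := hl m hm hmd
    have miz := inv_z hm
    -- `m` conjugates back
    have cancel1 : ∀ {x : G}, R z (m * x * m⁻¹) 1 → R z x 1 := by
      intro x hx
      have := hx.conj miz
      have e1 : m⁻¹ * (m * x * m⁻¹) * m⁻¹⁻¹ = x := by group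
      have e2 : m⁻¹ * 1 * m⁻¹⁻¹ = 1 := by group
      rwa [e1, e2] at this
    have hA' : R z (m * a * m⁻¹) s ∨ R z (m * a * m⁻¹) (a * s) := by
      rcases hA with k | k | k | k
      · rcases cancel1 k with e | e
        · exact absurd e h.a1
        · exact absurd (by rw [e, mul_one]) h.az
      · exact absurd k hcon
      · exact Or.inl k
      · exact Or.inr k
    have hS' : ¬ R z (m * s * m⁻¹) 1 := by
      intro k
      rcases cancel1 k with e | e
      · exact s1 e
      · exact hsa (by rw [e, mul_one]; exact hzOa)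
    -- `m s m⁻¹` and `m a m⁻¹` are different modulo `z`
    have hd : ¬ R z (m * s * m⁻¹) (m * a * m⁻¹) := by
      intro k
      have := k.conj miz
      have e1 : m⁻¹ * (m * s * m⁻¹) * m⁻¹⁻¹ = s := by group
      have e2 : m⁻¹ * (m * a * m⁻¹) * m⁻¹⁻¹ = a := by group
      rw [e1, e2] at this
      exact notOa (this.symm hzz) hsa haOa
    have mas : ∀ {x y : G}, x * z = z * x → R z (m * a * m⁻¹) x → R z (m * s * m⁻¹) y →
        R z (m * (a * s) * m⁻¹) (x * y) := by
      intro x y hx h1 h2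
      have := h1.mul hzz hx h2
      have e : m * a * m⁻¹ * (m * s * m⁻¹) = m * (a * s) * m⁻¹ := by group
      rwa [e] at this
    rcases hA' with hA | hA
    · rcases hS with k | k | k | k
      · exact absurd k hS'
      · -- `a → s`, `s → a`: take `m u0`
        refine ⟨m * u0, mulN ⟨hm, hmd⟩ uN, ?_, ?_⟩
        · have e : m * u0 * a * (m * u0)⁻¹ = m * (u0 * a * u0⁻¹) * m⁻¹ := by group
          rw [e]
          exact (uaR.conj hm).trans hzz hA
        · have e : m * u0 * s * (m * u0)⁻¹ = m * (u0 * s * u0⁻¹) * m⁻¹ := by group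
          rw [e]
          refine (usR.conj hm).trans hzz ?_
          have := mas sz hA k
          rwa [sa] at this
      · exact absurd (k.trans hzz (hA.symm hzz)) hd
      · exact ⟨m, ⟨hm, hmd⟩, hA, k⟩
    · rcases hS with k | k | k | k
      · exact absurd k hS'
      · -- `a → a s`, `s → a`: take `u0 m u0`
        refine ⟨u0 * m * u0, mulN (mulN uN ⟨hm, hmd⟩) uN, ?_, ?_⟩
        · have e : u0 * m * u0 * a * (u0 * m * u0)⁻¹ = u0 * (m * (u0 * a * u0⁻¹) * m⁻¹) * u0⁻¹ := by group
          rw [e]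
          exact (((uaR.conj hm).trans hzz hA).conj huz).trans hzz uasR
        · have e : u0 * m * u0 * s * (u0 * m * u0)⁻¹ = u0 * (m * (u0 * s * u0⁻¹) * m⁻¹) * u0⁻¹ := by group
          rw [e]
          have h1 := mas asz hA k
          have e2 : a * s * a = s := by rw [mul_assoc, sa, ← mul_assoc, haa, one_mul]
          rw [e2] at h1
          exact (((usR.conj hm).trans hzz h1).conj huz).trans hzz usR
      · -- `a → a s`, `s → s`: take `u0 m`
        refine ⟨u0 * m, mulN uN ⟨hm, hmd⟩, ?_, ?_⟩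
        · have e : u0 * m * a * (u0 * m)⁻¹ = u0 * (m * a * m⁻¹) * u0⁻¹ := by group
          rw [e]
          exact (hA.conj huz).trans hzz uasR
        · have e : u0 * m * s * (u0 * m)⁻¹ = u0 * (m * s * m⁻¹) * u0⁻¹ := by group
          rw [e]
          exact (k.conj huz).trans hzz usR
      · exact absurd (k.trans hzz (hA.symm hzz)) hd
  -- the conjugate `d' = g d₂ g⁻¹`
  have giz := inv_z gz
  obtain ⟨z', hz'⟩ : ∃ z', z' = g * a * g⁻¹ := ⟨_, rfl⟩
  obtain ⟨d', hd'⟩ : ∃ d', d' = g * d2 * g⁻¹ := ⟨_, rfl⟩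
  rw [← hz'] at ga
  rw [← hd'] at gd
  have dq' : d' * d' = 1 := by
    rw [hd']
    calc g * d2 * g⁻¹ * (g * d2 * g⁻¹) = g * (d2 * d2) * g⁻¹ := by group
      _ = 1 := by rw [hd2q]; group
  have di' : d'⁻¹ = d' := inv_eq_of_mul_eq_one_left dq'
  have Dd' : Dp O z' d' := by
    have := (h.eqv.dp_iff g a d2).2 hd2
    rwa [MulAut.conj_apply, MulAut.conj_apply, ← hz', ← hd'] at this
  have z'O : z' ∉ O a := notOa ga hsa
  -- exclusions
  have nda : d2 ≠ a := by
    intro e
    apply hsa
    rw [hs, ← hwd, e, hwa, aza hza haa]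
    exact hzOa
  have nDz2 : ¬ Dp O a z := h.symm.da
  have nDz3 : ¬ Dp O (z * a) z := h.third.da
  have nd2z : d2 ≠ z := fun e => nDz2 (e ▸ hd2)
  have nd31 : d3 ≠ 1 := by
    intro e
    have : d2 = 1 := by rw [← hwd', e]; group
    exact s1 (by rw [hs, e, this, one_mul])
  have nd21 : d2 ≠ 1 := by
    intro e
    exact nd31 (by rw [← hwd, e]; group)
  have nd3za : d3 ≠ z * a := by
    intro e
    apply nda
    rw [← hwd', e]
    calc w * (z * a) * w⁻¹ = (w * z) * a * w⁻¹ := by group
      _ = z * (w * a * w⁻¹) := by rw [hwz]; group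
      _ = a := by rw [hwa, ← mul_assoc, hzz, one_mul]
  have nd3z : d3 ≠ z := fun e => nDz3 (e ▸ hd3)
  -- (i) `d'` commutes with `d₂`
  have y2 : d2 * d' ∈ O z := by rwa [hd2i] at gd
  have d2d' : d' * d2 = d2 * d' := by
    rcases h.sq y2 with k | k
    · have e : d2 * (d2 * d' * (d2 * d')) * d' = d2 * d' := by rw [k, mul_one]
      have e2 : d2 * (d2 * d' * (d2 * d')) * d' = (d2 * d2) * d' * d2 * (d' * d') := by group
      rw [e2, hd2q, dq', one_mul, mul_one] at e
      exact e
    · exfalso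
      -- `y d₂ y⁻¹ = z d₂`
      have ey : d2 * d' * d2 * (d2 * d')⁻¹ = z * d2 := by
        rw [← k, mul_inv_rev, di', hd2i]
        calc d2 * d' * d2 * (d' * d2) = d2 * d' * (d2 * d') * d2 := by group
          _ = _ := rfl
      have key : ∀ b, MulAut.conj (d2 * d') a = b → Dp O b (z * d2) := by
        intro b hb'
        have := (h.eqv.dp_iff (d2 * d') a d2).2 hd2
        rwa [hb', MulAut.conj_apply, ey] at this
      rcases h.norm _ y2 with k2 | k2
      · have := dp_mul (key a k2) hd2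
        rw [mul_assoc, hd2q, mul_one] at this
        exact nDz2 this
      · rcases f3 _ (key _ k2) with e | e | e | e
        · apply nd2z
          have : d2 = z * (z * d2) := by rw [← mul_assoc, hzz, one_mul]
          rw [this, e, mul_one]
        · exact nda (mul_left_cancel e)
        · apply hsa
          have : s = z := by
            rw [hs, ← e, ← mul_assoc, d2z, mul_assoc, hd2q, mul_one]
          rw [this]; exact hzOa
        · apply hsa
          have : d2 = a * d3 := mul_left_cancel (by rw [e, mul_assoc])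
          have : s = a := by rw [hs, this, mul_assoc, hd3q, mul_one]
          rw [this]; exact haOa
  -- and with `d₃`
  have y3 : d3 * d' ∈ O z := by
    have e : d3 * d' = s * (d2 * d') := by
      rw [hs, d23]
      calc d3 * d' = d3 * 1 * d' := by group
        _ = d3 * (d2 * d2) * d' := by rw [hd2q]
        _ = d3 * d2 * (d2 * d') := by group
    rw [e]; exact mul_mem hsO y2
  have d3d' : d' * d3 = d3 * d' := by
    rcases h.sq y3 with k | k
    · have e : d3 * (d3 * d' * (d3 * d')) * d' = d3 * d' := by rw [k, mul_one]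
      have e2 : d3 * (d3 * d' * (d3 * d')) * d' = (d3 * d3) * d' * d3 * (d' * d') := by group
      rw [e2, hd3q, dq', one_mul, mul_one] at e
      exact e
    · exfalso
      have ey : d3 * d' * d3 * (d3 * d')⁻¹ = z * d3 := by
        rw [← k, mul_inv_rev, di', hd3i]
        calc d3 * d' * d3 * (d' * d3) = d3 * d' * (d3 * d') * d3 := by group
          _ = _ := rfl
      have key : ∀ b, MulAut.conj (d3 * d') (z * a) = b → Dp O b (z * d3) := by
        intro b hb'
        have := (h.eqv.dp_iff (d3 * d') (z * a) d3).2 hd3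
        rwa [hb', MulAut.conj_apply, ey] at this
      have yz : (d3 * d') * z = z * (d3 * d') := h.comm _ y3
      have cz : MulAut.conj (d3 * d') z = z := by
        rw [MulAut.conj_apply, yz, mul_assoc, mul_inv_cancel, mul_one]
      rcases h.norm _ y3 with k2 | k2
      · have := dp_mul (key (z * a) (by rw [map_mul, cz, MulAut.conj_apply, k2])) hd3
        rw [mul_assoc, hd3q, mul_one] at this
        exact nDz3 this
      · rcases f2 _ (key a (by rw [map_mul, cz, MulAut.conj_apply, k2, ← mul_assoc, hzz, one_mul])) with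
          e | e | e | e
        · apply nd3z
          have : d3 = z * (z * d3) := by rw [← mul_assoc, hzz, one_mul]
          rw [this, e, mul_one]
        · apply nd3za
          have : d3 = z * (z * d3) := by rw [← mul_assoc, hzz, one_mul]
          rw [this, e]
        · apply hsa
          have : s = z := by
            rw [hs, ← e, mul_assoc, hd3q, mul_one]
          rw [this]; exact hzOa
        · apply hsa
          have : s = z * a := by
            have e3 : d3 = z * (a * d2) := by rw [← e, ← mul_assoc, hzz, one_mul]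
            rw [hs, d23, e3, mul_assoc, mul_assoc, hd2q, mul_one]
          rw [this]; exact mul_mem hzOa haOa
  have ad' : d' * a = a * d' := by
    have := hb 1 d' (by simpa using d2d')
    simpa using this
  -- (ii)
  have stepII : ∀ u ∈ O a, u * z = z * u → u * d3 = d3 * u → u * d' = d' * u := by
    intro u huO hu1 hu2
    have u2 : u * d2 = d2 * u := (c2 u huO).symm
    have u3 : u * s = s * u := by rw [hs, ← mul_assoc, u2, mul_assoc, hu2, mul_assoc]
    have u4 : u * z' = z' * u := by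
      rcases ga with e | e
      · rw [e]; exact u3
      · rw [e, ← mul_assoc, hu1, mul_assoc, u3, mul_assoc]
    have D1 : Dp O z' (u * d' * u⁻¹) := h.eqv.dp_conj Dd' u4
    have D2 : Dp O a (g⁻¹ * (u * d' * u⁻¹) * g) := by
      have := (h.eqv.dp_iff g⁻¹ z' _).2 D1
      have e1 : MulAut.conj g⁻¹ z' = a := by rw [MulAut.conj_apply, hz']; group
      rw [e1, MulAut.conj_apply, inv_inv] at this
      exact this
    have e0 : u * d' * u⁻¹ = g * (g⁻¹ * (u * d' * u⁻¹) * g) * g⁻¹ := by group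
    have hmem : u * d' * u⁻¹ * d'⁻¹ ∈ O a := by
      have := mul_mem huO (h.symm.eqv.mem_conj (inv_mem huO) ad')
      convert this using 1; group
    rcases f2 _ D2 with e | e | e | e
    · exfalso
      rw [e] at e0
      have : d2 = 1 := by
        have h1 : u * d' * u⁻¹ = 1 := by rw [e0]; group
        have h2 : d' = 1 := by
          have : d' = u⁻¹ * (u * d' * u⁻¹) * u := by group
          rw [this, h1]; group
        have : d2 = g⁻¹ * d' * g := by rw [hd']; group
        rw [this, h2]; group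
      exact nd21 this
    · exfalso
      rw [e, ← hz'] at e0
      apply nda
      have h2 : d' = z' := by
        have : d' = u⁻¹ * (u * d' * u⁻¹) * u := by group
        rw [this, e0, mul_assoc, ← u4]; group
      have : d2 = g⁻¹ * d' * g := by rw [hd']; group
      rw [this, h2, hz']; group
    · rw [e, ← hd', mul_inv_eq_iff_eq_mul] at e0
      exact e0
    · exfalso
      rw [e] at e0
      have e1 : u * d' * u⁻¹ = z' * d' := by
        rw [e0, hz', hd']; group
      rw [e1, mul_inv_cancel_right] at hmem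
      exact z'O hmem
  -- (iii)
  obtain ⟨c0, hc0⟩ : ∃ c0, c0 = d' * (u0 * d' * u0⁻¹) := ⟨_, rfl⟩
  have c0z : c0 ∈ O z := by
    have h1 := mul_mem (nOz d2z y2) (nOz huz y2)
    convert h1 using 1
    rw [hc0, hd2i]
    have e1 : u0 * (d2 * d') * u0⁻¹ = d2 * (u0 * d' * u0⁻¹) := by
      calc u0 * (d2 * d') * u0⁻¹ = (u0 * d2) * d' * u0⁻¹ := by group
        _ = _ := by rw [ud2]; group
    rw [e1]
    calc d' * (u0 * d' * u0⁻¹) = 1 * d' * 1 * (u0 * d' * u0⁻¹) := by group
      _ = (d2 * d2) * d' * (d2 * d2) * (u0 * d' * u0⁻¹) := by rw [hd2q]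
      _ = _ := by group
  have c0a : c0 ∈ O a := by
    have := mul_mem (h.symm.eqv.mem_conj hu ad') (inv_mem hu)
    convert this using 1
    rw [hc0, di']; group
  have c0q : c0 * c0 = 1 := by
    rcases h.sq c0z with k | k
    · exact k
    · rcases h.symm.sq c0a with k2 | k2
      · exact k2
      · exact absurd (k2.symm.trans k) h.az
  have c0i : c0⁻¹ = c0 := inv_eq_of_mul_eq_one_left c0q
  have u0c : u0 * c0 = c0 * u0 := by
    have e1 : (u0 * u0) * d' * (u0 * u0)⁻¹ = d' := by
      rcases h.symm.sq hu with k | k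
      · rw [k]; group
      · rw [k, ← ad', mul_inv_cancel_right]
    have e2 : u0 * c0 * u0⁻¹ = c0⁻¹ := by
      calc u0 * c0 * u0⁻¹ = (u0 * d' * u0⁻¹) * ((u0 * u0) * d' * (u0 * u0)⁻¹) := by rw [hc0]; group
        _ = (u0 * d' * u0⁻¹) * d' := by rw [e1]
        _ = (u0 * d'⁻¹ * u0⁻¹) * d'⁻¹ := by rw [di']
        _ = c0⁻¹ := by rw [hc0]; group
    rw [c0i, mul_inv_eq_iff_eq_mul] at e2
    exact e2
  have cu1 : ∀ u ∈ O a, u * z = z * u → u * d3 = d3 * u → u * c0 = c0 * u := by
    intro u huO hu1 hu2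
    have k1 := stepII u huO hu1 hu2
    have k2 : (u0⁻¹ * u * u0) * d' = d' * (u0⁻¹ * u * u0) := by
      have e : u0⁻¹ * u * u0 = u ∨ u0⁻¹ * u * u0 = a * u := by
        have := h.symm.comm_mem (inv_mem hu) huO
        rw [inv_inv] at this
        rcases this with k | k
        · left; rw [mul_inv_eq_one] at k; exact k
        · right; rw [mul_inv_eq_iff_eq_mul] at k; exact k
      rcases e with e | e
      · rw [e]; exact k1
      · rw [e, mul_assoc, k1, ← mul_assoc, ← ad', mul_assoc]
    have k3 : u * (u0 * d' * u0⁻¹) = (u0 * d' * u0⁻¹) * u := by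
      calc u * (u0 * d' * u0⁻¹) = u0 * ((u0⁻¹ * u * u0) * d') * u0⁻¹ := by group
        _ = u0 * (d' * (u0⁻¹ * u * u0)) * u0⁻¹ := by rw [k2]
        _ = _ := by group
    calc u * c0 = (u * d') * (u0 * d' * u0⁻¹) := by rw [hc0]; group
      _ = d' * (u * (u0 * d' * u0⁻¹)) := by rw [k1]; group
      _ = c0 * u := by rw [k3, hc0]; group
  have cu2 : ∀ u ∈ O a, u * z = z * u → u * c0 = c0 * u := by
    intro u huO hu1
    have hu3 : u * (z * a) = (z * a) * u := by
      rw [← mul_assoc, hu1, mul_assoc, h.symm.comm u huO, mul_assoc]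
    have D3 : Dp O (z * a) (u * d3 * u⁻¹) := h.eqv.dp_conj hd3 hu3
    rcases f3 _ D3 with e | e | e | e
    · exfalso
      apply nd31
      have : d3 = u⁻¹ * (u * d3 * u⁻¹) * u := by group
      rw [this, e]; group
    · exfalso
      apply nd3za
      have : d3 = u⁻¹ * (u * d3 * u⁻¹) * u := by group
      rw [this, e, mul_assoc, ← hu3]; group
    · rw [mul_inv_eq_iff_eq_mul] at e
      exact cu1 u huO hu1 e
    · have huu : u0⁻¹ * u ∈ O a := mul_mem (inv_mem hu) huO
      have h1 : (u0⁻¹ * u) * z = z * (u0⁻¹ * u) := by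
        rw [mul_assoc, hu1, ← mul_assoc, inv_z huz, mul_assoc]
      have h2 : (u0⁻¹ * u) * d3 = d3 * (u0⁻¹ * u) := by
        rw [mul_inv_eq_iff_eq_mul] at e
        rw [mul_assoc, e, ← hud]; group
      have h3 := cu1 _ huu h1 h2
      have : u = u0 * (u0⁻¹ * u) := by group
      rw [this, mul_assoc, h3, ← mul_assoc, u0c, mul_assoc]
  have c0R : R z c0 1 ∨ R z c0 a := by
    obtain ⟨wa, hwa1, hwa2⟩ := h.symm.mov
    have hwa2' : wa * z = a * z * wa := by rwa [mul_inv_eq_iff_eq_mul] at hwa2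
    -- an element commuting with `wa` and with `C_{O a}(z)`
    have central : ∀ x ∈ O a, wa * x = x * wa → (∀ u ∈ O a, u * z = z * u → u * x = x * u) → Dp O a x := by
      intro x hx h1 h2
      rw [h.symm.dp_iff]
      refine ⟨hx, fun q hq => ?_⟩
      rcases h.symm.norm q hq with k | k
      · rw [mul_inv_eq_iff_eq_mul] at k
        exact (h2 q hq k).symm
      · rw [mul_inv_eq_iff_eq_mul] at k
        have h3 : (wa⁻¹ * q) * z = z * (wa⁻¹ * q) := by
          have e3 : wa⁻¹ * (a * z) = z * wa⁻¹ := by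
            rw [inv_mul_eq_iff_eq_mul, ← mul_assoc, hwa2', mul_assoc, mul_inv_cancel, mul_one]
          rw [mul_assoc, k, ← mul_assoc, e3, mul_assoc]
        have h4 := h2 _ (mul_mem (inv_mem hwa1.1) hq) h3
        calc x * q = (x * wa) * (wa⁻¹ * q) := by group
          _ = wa * (x * (wa⁻¹ * q)) := by rw [← h1]; group
          _ = wa * ((wa⁻¹ * q) * x) := by rw [h4]
          _ = q * x := by group
    rcases h.symm.comm_mem hwa1.1 c0a with k | k
    · have e : wa * c0 = c0 * wa := by
        rw [mul_inv_eq_one, mul_inv_eq_iff_eq_mul] at k; exact k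
      rcases h.symm.d_inter (central c0 c0a e cu2) c0z with e | e
      · exact Or.inl (Or.inl e)
      · exact Or.inr (Or.inl e)
    · have e : wa * c0 = a * c0 * wa := by
        rw [mul_inv_eq_iff_eq_mul, mul_inv_eq_iff_eq_mul] at k; exact k
      have c0a' : c0 * a = a * c0 := h.symm.comm c0 c0a
      have c0z' : c0 * z = z * c0 := h.comm c0 c0z
      have e2 : wa * (z * c0) = (z * c0) * wa := by
        calc wa * (z * c0) = (wa * z) * c0 := by group
          _ = a * z * (wa * c0) := by rw [hwa2']; group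
          _ = (a * z) * a * c0 * wa := by rw [e]; group
          _ = (a * (z * a)) * c0 * wa := by group
          _ = (z * c0) * wa := by rw [aza hza haa]
      have D4 : Dp O a (z * c0) := central (z * c0) (mul_mem hzOa c0a) e2 (by
        intro u huO hu1
        rw [← mul_assoc, hu1, mul_assoc, cu2 u huO hu1, mul_assoc])
      rcases h.symm.d_inter D4 (mul_mem h.zO c0z) with e | e
      · left; right
        have : c0 = z * (z * c0) := by rw [← mul_assoc, hzz, one_mul]
        rw [this, e]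
      · right; right
        have : c0 = z * (z * c0) := by rw [← mul_assoc, hzz, one_mul]
        rw [this, e]
  -- (iv)
  obtain ⟨g1, hg1⟩ : ∃ g1, g1 = g⁻¹ * u0 * g := ⟨_, rfl⟩
  obtain ⟨d1, hd1⟩ : ∃ d1, d1 = g1 * d2 * g1⁻¹ := ⟨_, rfl⟩
  have g1a : R z (g1 * a * g1⁻¹) s := by
    have h1 : R z (u0 * z' * u0⁻¹) (a * s) := (ga.conj huz).trans hzz usR
    have h2 := (h1.trans hzz (gs.symm hzz)).conj giz
    have e1 : g⁻¹ * (u0 * z' * u0⁻¹) * g⁻¹⁻¹ = g1 * a * g1⁻¹ := by rw [hg1, hz']; group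
    have e2 : g⁻¹ * (g * s * g⁻¹) * g⁻¹⁻¹ = s := by group
    rwa [e1, e2] at h2
  have d2d1 : d2 * d1 = g⁻¹ * c0 * g := by
    rw [hd1, hc0, hg1, hd']; group
  have hd1' : d1 = d2 * (g⁻¹ * c0 * g) := by rw [← d2d1, ← mul_assoc, hd2q, one_mul]
  have gai : R z (g⁻¹ * a * g) (a * s) := by
    -- `g (a s) g⁻¹ ≡ s (a s) = a`
    have h1 := ga.mul hzz sz gs
    rw [hz'] at h1
    have e1 : g * a * g⁻¹ * (g * s * g⁻¹) = g * (a * s) * g⁻¹ := by group
    have e2 : s * (a * s) = a := by rw [← mul_assoc, sa, mul_assoc, ss, mul_one]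
    rw [e1, e2] at h1
    have h2 := (h1.symm hzz).conj giz
    have e3 : g⁻¹ * (g * (a * s) * g⁻¹) * g⁻¹⁻¹ = a * s := by group
    rwa [e3, inv_inv] at h2
  -- `u0` does not commute with `s`
  have nus : ∀ x, R z x s → u0 * x ≠ x * u0 := by
    intro x hx hux
    have h1 : u0 * s = s * u0 := by
      rcases hx with e | e
      · rw [← e]; exact hux
      · have : s = z * x := by rw [e, ← mul_assoc, hzz, one_mul]
        rw [this, ← mul_assoc, huz, mul_assoc, hux, mul_assoc]
    rw [h1, mul_inv_cancel_right] at us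
    have h2 : z * a = 1 := by
      have : 1 * s = z * a * s := by rw [one_mul]; exact us
      exact (mul_right_cancel this).symm
    apply h.az
    have : a = z * (z * a) := by rw [← mul_assoc, hzz, one_mul]
    rw [this, h2, mul_one]
  rcases c0R with k | k
  · -- `d₁ ∈ d₂ ⟨z⟩`
    have k1 : R z (g⁻¹ * c0 * g) 1 := by
      have := k.conj giz
      have e : g⁻¹ * 1 * g⁻¹⁻¹ = 1 := by group
      rwa [e, inv_inv] at this
    have hc : u0 * d1 = d1 * u0 := by
      rw [hd1']
      rcases k1 with e | e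
      · rw [e, mul_one]; exact ud2
      · rw [e, mul_one, ← mul_assoc, ud2, mul_assoc, huz, mul_assoc]
    exact nus _ g1a (hb g1 u0 (by rw [← hd1]; exact hc))
  · -- `w d₁ w⁻¹ ∈ a d₂ ⟨z⟩`
    have k1 : R z (g⁻¹ * c0 * g) (a * s) := by
      have := k.conj giz
      rw [inv_inv] at this
      exact this.trans hzz gai
    have k2 : R z d1 (a * d3) := by
      have h1 := (R.refl z d2).mul hzz d2z k1
      rw [← hd1'] at h1
      have e : d2 * (a * s) = a * d3 := by
        rw [hs]
        calc d2 * (a * (d2 * d3)) = (d2 * a) * d2 * d3 := by group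
          _ = a * (d2 * d2) * d3 := by rw [d2a]; group
          _ = a * d3 := by rw [hd2q, mul_one]
      rwa [e] at h1
    have k3 : R z (w * d1 * w⁻¹) (a * d2) := by
      have h1 := k2.conj hwz
      have e : w * (a * d3) * w⁻¹ = z * (a * d2) := by
        calc w * (a * d3) * w⁻¹ = (w * a * w⁻¹) * (w * d3 * w⁻¹) := by group
          _ = z * (a * d2) := by rw [hwa, hwd', mul_assoc]
      rw [e] at h1
      exact h1.trans hzz (Or.inr rfl)
    have hc : u0 * (w * d1 * w⁻¹) = (w * d1 * w⁻¹) * u0 := by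
      have hc1 : u0 * (a * d2) = (a * d2) * u0 := by
        rw [← mul_assoc, ua, mul_assoc, ud2, mul_assoc]
      rcases k3 with e | e
      · rw [e]; exact hc1
      · rw [e]
        calc u0 * (z * (a * d2)) = (u0 * z) * (a * d2) := by group
          _ = z * (u0 * (a * d2)) := by rw [huz]; group
          _ = z * (a * d2) * u0 := by rw [hc1]; group
    have k4 : R z ((w * g1) * a * (w * g1)⁻¹) s := by
      have h1 := g1a.conj hwz
      rw [ws] at h1
      have e : w * (g1 * a * g1⁻¹) * w⁻¹ = (w * g1) * a * (w * g1)⁻¹ := by group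
      rwa [e] at h1
    refine nus _ k4 (hb (w * g1) u0 ?_)
    have e : (w * g1) * d2 * (w * g1)⁻¹ = w * d1 * w⁻¹ := by rw [hd1]; group
    rw [e]; exact hc

end Cfsg.Agent.Omega.FFTwoA.BOne
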