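import Cfsg.Agent.Omega.FFTwoA.Line

/-!
# FF-2a (7), case (b2): an abelian normal subgroup of `C(d)` containing `w`

bb OMEGA #12472 (helper9).
-/

set_option autoImplicit false

namespace Cfsg.Agent.Omega.FFTwoA.BTwo

open Cfsg.Agent.Omega.FFTwoA.Main Cfsg.Agent.Omega.FFTwoA.Four Cfsg.Agent.Omega.FFTwoA.Line

variable {G : Type*} [Group G] {O : G → Subgroup G} {z a d w d2 d3 s : G}

/-- The elements of the group `⟨z, a, s⟩` of order `8`. -/
def LH (z a s x : G) : Prop :=
  (x = 1 ∨ x = z ∨ x = a ∨ x = z * a) ∨ (x = s ∨ x = z * s ∨ x = a * s ∨ x = z * a * s)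

/-- `{m ∈ C(z) : [m, d2] ∈ O z}` -/
def NS (O : G → Subgroup G) (z d2 m : G) : Prop :=
  m * z = z * m ∧ d2⁻¹ * (m * d2 * m⁻¹) ∈ O z

theorem LH.zmul (hzz : z * z = 1) {x : G} (hx : LH z a s x) : LH z a s (z * x) := by
  unfold LH at *
  rcases hx with (h | h | h | h) | (h | h | h | h) <;> subst h
  · left; right; left; simp
  · left; left; exact hzz
  · left; right; right; right; rfl
  · left; right; right; left; rw [← mul_assoc, hzz, one_mul]
  · right; right; left; rfl
  · right; left; rw [← mul_assoc, hzz, one_mul]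
  · right; right; right; right; rw [← mul_assoc]
  · right; right; right; left; rw [← mul_assoc, ← mul_assoc, hzz, one_mul]

section

variable (h : Dat O z a d w d2 d3 s)
include h

theorem NS.mul {m n : G} (hm : NS O z d2 m) (hn : NS O z d2 n) : NS O z d2 (m * n) := by
  refine ⟨by rw [mul_assoc, hn.1, ← mul_assoc, hm.1, mul_assoc], ?_⟩
  have e : d2⁻¹ * (m * n * d2 * (m * n)⁻¹) =
      d2⁻¹ * (m * d2 * m⁻¹) * (m * (d2⁻¹ * (n * d2 * n⁻¹)) * m⁻¹) := by group
  rw [e]
  exact mul_mem hm.2 (h.eqv.mem_conj hn.2 hm.1)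

theorem NS.inv {m : G} (hm : NS O z d2 m) : NS O z d2 m⁻¹ := by
  have h1 : m⁻¹ * z = z * m⁻¹ := by
    rw [inv_mul_eq_iff_eq_mul, ← mul_assoc, hm.1, mul_assoc, mul_inv_cancel, mul_one]
  refine ⟨h1, ?_⟩
  have e : d2⁻¹ * (m⁻¹ * d2 * m⁻¹⁻¹) = (m⁻¹ * (d2⁻¹ * (m * d2 * m⁻¹)) * m⁻¹⁻¹)⁻¹ := by group
  rw [e]
  exact inv_mem (h.eqv.mem_conj hm.2 h1)

theorem lh_comm {y : G} (hy : y ∈ O z) : LH z a s (d2 * y * d2⁻¹ * y⁻¹) := by
  rcases h.n1 hy with k | k | k | k <;> rw [k.2.2]
  · left; left; group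
  · left; right; right; left; group
  · right; left; group
  · right; right; right; right
    rw [h.sa']; group

theorem hl_aux {m y : G} (hm : NS O z d2 m) (hy : y ∈ O z) :
    LH z a s (m * (d2 * y * d2⁻¹ * y⁻¹) * m⁻¹) := by
  have hy' : m * y * m⁻¹ ∈ O z := h.eqv.mem_conj hy hm.1
  have key := lh_comm h hy'
  set q := d2⁻¹ * (m * d2 * m⁻¹) with hq
  have e : m * (d2 * y * d2⁻¹ * y⁻¹) * m⁻¹ =
      d2 * (q * (m * y * m⁻¹) * q⁻¹ * (m * y * m⁻¹)⁻¹) * (m * y * m⁻¹) * d2⁻¹ *
        (m * y * m⁻¹)⁻¹ := by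
    rw [hq]; group
  rw [e]
  rcases h.toCfg.comm_mem hm.2 hy' with k | k
  · rw [k, mul_one]; exact key
  · rw [k]
    have : d2 * z * (m * y * m⁻¹) * d2⁻¹ * (m * y * m⁻¹)⁻¹ =
        z * (d2 * (m * y * m⁻¹) * d2⁻¹ * (m * y * m⁻¹)⁻¹) := by
      rw [h.d2z]; group
    rw [this]
    exact LH.zmul h.zz key

/-- `N_s` acts on `⟨z, a, s⟩` -/
theorem hl {m : G} (hm : NS O z d2 m) : LH z a s (m * a * m⁻¹) ∧ LH z a s (m * s * m⁻¹) := by
  constructor
  · obtain ⟨u, hu, hua, hud⟩ := h.exu
    have : d2 * u * d2⁻¹ * u⁻¹ = a := by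
      calc d2 * u * d2⁻¹ * u⁻¹ = a⁻¹ * (a * d2 * u) * d2⁻¹ * u⁻¹ := by group
        _ = a⁻¹ * (u * d2) * d2⁻¹ * u⁻¹ := by rw [hud]
        _ = a⁻¹ := by group
        _ = a := inv_eq_of_mul_eq_one_left h.aa
    have k := hl_aux h hm hu
    rwa [this] at k
  · have : d2 * w * d2⁻¹ * w⁻¹ = s := by
      rw [h.hs, h.hd3, h.inv2]
      calc d2 * w * d2 * w⁻¹ = d2 * (w * d2 * w⁻¹) := by group
        _ = _ := rfl
    have k := hl_aux h hm h.hw
    rwa [this] at k

theorem s1 : s ≠ 1 := fun k => h.snO (k ▸ one_mem _)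

theorem sz1 : s ≠ z := fun k => h.snO (k ▸ h.toCfg.symm.aO)

/-- **(b2)**: `C_{M_1}(σ)` fixes `e`. -/
theorem ef_two (VC : Subgroup G) (hVab : ∀ x ∈ VC, ∀ y ∈ VC, x * y = y * x)
    (hVn : ∀ c, c * d = d * c → ∀ x ∈ VC, c * x * c⁻¹ ∈ VC) (hVz : z ∈ VC) (hVw : w ∈ VC)
    {m : G} (hm : NS O z d2 m) : m * a * m⁻¹ = a ∨ m * a * m⁻¹ = z * a := by
  have hdd : d2 * d = d * d2 := (h.toCfg.dd h.dD h.hd2).symm
  have hzz := h.zz
  have haa := h.aa
  have hsV : s ∈ VC := by
    have h1 := mul_mem (hVn d2 hdd w hVw) (inv_mem hVw)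
    have : s = d2 * w * d2⁻¹ * w⁻¹ := by rw [h.hs, h.hd3, h.inv2]; group
    rw [this]; exact h1
  have haV : a ∉ VC := fun k => h.nwa (hVab w hVw a k)
  -- the elements of `VC` in `LH`
  have hVL : ∀ x ∈ VC, LH z a s x → x ≠ 1 → x ≠ z → x = s ∨ x = z * s := by
    intro x hx hL h1 h2
    have hza : z * a ∉ VC := by
      intro k
      apply haV
      have := mul_mem hVz k
      rwa [← mul_assoc, hzz, one_mul] at this
    rcases hL with (k | k | k | k) | (k | k | k | k)
    · exact absurd k h1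
    · exact absurd k h2
    · exact absurd (k ▸ hx) haV
    · exact absurd (k ▸ hx) hza
    · exact Or.inl k
    · exact Or.inr k
    · exfalso; apply haV
      have := mul_mem (k ▸ hx) (inv_mem hsV)
      rwa [mul_inv_cancel_right] at this
    · exfalso; apply hza
      have := mul_mem (k ▸ hx) (inv_mem hsV)
      rwa [mul_inv_cancel_right] at this
  -- elements of `N_s` commuting with `d` fix `s` modulo `z`
  have fixs : ∀ m, NS O z d2 m → m * d = d * m → m * s * m⁻¹ = s ∨ m * s * m⁻¹ = z * s := by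
    intro m hm hmd
    refine hVL _ (hVn m hmd s hsV) (hl h hm).2 ?_ ?_
    · intro k
      apply s1 h
      have : m * s * m⁻¹ = m * 1 * m⁻¹ := by rw [k]; group
      exact mul_left_cancel (mul_right_cancel this)
    · intro k
      apply sz1 h
      have : m * s * m⁻¹ = m * z * m⁻¹ := by rw [k, hm.1]; group
      exact mul_left_cancel (mul_right_cancel this)
  obtain ⟨u, hu, huz, hu3, hus⟩ := h.exu0
  have hud2 : u * d2 = d2 * u := ((h.toCfg.symm.dp_iff.1 h.hd2).2 u hu).symm
  have hua : u * a = a * u := h.toCfg.symm.comm u hu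
  have huN : NS O z d2 u := by
    refine ⟨huz, ?_⟩
    have : d2⁻¹ * (u * d2 * u⁻¹) = 1 := by rw [hud2]; group
    rw [this]; exact one_mem _
  -- `u` moves `d`
  have hudz : u * d * u⁻¹ = z * d := by
    rcases h.toLin.movD huz with k | k
    · exfalso
      have hc : u * d = d * u := by rw [mul_inv_eq_iff_eq_mul] at k; exact k
      have h1 : u * s * u⁻¹ = z * a * s := by rw [hus]; group
      rcases fixs u huN hc with k' | k' <;> rw [h1] at k'
      · have : z * a = 1 := by simpa using k'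
        apply h.az
        have e := congrArg (z * ·) this
        simp only [← mul_assoc, hzz, one_mul, mul_one] at e
        exact e
      · have : z * a = z := mul_right_cancel k'
        exact h.a1 (by simpa using this)
    · exact k
  have main : ∀ m, NS O z d2 m → m * d = d * m → m * a * m⁻¹ = a ∨ m * a * m⁻¹ = z * a := by
    intro m hm hmd
    have huN' := NS.inv h huN
    have hn : NS O z d2 (u⁻¹ * m * u) := NS.mul h (NS.mul h huN' hm) huN
    have hnd : u⁻¹ * m * u * d = d * (u⁻¹ * m * u) := by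
      have e1 : u * d = z * d * u := by rw [mul_inv_eq_iff_eq_mul] at hudz; exact hudz
      have e2 : u⁻¹ * z = z * u⁻¹ := huN'.1
      have e3 : u⁻¹ * d = z * d * u⁻¹ := by
        rw [inv_mul_eq_iff_eq_mul]
        calc d = z * (z * d * u) * u⁻¹ := by rw [← mul_assoc, ← mul_assoc, hzz]; group
          _ = z * u * d * u⁻¹ := by rw [← e1]; group
          _ = u * (z * d * u⁻¹) := by rw [← huz]; group
      calc u⁻¹ * m * u * d = u⁻¹ * m * (u * d) := by group
        _ = u⁻¹ * (m * z) * d * u := by rw [e1]; group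
        _ = u⁻¹ * z * (m * d) * u := by rw [hm.1]; group
        _ = u⁻¹ * z * d * m * u := by rw [hmd]; group
        _ = z * (u⁻¹ * d) * m * u := by rw [e2]; group
        _ = z * z * d * u⁻¹ * m * u := by rw [e3]; group
        _ = d * (u⁻¹ * m * u) := by rw [hzz]; group
    have k1 := fixs _ hn hnd
    have k2 := fixs m hm hmd
    have hust : u * s * u⁻¹ = z * a * s := by rw [hus]; group
    have e : m * (z * a * s) * m⁻¹ = u * (u⁻¹ * m * u * s * (u⁻¹ * m * u)⁻¹) * u⁻¹ := by
      rw [← hust]; group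
    have e2 : m * (z * a * s) * m⁻¹ = z * (m * a * m⁻¹) * (m * s * m⁻¹) := by
      have : m * (z * a * s) * m⁻¹ = m * z * a * s * m⁻¹ := by group
      rw [this, hm.1]; group
    rw [e2] at e
    have sz' : z * s = s * z := h.sz.symm
    rcases k1 with k1 | k1 <;> rcases k2 with k2 | k2 <;> rw [k1, k2] at e
    · left
      rw [hust] at e
      have := mul_right_cancel e
      exact mul_left_cancel this
    · right
      rw [hust] at e
      have e' : m * a * m⁻¹ * (z * s) = a * s := by
        have := congrArg (z * ·) e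
        simp only [← mul_assoc, hzz, one_mul] at this
        simpa [mul_assoc] using this
      have : m * a * m⁻¹ * z = a := by
        apply mul_right_cancel (b := s); rw [← e']; group
      have h2 := congrArg (· * z) this
      simp only [mul_assoc, hzz, mul_one] at h2
      rw [← h.za] at h2
      simpa [mul_assoc] using h2
    · right
      have e3 : u * (z * s) * u⁻¹ = a * s := by
        calc u * (z * s) * u⁻¹ = u * z * s * u⁻¹ := by group
          _ = z * (u * s * u⁻¹) := by rw [huz]; group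
          _ = a * s := by rw [hust, ← mul_assoc, ← mul_assoc, hzz, one_mul]
      rw [e3] at e
      have := mul_right_cancel e
      have h2 := congrArg (z * ·) this
      simp only [← mul_assoc, hzz, one_mul] at h2
      simpa [mul_assoc] using h2
    · left
      have e3 : u * (z * s) * u⁻¹ = a * s := by
        calc u * (z * s) * u⁻¹ = u * z * s * u⁻¹ := by group
          _ = z * (u * s * u⁻¹) := by rw [huz]; group
          _ = a * s := by rw [hust, ← mul_assoc, ← mul_assoc, hzz, one_mul]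
      rw [e3] at e
      have hmz : m * a * m⁻¹ * z = z * (m * a * m⁻¹) := by
        have e1 : m⁻¹ * z = z * m⁻¹ := (NS.inv h hm).1
        calc m * a * m⁻¹ * z = m * a * (m⁻¹ * z) := by group
          _ = m * (a * z) * m⁻¹ := by rw [e1]; group
          _ = m * z * a * m⁻¹ := by rw [← h.za]; group
          _ = z * (m * a * m⁻¹) := by rw [hm.1]; group
      have e4 : z * (m * a * m⁻¹) * (z * s) = m * a * m⁻¹ * s := by
        calc z * (m * a * m⁻¹) * (z * s) = z * (m * a * m⁻¹ * z) * s := by group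
          _ = z * z * (m * a * m⁻¹) * s := by rw [hmz]; group
          _ = m * a * m⁻¹ * s := by rw [hzz, one_mul]
      rw [e4] at e
      exact mul_right_cancel e
  rcases h.toLin.movD hm.1 with k | k
  · refine main m hm ?_
    rw [mul_inv_eq_iff_eq_mul] at k; exact k
  · have hmu := NS.mul h hm huN
    have hmud : m * u * d = d * (m * u) := by
      have e1 : u * d = z * d * u := by rw [mul_inv_eq_iff_eq_mul] at hudz; exact hudz
      have e2 : m * d = z * d * m := by rw [mul_inv_eq_iff_eq_mul] at k; exact k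
      calc m * u * d = m * (u * d) := by group
        _ = m * z * d * u := by rw [e1]; group
        _ = z * (m * d) * u := by rw [hm.1]; group
        _ = z * z * d * m * u := by rw [e2]; group
        _ = d * (m * u) := by rw [hzz]; group
    have := main _ hmu hmud
    have e : m * u * a * (m * u)⁻¹ = m * a * m⁻¹ := by
      calc m * u * a * (m * u)⁻¹ = m * (u * a) * u⁻¹ * m⁻¹ := by group
        _ = m * a * m⁻¹ := by rw [hua]; group
    rwa [e] at this

end

end Cfsg.Agent.Omega.FFTwoA.BTwo
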