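import Cfsg.Agent.Omega.FFTwoA.Four
import Mathlib.GroupTheory.Index
import Mathlib.GroupTheory.QuotientGroup.Finite

/-!
# FF-2a: `I = O z ∩ O a` and the bijection (F1)
-/

set_option autoImplicit false

namespace Cfsg.Agent.Omega.FFTwoA.Inter

open Cfsg.Agent.Omega.FFTwoA.Main Cfsg.Agent.Omega.FFTwoA.Four

variable {G : Type*} [Group G] {O : G → Subgroup G} {z a : G}

/-- `O z ∩ O a ≤ O (z a)` -/
theorem inO3 (h : Cfg O z a) {x : G} (hx : x ∈ O z) (hxa : x ∈ O a) : x ∈ O (z * a) := by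
  obtain ⟨w, hw, hwa, _, _⟩ := h.w0
  have h1 : w * x * w⁻¹ ∈ O (z * a) := by
    have := (h.eqv.mem_iff w a x).2 hxa
    rwa [hwa] at this
  have hzO : z ∈ O (z * a) := h.third.aO
  have e : x = (w * x * w⁻¹ * x⁻¹)⁻¹ * (w * x * w⁻¹) := by group
  rw [e]
  refine mul_mem (inv_mem ?_) h1
  rcases h.comm_mem hw.1 hx with k | k <;> rw [k]
  · exact one_mem _
  · exact hzO

theorem Iab (h : Cfg O z a) {x y : G} (hx : x ∈ O z) (hxa : x ∈ O a) (hy : y ∈ O z)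
    (hya : y ∈ O a) : x * y = y * x := by
  rcases h.comm_mem hx hy with k | k
  · rw [mul_inv_eq_one, mul_inv_eq_iff_eq_mul] at k; exact k
  · rcases h.symm.comm_mem hxa hya with k' | k'
    · rw [mul_inv_eq_one, mul_inv_eq_iff_eq_mul] at k'; exact k'
    · exact absurd (k'.symm.trans k) h.az

theorem Isq (h : Cfg O z a) {x : G} (hx : x ∈ O z) (hxa : x ∈ O a) : x * x = 1 := by
  rcases h.sq hx with k | k
  · exact k
  · rcases h.symm.sq hxa with k' | k'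
    · exact k'
    · exact absurd (k'.symm.trans k) h.az

/-- `O a ∩ O (z a) ≤ O z` -/
theorem inO1 (h : Cfg O z a) {x : G} (hx : x ∈ O a) (hxa : x ∈ O (z * a)) : x ∈ O z := by
  have := inO3 h.rot' hx hxa
  rwa [aza h.za h.aa] at this

theorem Ig (h : Cfg O z a) {g x : G} (hg : g * z = z * g)
    (hga : g * a * g⁻¹ = a ∨ g * a * g⁻¹ = z * a) (hx : x ∈ O z) (hxa : x ∈ O a) :
    g * x * g⁻¹ ∈ O z ∧ g * x * g⁻¹ ∈ O a := by
  have h1 : g * x * g⁻¹ ∈ O z := h.eqv.mem_conj hx hg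
  refine ⟨h1, ?_⟩
  have h2 := (h.eqv.mem_iff g a x).2 hxa
  rw [MulAut.conj_apply g a] at h2
  rcases hga with k | k <;> rw [k] at h2
  · exact h2
  · have := inO3 h.swap h1 h2
    rwa [← mul_assoc, h.zz, one_mul] at this

/-- **(F1)** -/
theorem f1 [Finite G] (h : Cfg O z a) {y x : G} (hy : y ∈ O z) (hya : ¬ y * a = a * y)
    (hx : x ∈ O z) (hxa : x * a = a * x) :
    ∃ u ∈ O a, u * z = z * u ∧ u * y * u⁻¹ * y⁻¹ * x ∈ O a := by
  classical
  set U1 : Subgroup G := O z ⊓ Subgroup.centralizer {a} with hU1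
  set U2 : Subgroup G := O a ⊓ Subgroup.centralizer {z} with hU2
  set I : Subgroup G := O z ⊓ O a with hI
  have mU1 : ∀ x, x ∈ U1 ↔ x ∈ O z ∧ x * a = a * x := by
    intro x
    rw [hU1, Subgroup.mem_inf, Subgroup.mem_centralizer_singleton_iff]
  have mU2 : ∀ x, x ∈ U2 ↔ x ∈ O a ∧ x * z = z * x := by
    intro x
    rw [hU2, Subgroup.mem_inf, Subgroup.mem_centralizer_singleton_iff]
  have I1 : I ≤ U1 := fun x hx => (mU1 x).2 ⟨hx.1, h.symm.comm x hx.2⟩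
  have I2 : I ≤ U2 := fun x hx => (mU2 x).2 ⟨hx.2, h.comm x hx.1⟩
  have hzI : z ∈ I := ⟨h.zO, h.symm.aO⟩
  have hyz := h.comm y hy
  have hya' := ncomm h hy hya
  -- commutators
  have c12 : ∀ u ∈ U2, ∀ v ∈ U1, u * v * u⁻¹ * v⁻¹ ∈ I := by
    intro u hu v hv
    have hu' := (mU2 u).1 hu
    have hv' := (mU1 v).1 hv
    rw [hI, Subgroup.mem_inf]
    refine ⟨mul_mem (h.eqv.mem_conj hv'.1 hu'.2) (inv_mem hv'.1), ?_⟩
    have : v * u⁻¹ * v⁻¹ ∈ O a := h.eqv.mem_conj (inv_mem hu'.1) hv'.2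
    have := mul_mem hu'.1 this
    have e : u * v * u⁻¹ * v⁻¹ = u * (v * u⁻¹ * v⁻¹) := by group
    rw [e]; exact this
  have c11 : ∀ u ∈ U1, ∀ v ∈ U1, u * v * u⁻¹ * v⁻¹ ∈ I := by
    intro u hu v hv
    rcases h.comm_mem ((mU1 u).1 hu).1 ((mU1 v).1 hv).1 with k | k <;> rw [k]
    · exact one_mem _
    · exact hzI
  have fU : ∀ u ∈ U2, u * y * u⁻¹ * y⁻¹ ∈ U1 := by
    intro u hu
    have hu' := (mU2 u).1 hu
    have hua := h.symm.comm u hu'.1
    rw [mU1]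
    refine ⟨mul_mem (h.eqv.mem_conj hy hu'.2) (inv_mem hy), ?_⟩
    have e1 : y⁻¹ * a = z * a * y⁻¹ := by
      rw [inv_mul_eq_iff_eq_mul, ← mul_assoc, ← mul_assoc, hyz, mul_assoc z y a, hya',
        ← mul_assoc, ← mul_assoc, h.zz]
      group
    have e2 : u⁻¹ * (z * a) = z * a * u⁻¹ := by
      rw [inv_mul_eq_iff_eq_mul, ← mul_assoc, ← mul_assoc, hu'.2, mul_assoc z u a, hua]
      group
    have e3 : y * (z * a) = a * y := by
      rw [← mul_assoc, hyz, mul_assoc, hya', ← mul_assoc, ← mul_assoc, h.zz, one_mul]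
    calc u * y * u⁻¹ * y⁻¹ * a = u * y * u⁻¹ * (y⁻¹ * a) := by group
      _ = u * y * (u⁻¹ * (z * a)) * y⁻¹ := by rw [e1]; group
      _ = u * (y * (z * a)) * u⁻¹ * y⁻¹ := by rw [e2]; group
      _ = u * a * y * u⁻¹ * y⁻¹ := by rw [e3]; group
      _ = a * (u * y * u⁻¹ * y⁻¹) := by rw [hua]; group
  set N : Subgroup U1 := I.subgroupOf U1 with hN
  have hNn : N.Normal := by
    constructor
    rintro ⟨n, hn⟩ hnN ⟨g, hg⟩
    have hn' : n ∈ I := hnN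
    change g * n * g⁻¹ ∈ I
    have := mul_mem (c11 g hg n hn) hn'
    rwa [inv_mul_cancel_right] at this
  let φ : U2 →* U1 ⧸ N :=
    { toFun := fun u => QuotientGroup.mk ⟨(u : G) * y * (u : G)⁻¹ * y⁻¹, fU u u.2⟩
      map_one' := by
        rw [QuotientGroup.eq_one_iff]
        change ((1 : G) * y * (1 : G)⁻¹ * y⁻¹) ∈ I
        have : ((1 : G) * y * (1 : G)⁻¹ * y⁻¹) = 1 := by group
        rw [this]; exact one_mem _
      map_mul' := by
        rintro ⟨u, hu⟩ ⟨v, hv⟩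
        rw [← QuotientGroup.mk_mul, QuotientGroup.eq]
        change ((u * v) * y * (u * v)⁻¹ * y⁻¹)⁻¹ * ((u * y * u⁻¹ * y⁻¹) * (v * y * v⁻¹ * y⁻¹)) ∈ I
        have h1 := c12 u hu _ (fU v hv)
        have h2 := c11 _ (fU u hu) _ (fU v hv)
        have e : ((u * v) * y * (u * v)⁻¹ * y⁻¹)⁻¹ *
            ((u * y * u⁻¹ * y⁻¹) * (v * y * v⁻¹ * y⁻¹)) =
            ((u * v) * y * (u * v)⁻¹ * y⁻¹)⁻¹ *
            (((u * y * u⁻¹ * y⁻¹) * (v * y * v⁻¹ * y⁻¹) * (u * y * u⁻¹ * y⁻¹)⁻¹ *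
              (v * y * v⁻¹ * y⁻¹)⁻¹) * (u * (v * y * v⁻¹ * y⁻¹) * u⁻¹ *
              (v * y * v⁻¹ * y⁻¹)⁻¹)⁻¹) * ((u * v) * y * (u * v)⁻¹ * y⁻¹) := by group
        rw [e]
        have h3 := mul_mem h2 (inv_mem h1)
        have h4 : ((u * v) * y * (u * v)⁻¹ * y⁻¹)⁻¹ ∈ U1 := inv_mem (fU _ (mul_mem hu hv))
        have h5 := mul_mem (c11 _ h4 _ (I1 h3)) h3
        rw [inv_mul_cancel_right, inv_inv] at h5
        exact h5 }
  -- kernel
  have hker : φ.ker = I.subgroupOf U2 := by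
    ext ⟨u, hu⟩
    rw [MonoidHom.mem_ker, Subgroup.mem_subgroupOf]
    change (QuotientGroup.mk (⟨u * y * u⁻¹ * y⁻¹, fU u hu⟩ : U1) : U1 ⧸ N) = 1 ↔ u ∈ I
    rw [QuotientGroup.eq_one_iff]
    change u * y * u⁻¹ * y⁻¹ ∈ I ↔ u ∈ I
    have hu' := (mU2 u).1 hu
    constructor
    · intro k
      have h1 : y * u⁻¹ * y⁻¹ ∈ O a := by
        have := mul_mem (inv_mem hu'.1) k.2
        convert this using 1; group
      have h2 : y * u⁻¹ * y⁻¹ ∈ O (z * a) := by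
        have := (h.eqv.mem_iff y a u⁻¹).2 (inv_mem hu'.1)
        rwa [MulAut.conj_apply y a, hya', mul_assoc, mul_inv_cancel, mul_one] at this
      have h3 : y * u⁻¹ * y⁻¹ ∈ O z := inO1 h h1 h2
      rw [hI, Subgroup.mem_inf]
      refine ⟨?_, hu'.1⟩
      have := mul_mem (mul_mem (inv_mem hy) (inv_mem h3)) hy
      have e : u = y⁻¹ * (y * u⁻¹ * y⁻¹)⁻¹ * y := by group
      rw [e]; exact this
    · intro k
      rw [hI, Subgroup.mem_inf]
      refine ⟨mul_mem (h.eqv.mem_conj hy hu'.2) (inv_mem hy), ?_⟩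
      have h1 : y * u⁻¹ * y⁻¹ ∈ O z ∧ y * u⁻¹ * y⁻¹ ∈ O a :=
        Ig h hyz (Or.inr (by rw [hya', mul_assoc, mul_inv_cancel, mul_one])) (inv_mem k.1)
          (inv_mem k.2)
      have := mul_mem k.2 h1.2
      have e : u * y * u⁻¹ * y⁻¹ = u * (y * u⁻¹ * y⁻¹) := by group
      rw [e]; exact this
  -- cardinalities
  obtain ⟨g, hg, g1, g2, g3⟩ := h.third.w0
  have hza : z * a * z = a := by rw [h.za, mul_assoc, h.zz, mul_one]
  rw [hza] at g1 g3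
  have hcard : Nat.card U1 = Nat.card U2 := by
    have : U1.map (MulAut.conj g).toMonoidHom = U2 := by
      ext x
      constructor
      · rintro ⟨t, ht, rfl⟩
        have ht' := (mU1 t).1 ht
        rw [mU2]
        refine ⟨?_, ?_⟩
        · have := (h.eqv.mem_iff g z t).2 ht'.1
          rwa [g1] at this
        · have := congrArg (MulAut.conj g) ht'.2
          rw [map_mul, map_mul, g3] at this
          exact this
      · intro hx
        have hx' := (mU2 x).1 hx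
        have ex : MulAut.conj g ((MulAut.conj g).symm x) = x := MulEquiv.apply_symm_apply _ _
        refine ⟨(MulAut.conj g).symm x, ?_, ex⟩
        rw [SetLike.mem_coe, mU1]
        refine ⟨?_, ?_⟩
        · rw [← h.eqv.mem_iff g, g1, ex]; exact hx'.1
        · apply (MulAut.conj g).injective
          rw [map_mul, map_mul, g3, ex]; exact hx'.2
    rw [← this]
    exact (Nat.card_congr (U1.equivMapOfInjective _ (MulAut.conj g).injective).toEquiv)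
  have hk : Nat.card φ.ker = Nat.card I := by
    rw [hker]
    exact Nat.card_congr (Subgroup.subgroupOfEquivOfLe I2).toEquiv
  have hNc : Nat.card N = Nat.card I := Nat.card_congr (Subgroup.subgroupOfEquivOfLe I1).toEquiv
  have e1 : Nat.card φ.ker * φ.ker.index = Nat.card U2 := Subgroup.card_mul_index _
  have e2 : Nat.card N * N.index = Nat.card U1 := Subgroup.card_mul_index _
  rw [Subgroup.index_ker, hk] at e1
  rw [hNc] at e2
  have hIpos : 0 < Nat.card I := Nat.card_pos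
  have e3 : Nat.card φ.range = Nat.card (U1 ⧸ N) := by
    have : Nat.card I * Nat.card φ.range = Nat.card I * N.index := by rw [e1, e2, hcard]
    exact Nat.eq_of_mul_eq_mul_left hIpos this
  have hsurj : φ.range = ⊤ := Subgroup.eq_top_of_card_eq _ e3
  have hxU : x⁻¹ ∈ U1 := inv_mem ((mU1 x).2 ⟨hx, hxa⟩)
  have : (QuotientGroup.mk (⟨x⁻¹, hxU⟩ : U1) : U1 ⧸ N) ∈ φ.range := by
    rw [hsurj]; trivial
  obtain ⟨⟨u, hu⟩, huφ⟩ := this
  have hu' := (mU2 u).1 hu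
  refine ⟨u, hu'.1, hu'.2, ?_⟩
  change (QuotientGroup.mk (⟨u * y * u⁻¹ * y⁻¹, fU u hu⟩ : U1) : U1 ⧸ N) = _ at huφ
  rw [QuotientGroup.eq] at huφ
  have hm : (u * y * u⁻¹ * y⁻¹)⁻¹ * x⁻¹ ∈ I := huφ
  have hc := c11 _ (inv_mem hxU) _ (fU u hu)
  rw [inv_inv] at hc
  have : u * y * u⁻¹ * y⁻¹ * x = (x * (u * y * u⁻¹ * y⁻¹) * x⁻¹ * (u * y * u⁻¹ * y⁻¹)⁻¹)⁻¹ *
      ((u * y * u⁻¹ * y⁻¹)⁻¹ * x⁻¹)⁻¹ * 1 := by group
  have h6 : ((u * y * u⁻¹ * y⁻¹)⁻¹ * x⁻¹)⁻¹ = x * (u * y * u⁻¹ * y⁻¹) := by group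
  have h7 : x * (u * y * u⁻¹ * y⁻¹) ∈ O a := by
    rw [← h6]; exact (inv_mem hm).2
  have h8 : u * y * u⁻¹ * y⁻¹ * x =
      (x * (u * y * u⁻¹ * y⁻¹) * x⁻¹ * (u * y * u⁻¹ * y⁻¹)⁻¹)⁻¹ *
        (x * (u * y * u⁻¹ * y⁻¹)) := by group
  rw [h8]
  exact mul_mem (inv_mem hc.2) h7

end Cfsg.Agent.Omega.FFTwoA.Inter
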