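import Cfsg.Agent.Omega.FFTwoA.Four

/-!
# FF-2a (7): the case `Z(O z) = {1, z, d, z d}`, local facts

bb OMEGA #12472 (helper9), (N1)-(N3), (F1), in the version `W = Q` of `Main`.
-/

set_option autoImplicit false

namespace Cfsg.Agent.Omega.FFTwoA.Line

open Cfsg.Agent.Omega.FFTwoA.Main Cfsg.Agent.Omega.FFTwoA.Four

variable {G : Type*} [Group G] {O : G → Subgroup G} {z a d : G}

/-- The configuration with `Z(O z) = {1, z, d, z d}` elementary of order `4`. -/
structure Lin (O : G → Subgroup G) (z a d : G) : Prop extends Cfg O z a where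
  dD : Dp O z d
  dq : d * d = 1
  d1 : d ≠ 1
  dz : d ≠ z
  four : ∀ x, Dp O z x → x = 1 ∨ x = z ∨ x = d ∨ x = z * d
  nt : ∀ s, s * z = z * s → (∀ q ∈ O z, Dp O z (q * s * q⁻¹ * s⁻¹)) → s ∈ O z

theorem Lin.conj (h : Lin O z a d) (g : G) :
    Lin O (MulAut.conj g z) (MulAut.conj g a) (MulAut.conj g d) := by
  have inj := (MulAut.conj g).injective
  refine ⟨h.toCfg.conj g, (h.eqv.dp_iff g z d).2 h.dD, ?_, ?_, ?_, ?_, ?_⟩
  · rw [← map_mul, h.dq, map_one]
  · rw [ne_eq, map_eq_one_iff _ inj]; exact h.d1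
  · rw [ne_eq, inj.eq_iff]; exact h.dz
  · intro x hx
    obtain ⟨x, rfl⟩ := (MulAut.conj g).surjective x
    rw [← map_mul, inj.eq_iff, inj.eq_iff, inj.eq_iff, map_eq_one_iff _ inj]
    exact h.four x ((h.eqv.dp_iff g z x).1 hx)
  · intro s hs hq
    obtain ⟨s, rfl⟩ := (MulAut.conj g).surjective s
    rw [h.eqv.mem_iff]
    rw [← map_mul, ← map_mul, inj.eq_iff] at hs
    refine h.nt s hs fun q hqO => ?_
    have := hq _ ((h.eqv.mem_iff g z q).2 hqO)
    rwa [← map_mul, ← map_inv, ← map_mul, ← map_inv, ← map_mul, h.eqv.dp_iff] at this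

/-- non-central elements of `D_z`: another choice of `d` -/
theorem Lin.change (h : Lin O z a d) {x : G} (hx : Dp O z x) (h1 : x ≠ 1) (hz : x ≠ z) :
    Lin O z a x := by
  have hdz : d * z = z * d := h.comm d h.dD.1
  rcases h.four x hx with k | k | k | k
  · exact absurd k h1
  · exact absurd k hz
  · rw [k]; exact h
  · refine ⟨h.toCfg, hx, ?_, h1, hz, ?_, h.nt⟩
    · rw [k]
      calc z * d * (z * d) = z * (d * z) * d := by group
        _ = z * z * (d * d) := by rw [hdz]; group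
        _ = 1 := by rw [h.zz, h.dq, one_mul]
    · intro y hy
      rcases h.four y hy with e | e | e | e
      · exact Or.inl e
      · exact Or.inr (Or.inl e)
      · right; right; right
        rw [k, ← mul_assoc, h.zz, one_mul]; exact e
      · right; right; left
        rw [k]; exact e

theorem Lin.swap (h : Lin O z a d) : Lin O z (z * a) d := by
  exact ⟨h.toCfg.swap, h.dD, h.dq, h.d1, h.dz, h.four, h.nt⟩

/-- transport to another point of `V` -/
theorem Lin.pt (h : Lin O z a d) {g x : G} {z' a' : G} (hz : MulAut.conj g z = z')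
    (ha : MulAut.conj g a = a') (hx : Dp O z' x) (h1 : x ≠ 1) (h2 : x ≠ z') :
    Lin O z' a' x := by
  have := h.conj g
  rw [hz, ha] at this
  exact this.change hx h1 h2

theorem Lin.rot' (h : Lin O z a d) : ∃ e, Lin O a (z * a) e := by
  obtain ⟨n, h1, h2⟩ := h.rot
  have := h.conj n
  rw [MulAut.conj_apply n z, MulAut.conj_apply n a, h1, h2] at this
  exact ⟨_, this⟩

/-- symmetry: `(a, z, e)` for every non-central `e ∈ D_a` -/
theorem Lin.symm (h : Lin O z a d) {e : G} (he : Dp O a e) (h1 : e ≠ 1) (h2 : e ≠ a) :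
    Lin O a z e := by
  obtain ⟨e', h'⟩ := h.rot'
  have := h'.swap
  rw [aza h.za h.aa] at this
  exact this.change he h1 h2

theorem Lin.exD (h : Lin O z a d) : ∃ e, Dp O a e ∧ e ≠ 1 ∧ e ≠ a := by
  obtain ⟨e, h'⟩ := h.rot'
  exact ⟨e, h'.dD, h'.d1, h'.dz⟩

section

/-- The data attached to an element `w` of `O z` moving `a`. -/
structure Dat (O : G → Subgroup G) (z a d w d2 d3 s : G) : Prop extends Lin O z a d where
  hw : w ∈ O z
  wa : w * a = z * a * w
  hd2 : Dp O a d2
  d21 : d2 ≠ 1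
  d2a : d2 ≠ a
  hd3 : d3 = w * d2 * w⁻¹
  hs : s = d2 * d3

variable {w d2 d3 s : G}

theorem Lin.exDat (h : Lin O z a d) {w d2 : G} (hw : w ∈ O z) (hwa : ¬ w * a = a * w)
    (hd2 : Dp O a d2) (h1 : d2 ≠ 1) (h2 : d2 ≠ a) :
    Dat O z a d w d2 (w * d2 * w⁻¹) (d2 * (w * d2 * w⁻¹)) :=
  ⟨h, hw, ncomm h.toCfg hw hwa, hd2, h1, h2, rfl, rfl⟩

namespace Dat

variable (h : Dat O z a d w d2 d3 s)
include h

theorem wz : w * z = z * w := h.comm w h.hw

theorem nwa : ¬ w * a = a * w := by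
  intro k
  rw [h.wa] at k
  have : z * a = a := mul_right_cancel k
  exact h.z1 (by simpa using this)

theorem d2z : d2 * z = z * d2 := h.toCfg.symm.dcomm h.hd2

theorem d2a' : d2 * a = a * d2 := h.toCfg.symm.comm d2 h.hd2.1

theorem d2q : d2 * d2 = 1 := (h.toLin.symm h.hd2 h.d21 h.d2a).dq

theorem conjwa : MulAut.conj w a = z * a := by
  rw [MulAut.conj_apply, h.wa, mul_assoc, mul_inv_cancel, mul_one]

theorem dp3 : Dp O (z * a) d3 := by
  have := (h.eqv.dp_iff w a d2).2 h.hd2
  rwa [h.conjwa, MulAut.conj_apply, ← h.hd3] at this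

theorem d3q : d3 * d3 = 1 := by
  rw [h.hd3]
  calc w * d2 * w⁻¹ * (w * d2 * w⁻¹) = w * (d2 * d2) * w⁻¹ := by group
    _ = 1 := by rw [h.d2q]; group

theorem d31 : d3 ≠ 1 := by
  intro k
  apply h.d21
  rw [h.hd3] at k
  have : w * d2 * w⁻¹ = w * 1 * w⁻¹ := by rw [k]; group
  exact mul_left_cancel (mul_right_cancel this)

theorem d3a : d3 ≠ z * a := by
  intro k
  apply h.d2a
  have e : w * a * w⁻¹ = z * a := h.conjwa
  rw [h.hd3, ← e] at k
  exact mul_left_cancel (mul_right_cancel k)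

theorem d3z : d3 * z = z * d3 := h.toCfg.third.dcomm h.dp3

theorem d3za : d3 * (z * a) = z * a * d3 := h.toCfg.third.comm d3 h.dp3.1

theorem d3a' : d3 * a = a * d3 := by
  have h1 := h.d3za
  rw [← mul_assoc, h.d3z, mul_assoc, mul_assoc] at h1
  exact mul_left_cancel h1

theorem d23 : d2 * d3 = d3 * d2 := h.toCfg.rot'.dd h.hd2 h.dp3

theorem wd2 : w * d2 = d3 * w := by rw [h.hd3]; group

theorem wd3 : w * d3 = d2 * w := by
  have hww := h.toCfg.sq h.hw
  have e : w * d3 = w * w * d2 * w⁻¹ := by rw [h.hd3]; group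
  rcases hww with k | k
  · have : w⁻¹ = w := inv_eq_of_mul_eq_one_left k
    rw [e, k, one_mul, this]
  · have : w⁻¹ = w * z := by
      symm
      apply eq_inv_of_mul_eq_one_left
      rw [mul_assoc, ← h.wz, ← mul_assoc, k, h.zz]
    rw [e, k, this, ← h.d2z, mul_assoc, ← mul_assoc z, ← h.wz, mul_assoc w, h.zz, mul_one]

theorem ws : w * s = s * w := by
  rw [h.hs, ← mul_assoc, h.wd2, mul_assoc, h.wd3, ← mul_assoc, ← h.d23]

theorem sO : s ∈ O z := by
  have h1 : d2 * w * d2⁻¹ ∈ O z := h.eqv.mem_conj h.hw h.d2z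
  have h2 : d2⁻¹ = d2 := inv_eq_of_mul_eq_one_left h.d2q
  rw [h2] at h1
  have : s = d2 * w * d2 * w⁻¹ := by rw [h.hs, h.hd3]; group
  rw [this]
  exact mul_mem h1 (inv_mem h.hw)

theorem sq1 : s * s = 1 := by
  rw [h.hs]
  calc d2 * d3 * (d2 * d3) = d2 * (d3 * d2) * d3 := by group
    _ = d2 * d2 * (d3 * d3) := by rw [← h.d23]; group
    _ = 1 := by rw [h.d2q, h.d3q, one_mul]

theorem sa' : s * a = a * s := by
  rw [h.hs, mul_assoc, h.d3a', ← mul_assoc, h.d2a', mul_assoc]

theorem sz : s * z = z * s := h.comm s h.sO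

theorem sd2 : s * d2 = d2 * s := by
  rw [h.hs, mul_assoc, ← h.d23]

theorem sd3 : s * d3 = d3 * s := by
  rw [h.hs, h.d23, mul_assoc, h.d23]

/-- (N2) -/
theorem snO : s ∉ O a := by
  intro k
  have h1 : d3 ∈ O a := by
    have : d3 = d2⁻¹ * s := by rw [h.hs]; group
    rw [this]
    exact mul_mem (inv_mem h.hd2.1) k
  rcases h.toCfg.rot'.symm.d_inter h.dp3 h1 with k | k
  · exact h.d31 k
  · exact h.d3a k

theorem inv2 : d2⁻¹ = d2 := inv_eq_of_mul_eq_one_left h.d2q

theorem inv3 : d3⁻¹ = d3 := inv_eq_of_mul_eq_one_left h.d3q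

/-- effect of `u ∈ C_{O z}(a)` on `d2`, `d3`, `s` -/
theorem eff {u : G} (hu : u ∈ O z) (hua : u * a = a * u) :
    (u * d2 = d2 * u ∧ u * d3 = d3 * u ∧ u * s = s * u) ∨
    (u * d2 = a * d2 * u ∧ u * d3 = z * a * d3 * u ∧ u * s = z * s * u) := by
  have huz := h.comm u hu
  have huza : u * (z * a) = z * a * u := by rw [← mul_assoc, huz, mul_assoc, hua, mul_assoc]
  have hzz := h.zz
  have haa := h.aa
  have hs := h.toCfg.comm_mem hu h.sO
  have key : ∀ x y : G, u * d2 = x * d2 * u → u * d3 = y * d3 * u → (y * d2 = d2 * y) →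
      u * s * u⁻¹ * s⁻¹ = x * y := by
    intro x y e1 e2 e3
    have : u * s = x * y * s * u := by
      rw [h.hs, ← mul_assoc, e1]
      calc x * d2 * u * d3 = x * d2 * (u * d3) := by group
        _ = x * (d2 * y) * d3 * u := by rw [e2]; group
        _ = x * y * (d2 * d3) * u := by rw [← e3]; group
    rw [this]; group
  have zd2 : (z * a) * d2 = d2 * (z * a) := by
    rw [← mul_assoc, h.d2z, mul_assoc, mul_assoc, h.d2a']
  rcases h.toCfg.symm.cd h.hd2 hu hua with k1 | k1 <;>
    rcases h.toCfg.third.cd h.dp3 hu huza with k2 | k2 <;>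
    rw [mul_inv_eq_iff_eq_mul, mul_inv_eq_iff_eq_mul] at k1 k2
  · left
    rw [one_mul] at k1 k2
    refine ⟨k1, k2, ?_⟩
    rw [h.hs, ← mul_assoc, k1, mul_assoc, k2, mul_assoc]
  · exfalso
    have := key 1 (z * a) k1 k2 zd2
    rw [this, one_mul] at hs
    rcases hs with hs | hs
    · apply h.az
      have : z * (z * a) = z * 1 := by rw [hs]
      rw [← mul_assoc, hzz, one_mul, mul_one] at this
      exact this
    · exact h.a1 (by simpa using hs)
  · exfalso
    have := key a 1 k1 k2 (by simp)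
    rw [this, mul_one] at hs
    rcases hs with hs | hs
    · exact h.a1 hs
    · exact h.az hs
  · right
    refine ⟨k1, k2, ?_⟩
    have := key a (z * a) k1 k2 zd2
    rw [aza h.za haa, mul_inv_eq_iff_eq_mul, mul_inv_eq_iff_eq_mul] at this
    exact this

/-- (N3) -/
theorem exu : ∃ u ∈ O z, u * a = a * u ∧ u * d2 = a * d2 * u := by
  by_contra hcon
  push Not at hcon
  have h1 : ∀ u ∈ O z, u * a = a * u → u * d2 = d2 * u ∧ u * s = s * u := by
    intro u hu hua
    rcases h.eff hu hua with k | k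
    · exact ⟨k.1, k.2.2⟩
    · exact absurd k.1 (hcon u hu hua)
  have dec : ∀ q ∈ O z, ¬ q * a = a * q → w⁻¹ * q * a = a * (w⁻¹ * q) := fun q hq hqa =>
    inv_mul_comm h.toCfg hq h.hw hqa h.nwa
  have hsD : Dp O z s := by
    rw [h.toCfg.dp_iff]
    refine ⟨h.sO, fun q hq => ?_⟩
    by_cases hqa : q * a = a * q
    · exact (h1 q hq hqa).2.symm
    · have k := (h1 _ (mul_mem (inv_mem h.hw) hq) (dec q hq hqa)).2
      calc s * q = s * w * (w⁻¹ * q) := by group
        _ = w * (s * (w⁻¹ * q)) := by rw [← h.ws]; group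
        _ = q * s := by rw [← k]; group
  have hdO : d2 ∈ O z := by
    refine h.nt d2 h.d2z fun q hq => ?_
    by_cases hqa : q * a = a * q
    · have : q * d2 * q⁻¹ * d2⁻¹ = 1 := by rw [(h1 q hq hqa).1]; group
      rw [this]
      exact dp_mul h.toCfg.dz (dp_inv h.toCfg.dz) |> fun k => by
        rwa [mul_inv_cancel] at k
    · have k := (h1 _ (mul_mem (inv_mem h.hw) hq) (dec q hq hqa)).1
      have : q * d2 * q⁻¹ * d2⁻¹ = s := by
        calc q * d2 * q⁻¹ * d2⁻¹ = w * (w⁻¹ * q * d2) * (w⁻¹ * q)⁻¹ * w⁻¹ * d2⁻¹ := by group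
          _ = w * d2 * w⁻¹ * d2⁻¹ := by rw [k]; group
          _ = d3 * d2⁻¹ := by rw [h.hd3]
          _ = s := by rw [h.inv2, h.hs, h.d23]
      rw [this]
      exact hsD
  rcases h.toCfg.symm.d_inter h.hd2 hdO with k | k
  · exact h.d21 k
  · exact h.d2a k

end Dat

/-- (N3), general form: every `x ∈ D_a - ⟨a⟩` is moved by some `u ∈ C_{O z}(a)` -/
theorem Lin.exu (h : Lin O z a d) {x : G} (hx : Dp O a x) (h1 : x ≠ 1) (h2 : x ≠ a) :
    ∃ u ∈ O z, u * a = a * u ∧ u * x = a * x * u := by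
  obtain ⟨w, hw, hwa, _, _⟩ := h.w0
  have hwa' : ¬ w * a = a * w := by
    intro k
    rw [MulAut.conj_apply, k, mul_assoc, mul_inv_cancel, mul_one] at hwa
    exact h.z1 (by simpa using hwa.symm)
  exact (h.exDat hw.1 hwa' hx h1 h2).exu

/-- conjugating `d` inside `D_z` by an element commuting with `z` -/
theorem Lin.movD (h : Lin O z a d) {u : G} (huz : u * z = z * u) :
    u * d * u⁻¹ = d ∨ u * d * u⁻¹ = z * d := by
  have hD : Dp O z (u * d * u⁻¹) := h.eqv.dp_conj h.dD huz
  rcases h.four _ hD with k | k | k | k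
  · exfalso
    apply h.d1
    have : u * d * u⁻¹ = u * 1 * u⁻¹ := by rw [k]; group
    exact mul_left_cancel (mul_right_cancel this)
  · exfalso
    apply h.dz
    have : u * d * u⁻¹ = u * z * u⁻¹ := by rw [k, huz]; group
    exact mul_left_cancel (mul_right_cancel this)
  · exact Or.inl k
  · exact Or.inr k

/-- some element of `O a` commuting with `z` moves `d` -/
theorem Lin.exd (h : Lin O z a d) : ∃ u ∈ O a, u * z = z * u ∧ u * d = z * d * u := by
  obtain ⟨e, he, h1, h2⟩ := h.exD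
  exact (h.symm he h1 h2).exu h.dD h.d1 h.dz

namespace Dat

variable (h : Dat O z a d w d2 d3 s)
include h

theorem linA : Lin O a z d2 := h.toLin.symm h.hd2 h.d21 h.d2a

theorem linA' : Lin O a (z * a) d2 := by
  have := h.linA.swap
  rwa [← h.za] at this

/-- `u0 ∈ O a` commuting with `z` and moving `d3` -/
theorem exu0 : ∃ u ∈ O a, u * z = z * u ∧ u * d3 = z * a * d3 * u ∧
    u * s = z * a * s * u := by
  obtain ⟨u, hu, h1, h2⟩ := h.linA'.exu h.dp3 h.d31 h.d3a
  have hua := h.toCfg.symm.comm u hu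
  have huz : u * z = z * u := by
    have : z = z * a * a := by rw [mul_assoc, h.aa, mul_one]
    rw [this, ← mul_assoc, h1, mul_assoc, hua, ← mul_assoc]
  refine ⟨u, hu, huz, h2, ?_⟩
  have hud : u * d2 = d2 * u := ((h.toCfg.symm.dp_iff.1 h.hd2).2 u hu).symm
  have hzd : d2 * (z * a) = z * a * d2 := by
    rw [← mul_assoc, h.d2z, mul_assoc, h.d2a', mul_assoc]
  rw [h.hs, ← mul_assoc, hud, mul_assoc, h2]
  calc d2 * (z * a * d3 * u) = d2 * (z * a) * d3 * u := by group
    _ = z * a * (d2 * d3) * u := by rw [hzd]; group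

theorem f2 (x : G) (hx : Dp O a x) : x = 1 ∨ x = a ∨ x = d2 ∨ x = a * d2 := h.linA.four x hx

theorem lin3 : Lin O (z * a) z d3 := by
  have h1 := h.toLin.swap.conj w
  have e : MulAut.conj w a = z * a := h.conjwa
  have h2 : Lin O (z * a) z (MulAut.conj w d2) := by
    have h3 := h.linA.conj w
    have e2 : MulAut.conj w z = z := by
      rw [MulAut.conj_apply, h.wz, mul_assoc, mul_inv_cancel, mul_one]
    rwa [e, e2] at h3
  rwa [MulAut.conj_apply, ← h.hd3] at h2

theorem f3 (x : G) (hx : Dp O (z * a) x) : x = 1 ∨ x = z * a ∨ x = d3 ∨ x = z * a * d3 :=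
  h.lin3.four x hx

/-- (N1) -/
theorem n1 {y : G} (hy : y ∈ O z) :
    (y * a = a * y ∧ y * s = s * y ∧ d2 * y = y * d2) ∨
    (y * a = a * y ∧ y * s = z * s * y ∧ d2 * y = a * y * d2) ∨
    (y * a = z * a * y ∧ y * s = s * y ∧ d2 * y = s * y * d2) ∨
    (y * a = z * a * y ∧ y * s = z * s * y ∧ d2 * y = z * (s * a) * y * d2) := by
  have haa := h.aa
  have hzz := h.zz
  by_cases hya : y * a = a * y
  · rcases h.eff hy hya with k | k
    · exact Or.inl ⟨hya, k.2.2, k.1.symm⟩
    · right; left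
      refine ⟨hya, k.2.2, ?_⟩
      have := k.1
      calc d2 * y = a * a * (d2 * y) := by rw [haa, one_mul]
        _ = a * (a * d2 * y) := by group
        _ = a * y * d2 := by rw [← this]; group
  · right; right
    have hya' := ncomm h.toCfg hy hya
    have hu := inv_mul_comm h.toCfg hy h.hw hya h.nwa
    have huO : w⁻¹ * y ∈ O z := mul_mem (inv_mem h.hw) hy
    have hws := h.ws
    have hdw : d2 * w = s * w * d2 := by
      calc d2 * w = d2 * d3 * (d3 * w) := by
            rw [mul_assoc d2 d3, ← mul_assoc d3 d3, h.d3q, one_mul]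
        _ = s * (d3 * w) := by rw [← h.hs]
        _ = s * w * d2 := by rw [← h.wd2, mul_assoc]
    rcases h.eff huO hu with k | k
    · left
      refine ⟨hya', ?_, ?_⟩
      · calc y * s = w * (w⁻¹ * y * s) := by group
          _ = w * s * (w⁻¹ * y) := by rw [k.2.2]; group
          _ = s * y := by rw [hws]; group
      · calc d2 * y = d2 * w * (w⁻¹ * y) := by group
          _ = s * w * (d2 * (w⁻¹ * y)) := by rw [hdw]; group
          _ = s * y * d2 := by rw [← k.1]; group
    · right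
      refine ⟨hya', ?_, ?_⟩
      · calc y * s = w * (w⁻¹ * y * s) := by group
          _ = w * z * s * (w⁻¹ * y) := by rw [k.2.2]; group
          _ = z * (w * s) * (w⁻¹ * y) := by rw [h.wz]; group
          _ = z * s * y := by rw [hws]; group
      · have k1 : d2 * (w⁻¹ * y) = a * (w⁻¹ * y) * d2 := by
          have := k.1
          calc d2 * (w⁻¹ * y) = a * a * (d2 * (w⁻¹ * y)) := by rw [haa, one_mul]
            _ = a * (a * d2 * (w⁻¹ * y)) := by group
            _ = a * (w⁻¹ * y) * d2 := by rw [← this]; group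
        calc d2 * y = d2 * w * (w⁻¹ * y) := by group
          _ = s * w * (d2 * (w⁻¹ * y)) := by rw [hdw]; group
          _ = s * (w * a) * (w⁻¹ * y) * d2 := by rw [k1]; group
          _ = s * z * a * w * (w⁻¹ * y) * d2 := by rw [h.wa]; group
          _ = z * s * a * y * d2 := by rw [h.sz]; group
          _ = z * (s * a) * y * d2 := by group

end Dat

end

end Cfsg.Agent.Omega.FFTwoA.Line
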