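import Cfsg.Agent.Omega.FFTwoA.Main

/-!
# FF-2a: `|Z(O₂(C(z)))| ≤ 4`

bb OMEGA #12111 (helper146), (1), (*), (2), in the version `W = Q` of `Main`.
-/

set_option autoImplicit false

namespace Cfsg.Agent.Omega.FFTwoA.Four

open Cfsg.Agent.Omega.FFTwoA.Main

variable {G : Type*} [Group G] {O : G → Subgroup G} {z a b c : G}

/-- (*) An element commuting with `z`, `a` and `D_z` acts on `D_a` modulo `⟨a⟩` trivially. -/
theorem star (h : Cfg O z a) {m : G} (hmz : m * z = z * m) (hma : m * a = a * m)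
    (hmD : ∀ k, Dp O z k → m * k = k * m) {k : G} (hk : Dp O a k) :
    m * k * m⁻¹ * k⁻¹ = 1 ∨ m * k * m⁻¹ * k⁻¹ = a := by
  obtain ⟨w, hw, h1, h2, h3⟩ := h.third.w0
  -- `w z w⁻¹ = z a z = a`
  have hza : z * a * z = a := by rw [h.za, mul_assoc, h.zz, mul_one]
  rw [hza] at h1 h3
  -- `k' = w⁻¹ k w ∈ D_z`
  have hk' : Dp O z (w⁻¹ * k * w) := by
    rw [← h.eqv.dp_iff w]
    rw [h1]
    have : MulAut.conj w (w⁻¹ * k * w) = k := by rw [MulAut.conj_apply]; group
    rwa [this]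
  have hmza : m * (z * a) = z * a * m := by rw [← mul_assoc, hmz, mul_assoc, hma, mul_assoc]
  have hmiza : m⁻¹ * (z * a) = z * a * m⁻¹ := by
    rw [inv_mul_eq_iff_eq_mul, ← mul_assoc, hmza, mul_assoc, mul_inv_cancel, mul_one]
  set u := m⁻¹ * w⁻¹ * m * w with hu
  have huO : u ∈ O (z * a) := by
    have := mul_mem (h.eqv.mem_conj (inv_mem hw.1) hmiza) hw.1
    rw [inv_inv] at this
    exact this
  -- `u` commutes with `z`
  have hwz : w * z = a * w := by
    rw [MulAut.conj_apply, mul_inv_eq_iff_eq_mul] at h1; exact h1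
  have hwia : w⁻¹ * a = z * w⁻¹ := by
    rw [inv_mul_eq_iff_eq_mul, ← mul_assoc, hwz, mul_assoc, mul_inv_cancel, mul_one]
  have hmiz : m⁻¹ * z = z * m⁻¹ := by
    rw [inv_mul_eq_iff_eq_mul, ← mul_assoc, hmz, mul_assoc, mul_inv_cancel, mul_one]
  have huz : u * z = z * u := by
    calc u * z = m⁻¹ * w⁻¹ * m * (w * z) := by rw [hu]; group
      _ = m⁻¹ * w⁻¹ * (m * a) * w := by rw [hwz]; group
      _ = m⁻¹ * (w⁻¹ * a) * m * w := by rw [hma]; group
      _ = m⁻¹ * z * w⁻¹ * m * w := by rw [hwia]; group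
      _ = z * u := by rw [hmiz, hu]; group
  have key := h.swap.cd hk' huO huz
  have hmk : m * (w⁻¹ * k * w) = w⁻¹ * k * w * m := hmD _ hk'
  have e : w⁻¹ * (m * k * m⁻¹ * k⁻¹) * w = u * (w⁻¹ * k * w) * u⁻¹ * (w⁻¹ * k * w)⁻¹ := by
    have e1 : w⁻¹ * (m * k * m⁻¹ * k⁻¹) * w
        = m * (u * (w⁻¹ * k * w) * u⁻¹ * (w⁻¹ * k * w)⁻¹) * ((w⁻¹ * k * w) * m⁻¹ *
          (w⁻¹ * k * w)⁻¹) := by
      rw [hu]; group
    have e2 : (w⁻¹ * k * w) * m⁻¹ * (w⁻¹ * k * w)⁻¹ = m⁻¹ := by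
      rw [mul_inv_eq_iff_eq_mul, eq_inv_mul_iff_mul_eq, ← mul_assoc, hmk]
      group
    rw [e1, e2]
    rcases key with k1 | k1 <;> rw [k1]
    · group
    · rw [hmz]; group
  rcases key with k1 | k1 <;> rw [k1] at e
  · left
    have : m * k * m⁻¹ * k⁻¹ = w * (w⁻¹ * (m * k * m⁻¹ * k⁻¹) * w) * w⁻¹ := by group
    rw [this, e]; group
  · right
    have : m * k * m⁻¹ * k⁻¹ = w * (w⁻¹ * (m * k * m⁻¹ * k⁻¹) * w) * w⁻¹ := by group
    rw [this, e]; exact h1

/-- `D_z` is abelian -/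
theorem dab (h : Cfg O z a) {d e : G} (hd : Dp O z d) (he : Dp O z e) : d * e = e * d :=
  (h.dp_iff.1 hd).2 e he.1

/-- two elements of `O z` with the same effect on `b` differ by an element commuting with it -/
theorem inv_mul_comm {u v b : G} (h : Cfg O z b) (hu : u ∈ O z) (hv : v ∈ O z)
    (hub : ¬ u * b = b * u) (hvb : ¬ v * b = b * v) : v⁻¹ * u * b = b * (v⁻¹ * u) := by
  have hu' : u * b = z * b * u := by
    rcases h.norm u hu with k | k <;> rw [mul_inv_eq_iff_eq_mul] at k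
    · exact absurd k hub
    · exact k
  have hv' : v * b = z * b * v := by
    rcases h.norm v hv with k | k <;> rw [mul_inv_eq_iff_eq_mul] at k
    · exact absurd k hvb
    · exact k
  have hz : v * (z * b) = b * v := by
    rw [← mul_assoc, h.comm v hv, mul_assoc, hv', ← mul_assoc, ← mul_assoc, h.zz, one_mul]
  have : v⁻¹ * (z * b) = b * v⁻¹ := by
    rw [inv_mul_eq_iff_eq_mul, ← mul_assoc, hv']
    group
  rw [mul_assoc, hu', ← mul_assoc, this]
  group

theorem ncomm (h : Cfg O z b) {u : G} (hu : u ∈ O z) (hub : ¬ u * b = b * u) :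
    u * b = z * b * u := by
  rcases h.norm u hu with k | k <;> rw [mul_inv_eq_iff_eq_mul] at k
  · exact absurd k hub
  · exact k

/-- there is `v ∈ O z` commuting with `b c` but not with `b` -/
theorem exv (hb : Cfg O z b) (hc : Cfg O z c) :
    ∃ v ∈ O z, v * (b * c) = b * c * v ∧ ¬ v * b = b * v := by
  have hne : ∀ {w b : G}, Cfg O z b → w * b = z * b * w → ¬ w * b = b * w := by
    intro w b hb e k
    rw [e] at k
    have : z * b = b := mul_right_cancel k
    exact hb.z1 (by simpa using this)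
  have two : ∀ {w : G}, w ∈ O z → w * b = z * b * w → w * c = z * c * w →
      w * (b * c) = b * c * w := by
    intro w hw e1 e2
    have hwz := hw
    calc w * (b * c) = z * b * (w * c) := by rw [← mul_assoc, e1, mul_assoc]
      _ = z * (b * z) * c * w := by rw [e2]; group
      _ = b * c * w := by rw [← hb.za, ← mul_assoc, hb.zz, one_mul]
  obtain ⟨w, hw, hwb, _, _⟩ := hb.w0
  rw [MulAut.conj_apply, mul_inv_eq_iff_eq_mul] at hwb
  obtain ⟨w', hw', hwc, _, _⟩ := hc.w0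
  rw [MulAut.conj_apply, mul_inv_eq_iff_eq_mul] at hwc
  by_cases k1 : w' * b = b * w'
  · by_cases k2 : w * c = c * w
    · refine ⟨w * w', mul_mem hw.1 hw'.1, ?_, ?_⟩
      · refine two (mul_mem hw.1 hw'.1) ?_ ?_
        · rw [mul_assoc, k1, ← mul_assoc, hwb]; group
        · rw [mul_assoc, hwc, ← mul_assoc, ← mul_assoc, hb.comm w hw.1, mul_assoc z w c, k2]
          group
      · refine hne hb ?_
        rw [mul_assoc, k1, ← mul_assoc, hwb]; group
    · exact ⟨w, hw.1, two hw.1 hwb (ncomm hc hw.1 k2), hne hb hwb⟩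
  · exact ⟨w', hw'.1, two hw'.1 (ncomm hb hw'.1 k1) hwc, k1⟩

/-- `s ∈ D_b` acting on `O z` modulo `⟨z⟩` trivially -/
theorem triv (hb : Cfg O z b)
    (hC : ∀ s, s * z = z * s → (∀ q ∈ O z, q * s * q⁻¹ * s⁻¹ = 1 ∨ q * s * q⁻¹ * s⁻¹ = z) →
      s ∈ O z)
    {s : G} (hs : Dp O b s) (hcomm : ∀ u ∈ O z, u * b = b * u → u * s = s * u)
    {v : G} (hv : v ∈ O z) (hvb : ¬ v * b = b * v)
    (hvs : v * s * v⁻¹ * s⁻¹ = 1 ∨ v * s * v⁻¹ * s⁻¹ = z) : s = 1 ∨ s = b := by
  refine hb.symm.d_inter hs (hC s (hb.symm.dcomm hs) ?_)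
  intro q hq
  by_cases hqb : q * b = b * q
  · left
    rw [hcomm q hq hqb]; group
  · have k := hcomm (v⁻¹ * q) (mul_mem (inv_mem hv) hq) (inv_mul_comm hb hq hv hqb hvb)
    have e : q * s * q⁻¹ * s⁻¹ = v * (v⁻¹ * q * s) * (v⁻¹ * q)⁻¹ * v⁻¹ * s⁻¹ := by group
    have e2 : v * (v⁻¹ * q * s) * (v⁻¹ * q)⁻¹ * v⁻¹ * s⁻¹ = v * s * v⁻¹ * s⁻¹ := by
      rw [k]; group
    rw [e, e2]
    exact hvs

/-- The pair lemma (i) -/
theorem pair1 (hb : Cfg O z b) (hc : Cfg O z c) (hbc : b * c = c * b) (hne : c ≠ 1)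
    {r s : G} (hr : Dp O c r) (hrb : r * b * r⁻¹ = c * b) (hs : Dp O b s) (hsc : s * c = c * s) :
    (r * s * r⁻¹ = s ∨ r * s * r⁻¹ = c * s) ∧ Cfg O z (c * b) ∧ Dp O (c * b) (r * s * r⁻¹) ∧
    ∀ u ∈ O z, u * b = b * u → u * c = c * u → u * s = s * u := by
  have hrz := hc.symm.dcomm hr
  have hsz := hb.symm.dcomm hs
  have hC' : Cfg O z (c * b) := by
    have := hb.conj r
    rwa [MulAut.conj_apply, MulAut.conj_apply, hrb, hrz, mul_assoc, mul_inv_cancel,
      mul_one] at this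
  have hD : Dp O (c * b) (r * s * r⁻¹) := by
    have := (hb.eqv.dp_iff r b s).2 hs
    rwa [MulAut.conj_apply, MulAut.conj_apply, hrb] at this
  have h1 := star hc hsz hsc (fun k hk => (hb.dd hk hs).symm) hr
  have hcc := hc.aa
  have h2 : r * s * r⁻¹ = s ∨ r * s * r⁻¹ = c * s := by
    rcases h1 with k | k <;> rw [mul_inv_eq_iff_eq_mul, mul_inv_eq_iff_eq_mul] at k
    · left; rw [one_mul] at k; rw [mul_inv_eq_iff_eq_mul, k]
    · right
      rw [mul_inv_eq_iff_eq_mul, mul_assoc, k]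
      rw [← mul_assoc, ← mul_assoc, hcc, one_mul]
  refine ⟨h2, hC', hD, ?_⟩
  intro u hu hub huc
  have hucb : u * (c * b) = c * b * u := by rw [← mul_assoc, huc, mul_assoc, hub, mul_assoc]
  have k1 := hb.symm.cd hs hu hub
  have k2 := hC'.symm.cd hD hu hucb
  have k3 : u * (r * s * r⁻¹) * u⁻¹ * (r * s * r⁻¹)⁻¹ = u * s * u⁻¹ * s⁻¹ ∨
      u * (r * s * r⁻¹) * u⁻¹ * (r * s * r⁻¹)⁻¹ = c * (u * s * u⁻¹ * s⁻¹) * c⁻¹ := by
    rcases h2 with k | k <;> rw [k]
    · left; rfl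
    · right
      rw [← mul_assoc u c s, huc]; group
  have hcb1 : c * b ≠ 1 := hC'.a1
  rcases k1 with k1 | k1
  · rw [mul_inv_eq_one, mul_inv_eq_iff_eq_mul] at k1; exact k1
  · exfalso
    rw [k1] at k3
    have k4 : c * b * c⁻¹ = b := by rw [← hbc]; group
    rw [k4, or_self] at k3
    rw [k3] at k2
    rcases k2 with k2 | k2
    · exact hb.a1 k2
    · exact hne (by simpa using k2.symm)

/-- The pair lemma (ii) -/
theorem pair2 (hb : Cfg O z b) (hc : Cfg O z c) (hbc : b * c = c * b)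
    (hC : ∀ s, s * z = z * s → (∀ q ∈ O z, q * s * q⁻¹ * s⁻¹ = 1 ∨ q * s * q⁻¹ * s⁻¹ = z) →
      s ∈ O z)
    {r s : G} (hr : Dp O c r) (hrb : r * b * r⁻¹ = c * b) (hs : Dp O b s) (hsc : s * c = c * s)
    (hcomm : ∀ u ∈ O z, u * b = b * u → u * s = s * u) : s = 1 ∨ s = b := by
  obtain ⟨h2, hC', hD, _⟩ := pair1 hb hc hbc hc.a1 hr hrb hs hsc
  have hrz := hc.symm.dcomm hr
  obtain ⟨v, hv, hv1, hv2⟩ := exv hb hc
  rw [hbc] at hv1
  -- `v` commutes with `r s r⁻¹`
  have hrz' : r⁻¹ * z = z * r⁻¹ := by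
    rw [inv_mul_eq_iff_eq_mul, ← mul_assoc, hrz, mul_assoc, mul_inv_cancel, mul_one]
  have k1 : r⁻¹ * v * r ∈ O z := by
    have := hb.eqv.mem_conj hv hrz'
    rwa [inv_inv] at this
  have hrcb : r⁻¹ * (c * b) * r = b := by rw [← hrb]; group
  have k2 : r⁻¹ * v * r * b = b * (r⁻¹ * v * r) := by
    calc r⁻¹ * v * r * b = r⁻¹ * v * r * (r⁻¹ * (c * b) * r) := by rw [hrcb]
      _ = r⁻¹ * (v * (c * b)) * r := by group
      _ = (r⁻¹ * (c * b) * r) * (r⁻¹ * v * r) := by rw [hv1]; group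
      _ = b * (r⁻¹ * v * r) := by rw [hrcb]
  have k3 := hcomm _ k1 k2
  have k4 : v * (r * s * r⁻¹) = r * s * r⁻¹ * v := by
    calc v * (r * s * r⁻¹) = r * (r⁻¹ * v * r * s) * r⁻¹ := by group
      _ = r * s * r⁻¹ * v := by rw [k3]; group
  refine triv hb hC hs hcomm hv hv2 ?_
  rcases h2 with k | k <;> rw [k] at k4
  · left; rw [k4]; group
  · have hci : c⁻¹ = c := inv_eq_of_mul_eq_one_left hc.aa
    have e : s = c * (c * s) := by rw [← mul_assoc, hc.aa, one_mul]
    have e1 : v * s * v⁻¹ * s⁻¹ = v * c * v⁻¹ * c⁻¹ := by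
      calc v * s * v⁻¹ * s⁻¹ = v * c * c⁻¹ * s * v⁻¹ * s⁻¹ := by group
        _ = v * c * v⁻¹ * (v * (c * s)) * v⁻¹ * s⁻¹ := by rw [hci]; group
        _ = v * c * v⁻¹ * c⁻¹ * (c * (c * s)) * s⁻¹ := by rw [k4]; group
        _ = v * c * v⁻¹ * c⁻¹ := by rw [← e]; group
    rw [e1]
    rcases hc.norm v hv with k5 | k5 <;> rw [k5]
    · left; group
    · right; group

/-- (2b) -/
theorem two_b (hb : Cfg O z b) (hc : Cfg O z c) (hbc : b * c = c * b)
    (hC : ∀ s, s * z = z * s → (∀ q ∈ O z, q * s * q⁻¹ * s⁻¹ = 1 ∨ q * s * q⁻¹ * s⁻¹ = z) →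
      s ∈ O z)
    {r s t : G} (hr : Dp O c r) (hrb : r * b * r⁻¹ = c * b) (hs : Dp O b s)
    (hsc : s * c = c * s) (ht : Dp O b t) (htc : t * c * t⁻¹ = b * c) : s = 1 ∨ s = b := by
  obtain ⟨_, _, _, h4⟩ := pair1 hb hc hbc hc.a1 hr hrb hs hsc
  refine pair2 hb hc hbc hC hr hrb hs hsc ?_
  obtain ⟨w, hw, hwb, _, _⟩ := hb.w0
  have hwD : Dp O (z * b) (w * t * w⁻¹) := by
    have := (hb.eqv.dp_iff w b t).2 ht
    rwa [hwb, MulAut.conj_apply] at this
  rw [MulAut.conj_apply, mul_inv_eq_iff_eq_mul] at hwb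
  have htz := hb.symm.dcomm ht
  have htb := hb.symm.comm t ht.1
  have hwz := hb.comm w hw.1
  have hbb := hb.aa
  have hzz := hb.zz
  have htiz : t⁻¹ * z = z * t⁻¹ := by
    rw [inv_mul_eq_iff_eq_mul, ← mul_assoc, htz, mul_assoc, mul_inv_cancel, mul_one]
  have htib : t⁻¹ * b = b * t⁻¹ := by
    rw [inv_mul_eq_iff_eq_mul, ← mul_assoc, htb, mul_assoc, mul_inv_cancel, mul_one]
  rw [mul_inv_eq_iff_eq_mul] at htc
  have htic : t⁻¹ * c = b * c * t⁻¹ := by
    rw [inv_mul_eq_iff_eq_mul]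
    calc c = b * b * c := by rw [hbb, one_mul]
      _ = b * (b * c * t) * t⁻¹ := by group
      _ = b * (t * c) * t⁻¹ := by rw [htc]
      _ = t * (b * c * t⁻¹) := by rw [← mul_assoc b t c, ← htb]; group
  set f := t⁻¹ * (w * t * w⁻¹) with hf
  have hfO : f ∈ O z := by
    have := mul_mem (hb.eqv.mem_conj hw.1 htiz) (inv_mem hw.1)
    rw [inv_inv] at this
    convert this using 1
    rw [hf]; group
  have hwib : w⁻¹ * b = z * b * w⁻¹ := by
    rw [inv_mul_eq_iff_eq_mul, ← mul_assoc, ← mul_assoc, hwz, mul_assoc z w b, hwb,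
      ← mul_assoc, ← mul_assoc, hzz]
    group
  have hwiz : w⁻¹ * z = z * w⁻¹ := by
    rw [inv_mul_eq_iff_eq_mul, ← mul_assoc, hwz, mul_assoc, mul_inv_cancel, mul_one]
  have hfb : f * b = b * f := by
    calc f * b = t⁻¹ * w * t * (w⁻¹ * b) := by rw [hf]; group
      _ = t⁻¹ * w * (t * z) * b * w⁻¹ := by rw [hwib]; group
      _ = t⁻¹ * (w * z) * (t * b) * w⁻¹ := by rw [htz]; group
      _ = t⁻¹ * z * (w * b) * t * w⁻¹ := by rw [htb, hwz]; group
      _ = t⁻¹ * (z * z) * b * w * t * w⁻¹ := by rw [hwb]; group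
      _ = t⁻¹ * b * w * t * w⁻¹ := by rw [hzz]; group
      _ = b * f := by rw [htib, hf]; group
  have hst := dab hb.symm hs ht
  have hsw : s * (w * t * w⁻¹) = w * t * w⁻¹ * s := hb.rot'.dd hs hwD
  have hsf : f * s = s * f := by
    have h1 : t⁻¹ * s = s * t⁻¹ := by
      rw [inv_mul_eq_iff_eq_mul, ← mul_assoc, ← hst, mul_assoc, mul_inv_cancel, mul_one]
    rw [hf, mul_assoc, ← hsw, ← mul_assoc, h1, mul_assoc]
  have hfc : f * c = z * c * f := by
    by_cases k : w * c = c * w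
    · have k' : w⁻¹ * c = c * w⁻¹ := by
        rw [inv_mul_eq_iff_eq_mul, ← mul_assoc, k, mul_assoc, mul_inv_cancel, mul_one]
      calc f * c = t⁻¹ * w * t * (w⁻¹ * c) := by rw [hf]; group
        _ = t⁻¹ * w * (t * c) * w⁻¹ := by rw [k']; group
        _ = t⁻¹ * (w * b) * c * t * w⁻¹ := by rw [htc]; group
        _ = t⁻¹ * z * b * (w * c) * t * w⁻¹ := by rw [hwb]; group
        _ = t⁻¹ * z * b * c * w * t * w⁻¹ := by rw [k]; group
        _ = z * (t⁻¹ * b) * c * w * t * w⁻¹ := by rw [htiz]; group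
        _ = z * b * (t⁻¹ * c) * w * t * w⁻¹ := by rw [htib]; group
        _ = z * (b * b) * c * f := by rw [htic, hf]; group
        _ = z * c * f := by rw [hbb, mul_one]
    · have k1 := ncomm hc hw.1 k
      have k' : w⁻¹ * c = z * c * w⁻¹ := by
        rw [inv_mul_eq_iff_eq_mul, ← mul_assoc, ← mul_assoc, hwz, mul_assoc z w c, k1,
          ← mul_assoc, ← mul_assoc, hzz]
        group
      calc f * c = t⁻¹ * w * t * (w⁻¹ * c) := by rw [hf]; group
        _ = t⁻¹ * w * (t * z) * c * w⁻¹ := by rw [k']; group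
        _ = t⁻¹ * (w * z) * (t * c) * w⁻¹ := by rw [htz]; group
        _ = t⁻¹ * z * (w * b) * c * t * w⁻¹ := by rw [htc, hwz]; group
        _ = t⁻¹ * z * z * b * (w * c) * t * w⁻¹ := by rw [hwb]; group
        _ = t⁻¹ * (z * z) * b * z * c * w * t * w⁻¹ := by rw [k1]; group
        _ = t⁻¹ * (b * z) * c * w * t * w⁻¹ := by rw [hzz]; group
        _ = (t⁻¹ * z) * b * c * w * t * w⁻¹ := by rw [← hb.za]; group
        _ = z * (t⁻¹ * b) * c * w * t * w⁻¹ := by rw [htiz]; group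
        _ = z * b * (t⁻¹ * c) * w * t * w⁻¹ := by rw [htib]; group
        _ = z * (b * b) * c * f := by rw [htic, hf]; group
        _ = z * c * f := by rw [hbb, mul_one]
  have hfc' : ¬ f * c = c * f := by
    intro k
    rw [hfc] at k
    have : z * c = c := mul_right_cancel k
    exact hb.z1 (by simpa using this)
  intro u hu hub
  by_cases huc : u * c = c * u
  · exact h4 u hu hub huc
  · have k1 := inv_mul_comm hc hu hfO huc hfc'
    have hfib : f⁻¹ * b = b * f⁻¹ := by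
      rw [inv_mul_eq_iff_eq_mul, ← mul_assoc, hfb, mul_assoc, mul_inv_cancel, mul_one]
    have k2 : f⁻¹ * u * b = b * (f⁻¹ * u) := by
      rw [mul_assoc, hub, ← mul_assoc, hfib, mul_assoc]
    have k3 := h4 _ (mul_mem (inv_mem hfO) hu) k2 k1
    calc u * s = f * (f⁻¹ * u * s) := by group
      _ = f * s * (f⁻¹ * u) := by rw [k3]; group
      _ = s * u := by rw [hsf]; group

/-- (2c) -/
theorem two_c (hb : Cfg O z b) (hc : Cfg O z c) (hbc : b * c = c * b)
    (hC : ∀ s, s * z = z * s → (∀ q ∈ O z, q * s * q⁻¹ * s⁻¹ = 1 ∨ q * s * q⁻¹ * s⁻¹ = z) →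
      s ∈ O z)
    {r : G} (hr : Dp O c r) (hrb : r * b * r⁻¹ = c * b) {s s' : G} (hs : Dp O b s)
    (hsc : s * c = c * s) (hs' : Dp O b s') (hsc' : s' * c = c * s') :
    (s = 1 ∨ s = b) ∨ (s' = 1 ∨ s' = b) ∨ (s * s' = 1 ∨ s * s' = b) := by
  obtain ⟨_, hC', _, _⟩ := pair1 hb hc hbc hc.a1 hr hrb hs hsc
  obtain ⟨v, hv, hv1, hv2⟩ := exv hc hC'
  rw [show c * (c * b) = b by rw [← mul_assoc, hc.aa, one_mul]] at hv1
  have main : ∀ s, Dp O b s → s * c = c * s → v * s = s * v → s = 1 ∨ s = b := by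
    intro s hs hsc hvs
    obtain ⟨_, _, _, h4⟩ := pair1 hb hc hbc hc.a1 hr hrb hs hsc
    refine pair2 hb hc hbc hC hr hrb hs hsc ?_
    intro u hu hub
    by_cases huc : u * c = c * u
    · exact h4 u hu hub huc
    · have k1 := inv_mul_comm hc hu hv huc hv2
      have hfib : v⁻¹ * b = b * v⁻¹ := by
        rw [inv_mul_eq_iff_eq_mul, ← mul_assoc, hv1, mul_assoc, mul_inv_cancel, mul_one]
      have k2 : v⁻¹ * u * b = b * (v⁻¹ * u) := by
        rw [mul_assoc, hub, ← mul_assoc, hfib, mul_assoc]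
      have k3 := h4 _ (mul_mem (inv_mem hv) hu) k2 k1
      calc u * s = v * (v⁻¹ * u * s) := by group
        _ = v * s * (v⁻¹ * u) := by rw [k3]; group
        _ = s * u := by rw [hvs]; group
  have hbs := hb.symm.comm s hs.1
  rcases hb.symm.cd hs hv hv1 with k | k
  · left
    rw [mul_inv_eq_one, mul_inv_eq_iff_eq_mul] at k
    exact main s hs hsc k
  · rcases hb.symm.cd hs' hv hv1 with k' | k'
    · right; left
      rw [mul_inv_eq_one, mul_inv_eq_iff_eq_mul] at k'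
      exact main s' hs' hsc' k'
    · right; right
      refine main _ (dp_mul hs hs') ?_ ?_
      · rw [mul_assoc, hsc', ← mul_assoc, hsc, mul_assoc]
      · rw [mul_inv_eq_iff_eq_mul, mul_inv_eq_iff_eq_mul] at k k'
        calc v * (s * s') = v * s * s' := by group
          _ = b * s * (v * s') := by rw [k]; group
          _ = b * (s * b) * s' * v := by rw [k']; group
          _ = s * s' * v := by rw [hbs, ← mul_assoc, hb.aa, one_mul]

/-- (2b), (2c) together: if some element of `D_c` moves `b` then `|D_b| ≤ 4` -/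
theorem small (hb : Cfg O z b) (hc : Cfg O z c) (hbc : b * c = c * b)
    (hC : ∀ s, s * z = z * s → (∀ q ∈ O z, q * s * q⁻¹ * s⁻¹ = 1 ∨ q * s * q⁻¹ * s⁻¹ = z) →
      s ∈ O z)
    {r : G} (hr : Dp O c r) (hrb : r * b * r⁻¹ = c * b) {x y : G} (hx : Dp O b x)
    (hy : Dp O b y) :
    (x = 1 ∨ x = b) ∨ (y = 1 ∨ y = b) ∨ (x * y = 1 ∨ x * y = b) := by
  have cc : ∀ x, Dp O b x → x * c = c * x ∨ x * c * x⁻¹ = b * c := by
    intro x hx
    have hci : c⁻¹ = c := inv_eq_of_mul_eq_one_left hc.aa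
    rcases hb.symm.cd hx hc.aO hbc.symm with k | k <;>
      rw [mul_inv_eq_iff_eq_mul, mul_inv_eq_iff_eq_mul] at k
    · left; rw [one_mul] at k; exact k.symm
    · right
      rw [mul_inv_eq_iff_eq_mul]
      calc x * c = b * b * x * c := by rw [hb.aa, one_mul]
        _ = b * (b * x * c) := by group
        _ = b * c * x := by rw [← k]; group
  rcases cc x hx with k | k
  · rcases cc y hy with k' | k'
    · exact two_c hb hc hbc hC hr hrb hx k hy k'
    · left
      exact two_b hb hc hbc hC hr hrb hx k hy k'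
  · rcases cc y hy with k' | k'
    · right; left
      exact two_b hb hc hbc hC hr hrb hy k' hx k
    · right; right
      refine two_b hb hc hbc hC hr hrb (dp_mul hx hy) ?_ hx k
      rw [mul_inv_eq_iff_eq_mul] at k k'
      have hxb := hb.symm.comm x hx.1
      calc x * y * c = x * (y * c) := mul_assoc _ _ _
        _ = x * b * c * y := by rw [k']; group
        _ = b * (x * c) * y := by rw [hxb]; group
        _ = b * b * c * x * y := by rw [k]; group
        _ = c * (x * y) := by rw [hb.aa, one_mul, mul_assoc]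

/-- **(2), Baer–Suzuki part**: `|D_a| ≤ 4`. -/
theorem four_a (h : Cfg O z a)
    (hC : ∀ s, s * z = z * s → (∀ q ∈ O z, q * s * q⁻¹ * s⁻¹ = 1 ∨ q * s * q⁻¹ * s⁻¹ = z) →
      s ∈ O z)
    (hB : ∀ t, t * z = z * t → t * t = 1 →
      (∀ g, g * z = z * g → (t * (g * t * g⁻¹)) ^ 4 = 1) → t ∈ O z)
    {x y : G} (hx : Dp O a x) (hy : Dp O a y) :
    (x = 1 ∨ x = a) ∨ (y = 1 ∨ y = a) ∨ (x * y = 1 ∨ x * y = a) := by
  by_contra hcon
  push Not at hcon
  obtain ⟨⟨hx1, hxa⟩, ⟨hy1, hya⟩, ⟨hxy1, hxya⟩⟩ := hcon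
  -- conjugates under `C(z)`
  have cj : ∀ g, g * z = z * g → Cfg O z (g * a * g⁻¹) := by
    intro g hg
    have := h.conj g
    rwa [MulAut.conj_apply, MulAut.conj_apply, hg, mul_assoc z, mul_inv_cancel, mul_one] at this
  have bc : ∀ b : G, (∃ g, g * z = z * g ∧ b = g * a * g⁻¹) →
      ∃ x y, Dp O b x ∧ Dp O b y ∧ ¬ ((x = 1 ∨ x = b) ∨ (y = 1 ∨ y = b) ∨
        (x * y = 1 ∨ x * y = b)) := by
    rintro b ⟨g, hg, rfl⟩
    have inj := (MulAut.conj g).injective
    refine ⟨MulAut.conj g x, MulAut.conj g y, (h.eqv.dp_iff g a x).2 hx,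
      (h.eqv.dp_iff g a y).2 hy, ?_⟩
    rw [← map_mul, map_eq_one_iff _ inj, map_eq_one_iff _ inj, map_eq_one_iff _ inj,
      ← MulAut.conj_apply g a, inj.eq_iff, inj.eq_iff, inj.eq_iff]
    tauto
  -- commuting members: no movement
  have key : ∀ b c : G, (∃ g, g * z = z * g ∧ b = g * a * g⁻¹) → Cfg O z b → Cfg O z c →
      b * c = c * b → ∀ r, Dp O c r → r * b = b * r := by
    intro b c hbg hb hc hbc r hr
    rcases hc.symm.cd hr hb.aO hbc with k | k <;>
      rw [mul_inv_eq_iff_eq_mul, mul_inv_eq_iff_eq_mul] at k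
    · rw [one_mul] at k; exact k.symm
    · exfalso
      obtain ⟨x, y, hx, hy, hn⟩ := bc b hbg
      refine hn (small hb hc hbc hC hr ?_ hx hy)
      rw [mul_inv_eq_iff_eq_mul]
      calc r * b = c * c * r * b := by rw [hc.aa, one_mul]
        _ = c * (c * r * b) := by group
        _ = c * b * r := by rw [← k]; group
  have comm : ∀ b c : G, (∃ g, g * z = z * g ∧ b = g * a * g⁻¹) →
      (∃ g, g * z = z * g ∧ c = g * a * g⁻¹) →
      b * c = c * b → ∀ s r, Dp O b s → Dp O c r → s * r = r * s := by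
    intro b c hbg hcg hbc s r hs hr
    have hb : Cfg O z b := by obtain ⟨g, hg, rfl⟩ := hbg; exact cj g hg
    have hc : Cfg O z c := by obtain ⟨g, hg, rfl⟩ := hcg; exact cj g hg
    rcases eq_or_ne b c with e | hne
    · subst e; exact dab hb.symm hs hr
    · have k1 := key b c hbg hb hc hbc r hr
      have k2 := key c b hcg hc hb hbc.symm s hs
      have s1 := star hb (hc.symm.dcomm hr) k1 (fun k hk => (hc.dd hk hr).symm) hs
      have s2 := star hc (hb.symm.dcomm hs) k2 (fun k hk => (hb.dd hk hs).symm) hr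
      rcases s2 with s2 | s2
      · rw [mul_inv_eq_one, mul_inv_eq_iff_eq_mul] at s2; exact s2
      · have e : r * s * r⁻¹ * s⁻¹ = (s * r * s⁻¹ * r⁻¹)⁻¹ := by group
        rw [e, s2] at s1
        have hci : c⁻¹ = c := inv_eq_of_mul_eq_one_left hc.aa
        rw [hci] at s1
        rcases s1 with s1 | s1
        · exact absurd s1 hc.a1
        · exact absurd s1.symm hne
  -- an involution in `D_a`
  have hxx := h.symm.sq hx.1
  have hyy := h.symm.sq hy.1
  have hxyc := dab h.symm hx hy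
  obtain ⟨t, ht, htt, ht1, hta⟩ : ∃ t, Dp O a t ∧ t * t = 1 ∧ t ≠ 1 ∧ t ≠ a := by
    rcases hxx with k | k
    · exact ⟨x, hx, k, hx1, hxa⟩
    · rcases hyy with k' | k'
      · exact ⟨y, hy, k', hy1, hya⟩
      · refine ⟨x * y, dp_mul hx hy, ?_, hxy1, hxya⟩
        calc x * y * (x * y) = x * (y * x) * y := by group
          _ = x * x * (y * y) := by rw [← hxyc]; group
          _ = 1 := by rw [k, k', h.aa]
  have htO : t ∈ O z := by
    refine hB t (h.symm.dcomm ht) htt ?_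
    intro g hg
    set s := g * t * g⁻¹ with hs
    have hss : s * s = 1 := by
      rw [hs]
      calc g * t * g⁻¹ * (g * t * g⁻¹) = g * (t * t) * g⁻¹ := by group
        _ = 1 := by rw [htt]; group
    set c := g * a * g⁻¹ with hc
    have hcg : ∃ g, g * z = z * g ∧ c = g * a * g⁻¹ := ⟨g, hg, hc⟩
    have hag : ∃ g, g * z = z * g ∧ a = g * a * g⁻¹ := ⟨1, by simp, by simp⟩
    have hsD : Dp O c s := (h.eqv.dp_iff g a t).2 ht
    have hC : Cfg O z c := cj g hg
    by_cases hac : a * c = c * a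
    · have hts := comm a c hag hcg hac t s ht hsD
      have : (t * s) ^ 2 = 1 := by
        rw [pow_two]
        calc t * s * (t * s) = t * (s * t) * s := by group
          _ = t * t * (s * s) := by rw [← hts]; group
          _ = 1 := by rw [htt, hss, one_mul]
      rw [show (4 : ℕ) = 2 * 2 by norm_num, pow_mul, this, one_pow]
    · -- `c'' = t c t⁻¹` commutes with `c`
      have hti : t⁻¹ = t := inv_eq_of_mul_eq_one_left htt
      have hci : c⁻¹ = c := inv_eq_of_mul_eq_one_left hC.aa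
      have hcz := h.symm.dcomm ht
      -- `t' = c t c⁻¹ ∈ D_{z a}`
      have hca : c * a = z * a * c := by
        refine ncomm h hC.aO ?_
        exact fun k => hac k.symm
      have ht' : Dp O (z * a) (c * t * c⁻¹) := by
        have := (h.eqv.dp_iff c a t).2 ht
        rwa [MulAut.conj_apply, MulAut.conj_apply, hca, mul_assoc (z * a), mul_inv_cancel,
          mul_one] at this
      have ht'c : t * (c * t * c⁻¹) = c * t * c⁻¹ * t := h.rot'.dd ht ht'
      rw [hci] at ht'c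
      have hcc : (t * c * t⁻¹) * c = c * (t * c * t⁻¹) := by
        rw [hti]
        calc t * c * t * c = t * (c * t * c) := by group
          _ = c * (t * c * t) := by rw [ht'c]; group
      have hsc : Dp O (t * c * t⁻¹) (t * s * t⁻¹) := (h.eqv.dp_iff t c s).2 hsD
      have hcg' : ∃ g, g * z = z * g ∧ t * c * t⁻¹ = g * a * g⁻¹ := by
        refine ⟨t * g, ?_, ?_⟩
        · rw [mul_assoc, hg, ← mul_assoc, hcz, mul_assoc]
        · rw [hc]; group
      have hk := comm (t * c * t⁻¹) c hcg' hcg hcc _ _ hsc hsD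
      rw [hti] at hk
      have hk4 : (t * s) ^ 4 = t * s * t * s * (t * s * t * s) := by
        rw [show (4 : ℕ) = 2 * 2 by norm_num, pow_mul, pow_two, pow_two]; group
      rw [hk4]
      calc t * s * t * s * (t * s * t * s) = t * s * t * s * (s * (t * s * t)) := by rw [hk]
        _ = t * s * t * (s * s) * t * s * t := by group
        _ = t * s * (t * t) * s * t := by rw [hss]; group
        _ = t * (s * s) * t := by rw [htt]; group
        _ = 1 := by rw [hss, mul_one, htt]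
  rcases h.symm.d_inter ht htO with k | k
  · exact ht1 k
  · exact hta k

/-- **(2)**: `|D_z| ≤ 4`. -/
theorem four (h : Cfg O z a)
    (hC : ∀ s, s * z = z * s → (∀ q ∈ O z, q * s * q⁻¹ * s⁻¹ = 1 ∨ q * s * q⁻¹ * s⁻¹ = z) →
      s ∈ O z)
    (hB : ∀ t, t * z = z * t → t * t = 1 →
      (∀ g, g * z = z * g → (t * (g * t * g⁻¹)) ^ 4 = 1) → t ∈ O z)
    {x y : G} (hx : Dp O z x) (hy : Dp O z y) :
    (x = 1 ∨ x = z) ∨ (y = 1 ∨ y = z) ∨ (x * y = 1 ∨ x * y = z) := by
  obtain ⟨n, hn, _⟩ := h.rot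
  have inj := (MulAut.conj n).injective
  have hx' := (h.eqv.dp_iff n z x).2 hx
  have hy' := (h.eqv.dp_iff n z y).2 hy
  have hna : MulAut.conj n z = a := hn
  rw [hna] at hx' hy'
  have := four_a h hC hB hx' hy'
  rwa [← map_mul, map_eq_one_iff _ inj, map_eq_one_iff _ inj, map_eq_one_iff _ inj,
    ← hna, inj.eq_iff, inj.eq_iff, inj.eq_iff] at this

end Cfsg.Agent.Omega.FFTwoA.Four
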