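import Cfsg.Agent.Omega.FFTwoA.Glue
import Cfsg.Agent.Omega.FFTwoA.BOne

/-!
# FF-2a (7): the two cases `C(d) ≤ C(z)` and `C(d) ≰ C(z)`, abstract form
-/

set_option autoImplicit false

namespace Cfsg.Agent.Omega.FFTwoA.Cases

open Cfsg.Agent.Omega.FFTwoA.Main Cfsg.Agent.Omega.FFTwoA.Four Cfsg.Agent.Omega.FFTwoA.Line
open Cfsg.Agent.Omega.FFTwoA.BTwo Cfsg.Agent.Omega.FFTwoA.Glue

universe u

variable {G : Type u} [Group G] {O : G → Subgroup G} {z a d : G}

theorem lin_conj (h : Lin O z a d) {m : G} (hm : m * z = z * m) : Lin O z (m * a * m⁻¹) d := by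
  have h1 := h.conj m
  have e1 : MulAut.conj m z = z := by
    rw [MulAut.conj_apply, hm, mul_assoc, mul_inv_cancel, mul_one]
  rw [e1] at h1
  exact h1.change h.dD h.d1 h.dz

/-- the non-orthogonality hypothesis passes to conjugates -/
theorem hna_conj {m : G} (hm : m * z = z * m)
    (hna : ∃ m, m * z = z * m ∧ ¬ m * a * m⁻¹ * a = a * (m * a * m⁻¹)) :
    ¬ ∀ k, k * z = z * k → k * (m * a * m⁻¹) * k⁻¹ * (m * a * m⁻¹) =
      m * a * m⁻¹ * (k * (m * a * m⁻¹) * k⁻¹) := by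
  intro hcon
  obtain ⟨n, hn, hnn⟩ := hna
  apply hnn
  have hmi : m⁻¹ * z = z * m⁻¹ := by
    rw [inv_mul_eq_iff_eq_mul, ← mul_assoc, hm, mul_assoc, mul_inv_cancel, mul_one]
  have hk : m * n * m⁻¹ * z = z * (m * n * m⁻¹) := by
    calc m * n * m⁻¹ * z = m * n * (m⁻¹ * z) := by group
      _ = m * (n * z) * m⁻¹ := by rw [hmi]; group
      _ = m * z * n * m⁻¹ := by rw [hn]; group
      _ = z * (m * n * m⁻¹) := by rw [hm]; group
  have := hcon _ hk
  have e1 : m * n * m⁻¹ * (m * a * m⁻¹) * (m * n * m⁻¹)⁻¹ * (m * a * m⁻¹) =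
      m * (n * a * n⁻¹ * a) * m⁻¹ := by group
  have e2 : m * a * m⁻¹ * (m * n * m⁻¹ * (m * a * m⁻¹) * (m * n * m⁻¹)⁻¹) =
      m * (a * (n * a * n⁻¹)) * m⁻¹ := by group
  rw [e1, e2] at this
  exact mul_left_cancel (mul_right_cancel this)

/-- every non-central element of `D_a` is conjugate to `d` by an element carrying `z` to `a` -/
theorem conj_d (h : Lin O z a d) {e : G} (he : Dp O a e) (h1 : e ≠ 1) (h2 : e ≠ a) :
    ∃ n, n * z * n⁻¹ = a ∧ n * d * n⁻¹ = e := by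
  obtain ⟨n, hn, hn2⟩ := h.rot
  have hl := h.symm he h1 h2
  have hD : Dp O a (n * d * n⁻¹) := by
    have := (h.eqv.dp_iff n z d).2 h.dD
    rwa [MulAut.conj_apply, MulAut.conj_apply, hn] at this
  obtain ⟨u, hu, huz, hud⟩ := h.exd
  have huz' : u * z * u⁻¹ = z := by rw [huz]; group
  have hud' : u * d * u⁻¹ = z * d := by rw [hud]; group
  rcases hl.four _ hD with k | k | k | k
  · exfalso
    apply h.d1
    have : n * d * n⁻¹ = n * 1 * n⁻¹ := by rw [k]; group
    exact mul_left_cancel (mul_right_cancel this)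
  · exfalso
    apply h.dz
    rw [← hn] at k
    exact mul_left_cancel (mul_right_cancel k)
  · exact ⟨n, hn, k⟩
  · refine ⟨n * u, ?_, ?_⟩
    · calc n * u * z * (n * u)⁻¹ = n * (u * z * u⁻¹) * n⁻¹ := by group
        _ = a := by rw [huz', hn]
    · calc n * u * d * (n * u)⁻¹ = n * (u * d * u⁻¹) * n⁻¹ := by group
        _ = (n * z * n⁻¹) * (n * d * n⁻¹) := by rw [hud']; group
        _ = e := by rw [hn, k, ← mul_assoc, h.aa, one_mul]

/-- **(b1)** -/
theorem b_one_false [Finite G] (h : Lin O z a d)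
    (hna : ∃ m, m * z = z * m ∧ ¬ m * a * m⁻¹ * a = a * (m * a * m⁻¹))
    (hb : ∀ x, x * d = d * x → x * z = z * x) : False := by
  obtain ⟨w, hw, hwa, _, _⟩ := h.w0
  have hwa' : ¬ w * a = a * w := by
    intro k
    rw [MulAut.conj_apply, k, mul_assoc, mul_inv_cancel, mul_one] at hwa
    exact h.z1 (by simpa using hwa.symm)
  obtain ⟨e, he, h1, h2⟩ := h.exD
  have hd := h.exDat hw.1 hwa' he h1 h2
  set d3 := w * e * w⁻¹ with hd3
  set s := e * d3 with hs
  obtain ⟨n, hn, hnd⟩ := conj_d h he h1 h2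
  obtain ⟨u, hu, huz, hu3, hus⟩ := hd.exu0
  have rcv : ∀ x, LH z a s x →
      (BOne.R z x 1 ∨ BOne.R z x a ∨ BOne.R z x s ∨ BOne.R z x (a * s)) := by
    intro x hx
    unfold BOne.R
    rcases hx with (k | k | k | k) | (k | k | k | k)
    · left; left; exact k
    · left; right; rw [mul_one]; exact k
    · right; left; left; exact k
    · right; left; right; exact k
    · right; right; left; left; exact k
    · right; right; left; right; exact k
    · right; right; right; left; exact k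
    · right; right; right; right; rw [← mul_assoc]; exact k
  have ef : ∀ m, NS O z e m → m * a * m⁻¹ = a ∨ m * a * m⁻¹ = z * a := by
    intro m hm
    refine BOne.b_one h.toCfg (d2 := e) (d3 := d3) (w := w) (s := s) (u0 := u) he hd.d2q hd.dp3
      hd.d3q hw.1 hwa rfl ?_ rfl hd.sO hd.snO hd.f2 hd.f3 hu huz ?_ ?_ ?_ hm.1 hm.2
    · rw [hd.wd3]; group
    · rw [hu3]; group
    · intro g x hx
      have hx' : (n⁻¹ * g⁻¹ * x * g * n) * d = d * (n⁻¹ * g⁻¹ * x * g * n) := by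
        rw [← hnd] at hx
        calc (n⁻¹ * g⁻¹ * x * g * n) * d
            = n⁻¹ * g⁻¹ * (x * (g * (n * d * n⁻¹) * g⁻¹)) * g * n := by group
          _ = d * (n⁻¹ * g⁻¹ * x * g * n) := by rw [hx]; group
      have hz' := hb _ hx'
      rw [← hn]
      calc x * (g * (n * z * n⁻¹) * g⁻¹)
          = g * n * ((n⁻¹ * g⁻¹ * x * g * n) * z) * n⁻¹ * g⁻¹ := by group
        _ = g * (n * z * n⁻¹) * g⁻¹ * x := by rw [hz']; group
    · intro k hk hk2
      have := hl hd ⟨hk, hk2⟩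
      exact ⟨rcv _ this.1, rcv _ this.2⟩
  obtain ⟨m, hm, hmn⟩ := hna
  exact hmn (orth hd ef m hm)

/-- **(b2)** -/
theorem b_two_comm [Finite G] (h : Lin O z a d)
    (hna : ∃ m, m * z = z * m ∧ ¬ m * a * m⁻¹ * a = a * (m * a * m⁻¹))
    (VC : Subgroup G) (hVab : ∀ x ∈ VC, ∀ y ∈ VC, x * y = y * x)
    (hVn : ∀ c, c * d = d * c → ∀ x ∈ VC, c * x * c⁻¹ ∈ VC) (hVz : z ∈ VC) (hVO : VC ≤ O z)
    {v : G} (hv : v ∈ VC) {m : G} (hm : m * z = z * m) :
    v * (m * a * m⁻¹) = m * a * m⁻¹ * v := by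
  by_contra hcon
  have h' := lin_conj h hm
  obtain ⟨e, he, h1, h2⟩ := h'.exD
  have hd := h'.exDat (hVO hv) hcon he h1 h2
  exact hna_conj hm hna (orth hd fun k hk => ef_two hd VC hVab hVn hVz hv hk)

end Cfsg.Agent.Omega.FFTwoA.Cases
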