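import Mathlib

/-!
# FF-2a, `q = 2`: the end (bb OMEGA #12472, "THE END")

`E` is an `F₂`-space with an alternating form `B` (`E = W₁/⟨z₁⟩`), a group `M` acts on `E` by isometries
(`ρ : M →* End E`). `σ ∈ A` acts as `y ↦ y + (y,e) s + (y,s) e`. If `C_M(σ)` fixes `e` (field `ef`), then
`(e, e^h) = 0` for all `h ∈ M` (`Dat.orth`).
-/

set_option autoImplicit false

namespace Cfsg.Agent.Omega.FFTwoA.End

variable {E M : Type*} [AddCommGroup E] [Module (ZMod 2) E] [Group M]

theorem two (x : E) : x + x = 0 := by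
  rw [← two_smul (ZMod 2) x, show (2 : ZMod 2) = 0 from rfl, zero_smul]

theorem zcases (c : ZMod 2) : c = 0 ∨ c = 1 := by
  fin_cases c
  · exact Or.inl rfl
  · exact Or.inr rfl

theorem eq_of_add {x y : E} (h : x + y = 0) : x = y := by
  have h1 : x + y + y = x := by rw [add_assoc, two, add_zero]
  rw [← h1, h, zero_add]

/-- The data. -/
structure Dat (ρ : M →* AddMonoid.End E) (B : E → E → ZMod 2) (A : Subgroup M) (D : AddSubgroup E)
    (σ : M) (e s : E) : Prop where
  add : ∀ x y w, B (x + y) w = B x w + B y w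
  symm : ∀ x y, B x y = B y x
  alt : ∀ x, B x x = 0
  isom : ∀ g x y, B (ρ g x) (ρ g y) = B x y
  /-- `A` fixes `e` and is elementary abelian -/
  fix : ∀ a ∈ A, ρ a e = e
  sq : ∀ a ∈ A, ∀ x, ρ a (ρ a x) = x
  /-- (F1) -/
  sur : ∀ x, B x e = 1 → ∀ y, B y e = 0 → ∃ a ∈ A, ρ a x + x + y ∈ D
  perp : ∀ a ∈ A, ∀ y, B y e = 0 → ρ a y + y ∈ D
  /-- elements fixing `e` normalise `D` -/
  norm : ∀ g, ρ g e = e → ∀ d ∈ D, ρ g d ∈ D
  De : ∀ d ∈ D, B d e = 0
  /-- (N1) -/
  sA : σ ∈ A
  sig : ∀ y, ρ σ y = y + B y e • s + B y s • e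
  es : B e s = 0
  /-- (N2) -/
  Ds : ∀ d ∈ D, B d s = 0
  sD : s ∉ D
  seD : s + e ∉ D
  /-- (N3) -/
  rad : ∃ y, B s y = 1
  rad' : ∃ y, B (s + e) y = 1
  mov : ∃ a ∈ A, ρ a s = s + e
  /-- (EF) -/
  ef : ∀ g, ρ g * ρ σ = ρ σ * ρ g → ρ g e = e

namespace Dat

variable {ρ : M →* AddMonoid.End E} {B : E → E → ZMod 2} {A : Subgroup M} {D : AddSubgroup E}
  {σ : M} {e s : E}

theorem add_right (h : Dat ρ B A D σ e s) (x y w : E) : B w (x + y) = B w x + B w y := by
  rw [h.symm, h.add, h.symm x, h.symm y]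

theorem zero_left (h : Dat ρ B A D σ e s) (y : E) : B 0 y = 0 := by
  have h1 := h.add 0 0 y
  rw [add_zero] at h1
  exact left_eq_add.1 h1

theorem smul_left (h : Dat ρ B A D σ e s) (c : ZMod 2) (x y : E) : B (c • x) y = c * B x y := by
  rcases zcases c with rfl | rfl
  · rw [zero_smul, zero_mul, h.zero_left]
  · rw [one_smul, one_mul]

theorem smul_right (h : Dat ρ B A D σ e s) (c : ZMod 2) (x y : E) : B y (c • x) = c * B y x := by
  rw [h.symm, h.smul_left, h.symm]

theorem act_smul (f : AddMonoid.End E) (c : ZMod 2) (x : E) : f (c • x) = c • f x := by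
  rcases zcases c with rfl | rfl
  · rw [zero_smul, zero_smul, map_zero]
  · rw [one_smul, one_smul]

omit [Module (ZMod 2) E] in
theorem act_mul (ρ : M →* AddMonoid.End E) (g g' : M) (x : E) : ρ (g * g') x = ρ g (ρ g' x) := by
  rw [map_mul]; rfl

omit [Module (ZMod 2) E] in
theorem act_inv (ρ : M →* AddMonoid.End E) (g : M) (x : E) : ρ g (ρ g⁻¹ x) = x := by
  rw [← act_mul, mul_inv_cancel, map_one]; rfl

omit [Module (ZMod 2) E] in
theorem act_inv' (ρ : M →* AddMonoid.End E) (g : M) (x : E) : ρ g⁻¹ (ρ g x) = x := by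
  rw [← act_mul, inv_mul_cancel, map_one]; rfl

/-- `s` may be replaced by `s + e`. -/
theorem swap (h : Dat ρ B A D σ e s) : Dat ρ B A D σ e (s + e) where
  add := h.add
  symm := h.symm
  alt := h.alt
  isom := h.isom
  fix := h.fix
  sq := h.sq
  sur := h.sur
  perp := h.perp
  norm := h.norm
  De := h.De
  sA := h.sA
  sig y := by
    rw [h.sig, h.add_right, smul_add, add_smul]
    have h1 := two (B y e • e)
    rw [show y + (B y e • s + B y e • e) + (B y s • e + B y e • e)
      = y + B y e • s + B y s • e + (B y e • e + B y e • e) by abel, h1, add_zero]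
  es := by rw [h.add_right, h.es, h.alt, add_zero]
  Ds d hd := by rw [h.add_right, h.Ds d hd, h.De d hd, add_zero]
  sD := h.seD
  seD := by
    rw [add_assoc, two, add_zero]
    exact h.sD
  rad := h.rad'
  rad' := by
    rw [add_assoc, two, add_zero]
    exact h.rad
  mov := by
    obtain ⟨a, ha, h1⟩ := h.mov
    refine ⟨a, ha, ?_⟩
    rw [map_add, h1, h.fix a ha]
  ef := h.ef

/-- conjugate data -/
theorem conj (h : Dat ρ B A D σ e s) (g : M) :
    Dat ρ B (A.map (MulAut.conj g).toMonoidHom) (D.map (ρ g : E →+ E)) (g * σ * g⁻¹) (ρ g e)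
      (ρ g s) := by
  have hB : ∀ x y, B x (ρ g y) = B (ρ g⁻¹ x) y := by
    intro x y
    rw [← h.isom g (ρ g⁻¹ x) y, act_inv]
  have hmem : ∀ x, x ∈ D.map (ρ g : E →+ E) ↔ ρ g⁻¹ x ∈ D := by
    intro x
    constructor
    · rintro ⟨d, hd, rfl⟩
      change ρ g⁻¹ (ρ g d) ∈ D
      rwa [act_inv']
    · intro hx
      exact ⟨_, hx, act_inv ρ g x⟩
  refine
  { add := h.add
    symm := h.symm
    alt := h.alt
    isom := h.isom
    fix := ?_
    sq := ?_
    sur := ?_
    perp := ?_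
    norm := ?_
    De := ?_
    sA := ⟨σ, h.sA, rfl⟩
    sig := ?_
    es := ?_
    Ds := ?_
    sD := ?_
    seD := ?_
    rad := ?_
    rad' := ?_
    mov := ?_
    ef := ?_ }
  · rintro _ ⟨a, ha, rfl⟩
    change ρ (g * a * g⁻¹) (ρ g e) = ρ g e
    rw [act_mul, act_mul, act_inv', h.fix a ha]
  · rintro _ ⟨a, ha, rfl⟩ x
    change ρ (g * a * g⁻¹) (ρ (g * a * g⁻¹) x) = x
    rw [act_mul, act_mul, act_mul, act_mul, act_inv', h.sq a ha, act_inv]
  · intro x hx y hy
    obtain ⟨a, ha, h1⟩ := h.sur (ρ g⁻¹ x) (by rw [← hB, hx]) (ρ g⁻¹ y) (by rw [← hB, hy])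
    refine ⟨g * a * g⁻¹, ⟨a, ha, rfl⟩, ?_⟩
    rw [hmem, map_add, map_add, act_mul, act_mul, act_inv']
    exact h1
  · rintro _ ⟨a, ha, rfl⟩ y hy
    change ρ (g * a * g⁻¹) y + y ∈ _
    rw [hmem, map_add, act_mul, act_mul, act_inv']
    exact h.perp a ha _ (by rw [← hB, hy])
  · intro k hk d hd
    rw [hmem] at hd ⊢
    have h1 := h.norm (g⁻¹ * k * g) (by rw [act_mul, act_mul, hk, act_inv']) _ hd
    rw [act_mul, act_mul, act_inv] at h1
    exact h1
  · intro d hd
    rw [hB]
    exact h.De _ ((hmem d).1 hd)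
  · intro y
    rw [act_mul, act_mul, h.sig, map_add, map_add, act_smul, act_smul, act_inv, hB, hB]
  · rw [h.isom, h.es]
  · intro d hd
    rw [hB]
    exact h.Ds _ ((hmem d).1 hd)
  · rw [hmem, act_inv']
    exact h.sD
  · rw [hmem, map_add, act_inv', act_inv']
    exact h.seD
  · obtain ⟨y, hy⟩ := h.rad
    exact ⟨ρ g y, by rw [h.isom, hy]⟩
  · obtain ⟨y, hy⟩ := h.rad'
    exact ⟨ρ g y, by rw [← map_add, h.isom, hy]⟩
  · obtain ⟨a, ha, h1⟩ := h.mov
    refine ⟨g * a * g⁻¹, ⟨a, ha, rfl⟩, ?_⟩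
    rw [act_mul, act_mul, act_inv', h1, map_add]
  · intro k hk
    have h1 := h.ef (g⁻¹ * k * g) (by
      have h2 := congrArg (fun f => ρ g⁻¹ * f * ρ g) hk
      simp only [map_mul] at h2 ⊢
      have e1 : ρ g⁻¹ * ρ g = 1 := by rw [← map_mul, inv_mul_cancel, map_one]
      calc ρ g⁻¹ * ρ k * ρ g * ρ σ
          = ρ g⁻¹ * (ρ k * (ρ g * ρ σ * ρ g⁻¹)) * ρ g := by
            simp only [mul_assoc]; rw [e1, mul_one]
        _ = ρ g⁻¹ * (ρ g * ρ σ * ρ g⁻¹ * ρ k) * ρ g := h2
        _ = (ρ g⁻¹ * ρ g) * ρ σ * (ρ g⁻¹ * ρ k * ρ g) := by simp only [mul_assoc]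
        _ = _ := by rw [e1, one_mul])
    have h3 := congrArg (ρ g) h1
    rwa [act_mul, act_mul, act_inv] at h3

/-- two long root elements on nondegenerately paired lines generate `S₃` -/
theorem braid (h : Dat ρ B A D σ e s) {T T' : AddMonoid.End E} {x w x' w' : E}
    (hT : ∀ y, T y = y + B y x • w + B y w • x) (hT' : ∀ y, T' y = y + B y x' • w' + B y w' • x')
    (hxw : B x w = 0) (hxw' : B x' w' = 0)
    (det : B x x' * B w w' + B x w' * B w x' = 1) : T * T' * T = T' * T * T' := by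
  have key : ∀ a b c d p q r u : ZMod 2, p * u + q * r = 1 →
      (a + (c + a * r + b * p) * q + (d + a * u + b * q) * p + a = a + c * q + d * p ∧
      b + (c + a * r + b * p) * u + (d + a * u + b * q) * r + b = b + c * u + d * r ∧
      c + a * r + b * p = c + (a + c * q + d * p) * r + (b + c * u + d * r) * p + c ∧
      d + a * u + b * q = d + (a + c * q + d * p) * u + (b + c * u + d * r) * q + d) := by decide
  ext y
  change T (T' (T y)) = T' (T (T' y))
  have hwx : B w x = 0 := by rw [h.symm, hxw]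
  have hwx' : B w' x' = 0 := by rw [h.symm, hxw']
  have Tx : T x = x := by rw [hT, h.alt, hxw, zero_smul, zero_smul, add_zero, add_zero]
  have Tw : T w = w := by rw [hT, h.alt, hwx, zero_smul, zero_smul, add_zero, add_zero]
  have Tx' : T' x' = x' := by rw [hT', h.alt, hxw', zero_smul, zero_smul, add_zero, add_zero]
  have Tw' : T' w' = w' := by rw [hT', h.alt, hwx', zero_smul, zero_smul, add_zero, add_zero]
  have h1 := hT x'
  have h2 := hT w'
  have h3 := hT' x
  have h4 := hT' w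
  rw [h.symm x' x, h.symm x' w] at h1
  rw [h.symm w' x, h.symm w' w] at h2
  obtain ⟨k1, k2, k3, k4⟩ := key (B y x) (B y w) (B y x') (B y w') (B x x') (B x w') (B w x')
    (B w w') det
  have l1 : T' (T y) = y + B y x • w + B y w • x + (B y x' + B y x * B w x' + B y w * B x x') • w' +
      (B y w' + B y x * B w w' + B y w * B x w') • x' := by
    rw [hT y, map_add, map_add, act_smul, act_smul, h3, h4, hT' y]
    module
  have l2 : T (T' y) = y + (B y x + B y x' * B x w' + B y w' * B x x') • w +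
      (B y w + B y x' * B w w' + B y w' * B w x') • x + B y x' • w' + B y w' • x' := by
    rw [hT' y, map_add, map_add, act_smul, act_smul, h1, h2, hT y]
    module
  have l3 : T (T' (T y)) = y +
      (B y x + (B y x' + B y x * B w x' + B y w * B x x') * B x w' +
        (B y w' + B y x * B w w' + B y w * B x w') * B x x' + B y x) • w +
      (B y w + (B y x' + B y x * B w x' + B y w * B x x') * B w w' +
        (B y w' + B y x * B w w' + B y w * B x w') * B w x' + B y w) • x +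
      (B y x' + B y x * B w x' + B y w * B x x') • w' +
      (B y w' + B y x * B w w' + B y w * B x w') • x' := by
    rw [l1, map_add, map_add, map_add, map_add, act_smul, act_smul, act_smul, act_smul, h1, h2,
      Tx, Tw, hT y]
    module
  have l4 : T' (T (T' y)) = y + (B y x + B y x' * B x w' + B y w' * B x x') • w +
      (B y w + B y x' * B w w' + B y w' * B w x') • x +
      (B y x' + (B y x + B y x' * B x w' + B y w' * B x x') * B w x' +
        (B y w + B y x' * B w w' + B y w' * B w x') * B x x' + B y x') • w' +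
      (B y w' + (B y x + B y x' * B x w' + B y w' * B x x') * B w w' +
        (B y w + B y x' * B w w' + B y w' * B w x') * B x w' + B y w') • x' := by
    rw [l2, map_add, map_add, map_add, map_add, act_smul, act_smul, act_smul, act_smul, h3, h4,
      Tx', Tw', hT' y]
    module
  rw [l3, l4, k1, k2, ← k3, ← k4]

theorem sig_sq (h : Dat ρ B A D σ e s) : ρ σ * ρ σ = 1 := by
  ext y
  exact h.sq σ h.sA y

/-- the marked vectors are compatible with braiding -/
theorem marked (h : Dat ρ B A D σ e s) {g g' t t' : M} (ht : g * σ * g⁻¹ = t)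
    (ht' : g' * σ * g'⁻¹ = t') (hb : ρ t * ρ t' * ρ t = ρ t' * ρ t * ρ t') :
    ρ t' (ρ g e) = ρ t (ρ g' e) := by
  have e1 : ∀ a b : M, a = b → ρ a = ρ b := fun a b h => by rw [h]
  have st : ρ t * ρ t = 1 := by
    rw [← ht, map_mul, map_mul]
    calc ρ g * ρ σ * ρ g⁻¹ * (ρ g * ρ σ * ρ g⁻¹)
        = ρ g * (ρ σ * ((ρ g⁻¹ * ρ g) * ρ σ)) * ρ g⁻¹ := by simp only [mul_assoc]
      _ = 1 := by
        rw [← map_mul, inv_mul_cancel, map_one, one_mul, h.sig_sq, mul_one, ← map_mul,
          mul_inv_cancel, map_one]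
  have st' : ρ t' * ρ t' = 1 := by
    rw [← ht', map_mul, map_mul]
    calc ρ g' * ρ σ * ρ g'⁻¹ * (ρ g' * ρ σ * ρ g'⁻¹)
        = ρ g' * (ρ σ * ((ρ g'⁻¹ * ρ g') * ρ σ)) * ρ g'⁻¹ := by simp only [mul_assoc]
      _ = 1 := by
        rw [← map_mul, inv_mul_cancel, map_one, one_mul, h.sig_sq, mul_one, ← map_mul,
          mul_inv_cancel, map_one]
  -- `ρ (t' g) ρ σ = X ρ (t' g)`, `ρ (t g') ρ σ = X ρ (t g')`
  have a1 : ρ (t' * g) * ρ σ = ρ t' * ρ t * ρ t' * ρ (t' * g) := by
    rw [← map_mul, e1 (t' * g * σ) (t' * t * g) (by rw [← ht]; group), map_mul, map_mul, map_mul]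
    calc ρ t' * ρ t * ρ g = ρ t' * ρ t * (1 * ρ g) := by rw [one_mul]
      _ = _ := by rw [← st']; simp only [mul_assoc]
  have a2 : ρ (t * g') * ρ σ = ρ t' * ρ t * ρ t' * ρ (t * g') := by
    rw [← hb, ← map_mul, e1 (t * g' * σ) (t * t' * g') (by rw [← ht']; group), map_mul, map_mul,
      map_mul]
    calc ρ t * ρ t' * ρ g' = ρ t * ρ t' * (1 * ρ g') := by rw [one_mul]
      _ = _ := by rw [← st]; simp only [mul_assoc]
  have a3 : ρ (t * g')⁻¹ * (ρ t' * ρ t * ρ t') = ρ σ * ρ (t * g')⁻¹ := by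
    calc ρ (t * g')⁻¹ * (ρ t' * ρ t * ρ t')
        = ρ (t * g')⁻¹ * (ρ t' * ρ t * ρ t' * (ρ (t * g') * ρ (t * g')⁻¹)) := by
          rw [← map_mul ρ (t * g'), mul_inv_cancel, map_one, mul_one]
      _ = ρ (t * g')⁻¹ * (ρ t' * ρ t * ρ t' * ρ (t * g')) * ρ (t * g')⁻¹ := by
          simp only [mul_assoc]
      _ = (ρ (t * g')⁻¹ * ρ (t * g')) * ρ σ * ρ (t * g')⁻¹ := by rw [← a2]; simp only [mul_assoc]
      _ = _ := by rw [← map_mul ρ (t * g')⁻¹, inv_mul_cancel, map_one, one_mul]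
  have a4 := h.ef ((t * g')⁻¹ * (t' * g)) (by
    rw [map_mul, mul_assoc, a1, ← mul_assoc, a3, mul_assoc])
  have a5 := congrArg (ρ (t * g')) a4
  rwa [← act_mul, mul_inv_cancel_left, act_mul, act_mul] at a5

/-- (R) -/
theorem rr (h : Dat ρ B A D σ e s) {t t' : M} {x w x' w' : E} (hg : ∃ g, g * σ * g⁻¹ = t ∧ ρ g e = x)
    (hg' : ∃ g, g * σ * g⁻¹ = t' ∧ ρ g e = x')
    (hT : ∀ y, ρ t y = y + B y x • w + B y w • x) (hT' : ∀ y, ρ t' y = y + B y x' • w' + B y w' • x')
    (hxw : B x w = 0) (hxw' : B x' w' = 0)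
    (det : B x x' * B w w' + B x w' * B w x' = 1) :
    x + B x x' • w' + B x w' • x' = x' + B x' x • w + B x' w • x := by
  obtain ⟨g, ht, rfl⟩ := hg
  obtain ⟨g', ht', rfl⟩ := hg'
  rw [← hT', ← hT]
  exact h.marked ht ht' (h.braid hT hT' hxw hxw' det)

theorem main (h : Dat ρ B A D σ e s) {k t : M} {f sf : E} {A' : Subgroup M} {D' : AddSubgroup E}
    (ht : k * σ * k⁻¹ = t) (hf : ρ k e = f) (hk : Dat ρ B A' D' t f sf)
    (h1 : B e f = 1) (h2 : B s f = 0) (h3 : B sf e = 0) : False := by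
  have h3' : B e sf = 0 := by rw [h.symm, h3]
  have h2' : B f s = 0 := by rw [h.symm, h2]
  have h1' : B f e = 1 := by rw [h.symm, h1]
  have hse : B s e = 0 := by rw [h.symm, h.es]
  have hsff : B sf f = 0 := by rw [h.symm, hk.es]
  -- (1)
  have s1 : B s sf = 0 := by
    rcases zcases (B s sf) with h4 | h4
    · exact h4
    exfalso
    have h5 := h.rr (t := σ) (t' := t) (x := e) (w := s) (x' := f) (w' := sf)
      ⟨1, by group, by rw [map_one]; rfl⟩ ⟨k, ht, hf⟩ h.sig hk.sig h.es hk.es (by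
        rw [h1, h4, h2, mul_zero, add_zero, mul_one])
    rw [h1, h3', h1', h2', zero_smul, zero_smul, one_smul, one_smul, add_zero, add_zero] at h5
    have h6 : B (e + sf) e = B (f + s) e := by rw [h5]
    rw [h.add, h.add, h.alt, h3, h1', hse] at h6
    exact absurd h6 (by decide)
  have s1' : B sf s = 0 := by rw [h.symm, s1]
  -- (2)
  have tsf : ρ t sf = sf := by
    rw [hk.sig, hsff, h.alt, zero_smul, zero_smul, add_zero, add_zero]
  have tf : ρ t f = f := by
    rw [hk.sig, hk.es, h.alt, zero_smul, zero_smul, add_zero, add_zero]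
  have ts : ρ t s = s := by
    rw [hk.sig, h2, s1, zero_smul, zero_smul, add_zero, add_zero]
  have ssf : ρ σ sf = sf := by
    rw [h.sig, h3, s1', zero_smul, zero_smul, add_zero, add_zero]
  have ss : ρ σ s = s := by
    rw [h.sig, h.alt, hse, zero_smul, zero_smul, add_zero, add_zero]
  have sf' : ρ σ f = f + s := by
    rw [h.sig, h1', h2', zero_smul, one_smul, add_zero]
  have kap : ∀ y, B y e = 0 → B y s = 0 → ρ (σ * t * σ * t) y = y + B y sf • s := by
    intro y hy hy'
    have l1 : ρ σ y = y := by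
      rw [h.sig, hy, hy', zero_smul, zero_smul, add_zero, add_zero]
    rw [act_mul, act_mul, act_mul]
    have l2 : ρ σ (ρ t y) = y + B y f • sf + B y sf • (f + s) := by
      rw [hk.sig, map_add, map_add, act_smul, act_smul, l1, ssf, sf']
    have l3 : ρ t (y + B y f • sf + B y sf • (f + s)) = y + B y sf • s := by
      rw [map_add, map_add, act_smul, act_smul, map_add, tsf, tf, ts, hk.sig, smul_add]
      have e1 := two (B y f • sf)
      have e2 := two (B y sf • f)
      calc y + B y f • sf + B y sf • f + B y f • sf + (B y sf • f + B y sf • s)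
          = y + B y sf • s + (B y f • sf + B y f • sf) + (B y sf • f + B y sf • f) := by abel
        _ = _ := by rw [e1, e2, add_zero, add_zero]
    rw [l2, l3, map_add, act_smul, l1, ss]
  have hDf : ∀ d ∈ D, B d sf = 0 := by
    intro d hd
    rcases zcases (B d sf) with h4 | h4
    · exact h4
    exfalso
    have h5 := h.norm (σ * t * σ * t) (by
      rw [kap e (h.alt e) h.es, h3', zero_smul, add_zero]) d hd
    rw [kap d (h.De d hd) (h.Ds d hd), h4, one_smul] at h5
    exact h.sD ((AddSubgroup.add_mem_cancel_left D hd).1 h5)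
  have hDf' : ∀ d ∈ D, B sf d = 0 := fun d hd => by rw [h.symm, hDf d hd]
  have hDs' : ∀ d ∈ D, B s d = 0 := fun d hd => by rw [h.symm, h.Ds d hd]
  -- (3)
  have eaf : ∀ a ∈ A, B (ρ a f) e = 1 := by
    intro a ha
    have h4 := h.isom a f e
    rw [h.fix a ha, h1'] at h4
    exact h4
  have ega : ∀ a ∈ A, B (ρ a f + f) e = 0 := by
    intro a ha
    rw [h.add, eaf a ha, h1']
    decide
  have hom : ∀ v, (∀ d ∈ D, B v d = 0) → ∀ a ∈ A, ∀ b ∈ A,
      B v (ρ (a * b) f + f) = B v (ρ a f + f) + B v (ρ b f + f) := by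
    intro v hv a ha b hb
    have h4 := hv _ (h.perp a ha (ρ b f + f) (ega b hb))
    have h5 : ρ (a * b) f + f = (ρ a (ρ b f + f) + (ρ b f + f)) + (ρ a f + f) + (ρ b f + f) := by
      rw [act_mul, map_add]
      have e1 := two (ρ b f)
      have e2 := two f
      have e3 := two (ρ a f)
      calc ρ a (ρ b f) + f = ρ a (ρ b f) + f + (ρ b f + ρ b f) + (f + f) + (ρ a f + ρ a f) := by
            rw [e1, e2, e3, add_zero, add_zero, add_zero]
        _ = _ := by abel
    rw [h5, h.add_right, h.add_right, h4, zero_add]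
  obtain ⟨a1, ha1, hb1⟩ : ∃ a ∈ A, B sf (ρ a f + f) = 1 := by
    by_contra hno
    have hz : ∀ a ∈ A, B sf (ρ a f + f) = 0 := by
      intro a ha
      rcases zcases (B sf (ρ a f + f)) with h4 | h4
      · exact h4
      · exact absurd ⟨a, ha, h4⟩ hno
    have hzz : ∀ y, B y e = 0 → B sf y = 0 := by
      intro y hy
      obtain ⟨a, ha, h4⟩ := h.sur f h1' y hy
      have h5 := hDf' _ h4
      rw [h.add_right, hz a ha, zero_add] at h5
      exact h5
    obtain ⟨y, hy⟩ := hk.rad
    rcases zcases (B y e) with h4 | h4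
    · rw [hzz y h4] at hy
      exact absurd hy (by decide)
    · have h5 := hzz (y + f) (by rw [h.add, h4, h1']; decide)
      rw [h.add_right, hy, hsff] at h5
      exact absurd h5 (by decide)
  obtain ⟨a2, ha2, hb2⟩ : ∃ a ∈ A, B s (ρ a f + f) = 1 := by
    obtain ⟨a, ha, h4⟩ := h.mov
    refine ⟨a, ha, ?_⟩
    rw [h.add_right, h2, add_zero, ← h.isom a, h4, h.sq a ha, h.add, h2, h1, zero_add]
  obtain ⟨a, ha, hb, hg⟩ : ∃ a ∈ A, B sf (ρ a f + f) = 1 ∧ B s (ρ a f + f) = 1 := by
    rcases zcases (B s (ρ a1 f + f)) with h4 | h4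
    · rcases zcases (B sf (ρ a2 f + f)) with h5 | h5
      · refine ⟨a1 * a2, mul_mem ha1 ha2, ?_, ?_⟩
        · rw [hom sf hDf' a1 ha1 a2 ha2, hb1, h5, add_zero]
        · rw [hom s hDs' a1 ha1 a2 ha2, h4, hb2, zero_add]
      · exact ⟨a2, ha2, h5, hb2⟩
    · exact ⟨a1, ha1, hb1, h4⟩
  -- (4)
  have s4 : ∀ a ∈ A, B sf (ρ a f + f) = 1 → B f (ρ a f) = 0 := by
    intro a ha hb
    rcases zcases (B f (ρ a f)) with h4 | h4
    · exact h4
    exfalso
    have hc := hk.conj a
    have q1 : B sf (ρ a f) = 1 := by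
      rw [h.add_right, hsff, add_zero] at hb
      exact hb
    have q2 : B f (ρ a sf) = 1 := by
      rw [← h.isom a, h.sq a ha, h.symm, q1]
    have q3 : B sf (ρ a sf) = 0 := by
      have h5 := hDf' _ (h.perp a ha sf h3)
      rw [h.add_right, h.alt, add_zero] at h5
      exact h5
    have h5 := h.rr (t := t) (t' := a * t * a⁻¹) (x := f) (w := sf) (x' := ρ a f) (w' := ρ a sf)
      ⟨k, ht, hf⟩ ⟨a * k, by rw [← ht]; group, by rw [act_mul, hf]⟩ hk.sig hc.sig hk.es hc.es (by
        rw [h4, q3, q2, q1]; decide)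
    rw [h4, q2, h.symm (ρ a f) f, h4, h.symm (ρ a f) sf, q1, one_smul, one_smul, one_smul,
      one_smul] at h5
    have h6 : ρ a sf = sf := by
      have h7 : f + ρ a sf + ρ a f = f + sf + ρ a f := by rw [h5]; abel
      exact add_left_cancel (add_right_cancel h7)
    rw [← h6, h.isom, hsff] at q1
    exact absurd q1 (by decide)
  -- (5)
  have s5 := s4 a ha hb
  have s6 := s4 (σ * a) (mul_mem h.sA ha) (by
    rw [hom sf hDf' σ h.sA a ha, hb, sf']
    have e1 : f + s + f = s := by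
      calc f + s + f = s + (f + f) := by abel
        _ = s := by rw [two, add_zero]
    rw [e1, s1', zero_add])
  have hg' : B (ρ a f) s = 1 := by
    rw [h.add_right, h2, add_zero] at hg
    rw [h.symm, hg]
  rw [act_mul, h.sig, eaf a ha, hg', one_smul, one_smul, h.add_right, h.add_right, s5, h2', h1']
    at s6
  exact absurd s6 (by decide)

/-- **The end**: all `M`-conjugates of `e` are orthogonal to `e`. -/
theorem orth (h : Dat ρ B A D σ e s) (k : M) : B e (ρ k e) = 0 := by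
  rcases zcases (B e (ρ k e)) with h1 | h1
  · exact h1
  exfalso
  have hc := h.conj k
  have hc' := hc.swap
  obtain ⟨sf, A', D', hk, h3⟩ : ∃ (sf : E) (A' : Subgroup M) (D' : AddSubgroup E),
      Dat ρ B A' D' (k * σ * k⁻¹) (ρ k e) sf ∧ B sf e = 0 := by
    rcases zcases (B (ρ k s) e) with h4 | h4
    · exact ⟨_, _, _, hc, h4⟩
    · refine ⟨_, _, _, hc', ?_⟩
      rw [h.add, h4, h.symm, h1]
      decide
  rcases zcases (B s (ρ k e)) with h4 | h4
  · exact h.main rfl rfl hk h1 h4 h3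
  · exact h.swap.main rfl rfl hk h1 (by rw [h.add, h4, h1]; decide) h3

end Dat

end Cfsg.Agent.Omega.FFTwoA.End
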