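import Cfsg.Agent.Omega.FFTwoA.OTwo

/-!
# FF-2a (7): `Z(O₂(C(z)))` has no involution outside `⟨z⟩`

bb OMEGA #12472 (helper9), with `|Z(O z)| ≤ 4` (#12111, helper146).
-/

set_option autoImplicit false

namespace Cfsg.Agent.Omega.FFTwoA.Final

open Subgroup Cfsg.Agent.ZN Cfsg.Agent.ZN.Block
open Cfsg.Agent.Omega.FFTwoA.Main Cfsg.Agent.Omega.FFTwoA.Four Cfsg.Agent.Omega.FFTwoA.Line
open Cfsg.Agent.Omega.FFTwoA.OTwo Cfsg.Agent.Omega.FFTwoA.Cases

universe u

variable {G : Type u} [Group G] {z a d : G}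

/-- `C(z) ∩ C(d)` -/
def CC (z d : G) : Subgroup G := centralizer ({z} : Set G) ⊓ centralizer ({d} : Set G)

theorem mem_cc {z d x : G} : x ∈ CC z d ↔ x * z = z * x ∧ x * d = d * x := by
  rw [CC, mem_inf, mem_c, mem_c]

/-- `C(z)` normalises `C(z) ∩ C(d)` -/
theorem cc_conj (h : Lin OO z a d) {g : G} (hg : g * z = z * g) {x : G} (hx : x ∈ CC z d) :
    g * x * g⁻¹ ∈ CC z d := by
  rw [mem_cc] at hx ⊢
  obtain ⟨h1, h2⟩ := hx
  refine ⟨mul_comm' (mul_comm' hg h1) (inv_comm hg), ?_⟩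
  have hgi := inv_comm hg
  have hgd : g⁻¹ * d * g = d ∨ g⁻¹ * d * g = z * d := by
    have := h.movD hgi
    rwa [inv_inv] at this
  have e : g * x * g⁻¹ * d = g * (x * (g⁻¹ * d * g)) * g⁻¹ := by group
  have e' : d * (g * x * g⁻¹) = g * ((g⁻¹ * d * g) * x) * g⁻¹ := by group
  rw [e, e']
  rcases hgd with k | k <;> rw [k]
  · rw [h2]
  · have : x * (z * d) = z * d * x := by rw [← mul_assoc, h1, mul_assoc, h2, mul_assoc]
    rw [this]

theorem cc_map (h : Lin OO z a d) {g : G} (hg : g * z = z * g) :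
    (CC z d).map (MulAut.conj g).toMonoidHom = CC z d := by
  refine map_conj_eq (fun x hx => cc_conj h hg hx) fun x hx => ?_
  have := cc_conj h (inv_comm hg) hx
  rwa [inv_inv] at this

theorem o2_cc_le (h : Lin OO z a d) : o2 (CC z d) ≤ OO z := by
  refine le_oo (Block.o2_isPGroup _) (fun x hx => (mem_cc.1 (Block.o2_le _ hx)).1) ?_
  intro g hg x hx
  exact o2_normal (cc_map h hg) hx

/-- the case `d ~ z` -/
theorem not_conj [Finite G] (h : Lin OO z a d) (g : G) (hg : g * z * g⁻¹ = d) : False := by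
  obtain ⟨u, hu, huz, hud⟩ := h.exd
  have hun : ¬ u * d = d * u := by
    intro k
    rw [hud] at k
    have : z * (d * u) = d * u := by rw [← mul_assoc]; exact k
    exact h.z1 (mul_eq_right.1 this)
  -- index of `CC z d` in `C(z)` is 2
  have hle1 : CC z d ≤ centralizer ({z} : Set G) := inf_le_left
  have hle2 : CC z d ≤ centralizer ({d} : Set G) := inf_le_right
  have hi : (CC z d).relIndex (centralizer ({z} : Set G)) = 2 := by
    rw [Subgroup.relIndex, Subgroup.index_eq_two_iff]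
    refine ⟨⟨u, mem_c.2 huz⟩, ?_⟩
    rintro ⟨x, hx⟩
    rw [mem_c] at hx
    rw [mem_subgroupOf, mem_subgroupOf]
    change Xor (x * u ∈ CC z d) (x ∈ CC z d)
    rw [mem_cc, mem_cc]
    have hxd := h.movD hx
    have huz' : x * u * z = z * (x * u) := mul_comm' hx huz
    rcases hxd with k | k <;> rw [mul_inv_eq_iff_eq_mul] at k
    · right
      refine ⟨⟨hx, k⟩, ?_⟩
      rintro ⟨_, k2⟩
      apply hun
      have : x * (u * d) = x * (d * u) := by
        calc x * (u * d) = x * u * d := by group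
          _ = d * x * u := by rw [k2]; group
          _ = x * (d * u) := by rw [← k]; group
      exact mul_left_cancel this
    · left
      refine ⟨⟨huz', ?_⟩, ?_⟩
      · calc x * u * d = x * (u * d) := by group
          _ = x * z * d * u := by rw [hud]; group
          _ = z * (x * d) * u := by rw [hx]; group
          _ = z * z * d * (x * u) := by rw [k]; group
          _ = d * (x * u) := by rw [h.zz, one_mul]
      · rintro ⟨_, k2⟩
        rw [k2] at k
        have : z * (d * x) = d * x := by rw [← mul_assoc]; exact k.symm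
        exact h.z1 (mul_eq_right.1 this)
  have hcard : Nat.card (centralizer ({z} : Set G)) = Nat.card (centralizer ({d} : Set G)) := by
    have : (centralizer ({z} : Set G)).map (MulAut.conj g).toMonoidHom =
        centralizer ({d} : Set G) := by
      ext x
      constructor
      · rintro ⟨y, hy, rfl⟩
        rw [SetLike.mem_coe, mem_c] at hy
        rw [mem_c]
        change g * y * g⁻¹ * d = d * (g * y * g⁻¹)
        rw [← hg]
        calc g * y * g⁻¹ * (g * z * g⁻¹) = g * (y * z) * g⁻¹ := by group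
          _ = g * z * g⁻¹ * (g * y * g⁻¹) := by rw [hy]; group
      · intro hx
        rw [mem_c] at hx
        refine ⟨g⁻¹ * x * g, ?_, ?_⟩
        · rw [SetLike.mem_coe, mem_c]
          rw [← hg] at hx
          calc g⁻¹ * x * g * z = g⁻¹ * (x * (g * z * g⁻¹)) * g := by group
            _ = z * (g⁻¹ * x * g) := by rw [hx]; group
        · change g * (g⁻¹ * x * g) * g⁻¹ = x
          group
    rw [← this]
    exact (Nat.card_congr (Subgroup.equivMapOfInjective _ _ (MulAut.conj g).injective).toEquiv)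
  have hi2 : (CC z d).relIndex (centralizer ({d} : Set G)) = 2 := by
    have e1 := card_mul_relIndex' hle1
    have e2 := card_mul_relIndex' hle2
    rw [hi] at e1
    rw [← hcard, ← e1] at e2
    exact Nat.eq_of_mul_eq_mul_left Nat.card_pos e2
  -- `CC z d` is normal in `C(d)`
  have hn : ((CC z d).subgroupOf (centralizer ({d} : Set G))).Normal :=
    Subgroup.normal_of_index_eq_two hi2
  have hconj : ∀ c, c * d = d * c → ∀ x ∈ CC z d, c * x * c⁻¹ ∈ CC z d := by
    intro c hc x hx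
    have := hn.conj_mem ⟨x, hle2 hx⟩ (mem_subgroupOf.2 hx) ⟨c, mem_c.2 hc⟩
    exact mem_subgroupOf.1 this
  have ho2 : OO z ≤ o2 (CC z d) := by
    refine Block.le_o2 (isP z) ?_ ?_
    · intro x hx
      rw [mem_cc]
      exact ⟨oo_comm hx, ((h.toCfg.dp_iff.1 h.dD).2 x hx).symm⟩
    · exact le_normalizer_of_forall fun l hl m hm => oo_conj (mem_cc.1 hl).1 hm
  have hO : ∀ c, c * d = d * c → ∀ x ∈ OO z, c * x * c⁻¹ ∈ OO z := by
    intro c hc x hx
    apply o2_cc_le h
    refine o2_normal (map_conj_eq (hconj c hc) ?_) (ho2 hx)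
    intro y hy
    have := hconj c⁻¹ (inv_comm hc) y hy
    rwa [inv_inv] at this
  -- so `C(d) ≤ C(z)`
  obtain ⟨w, hw, hwa, _, _⟩ := h.w0
  rw [MulAut.conj_apply] at hwa
  have hz : w * a * w⁻¹ * a⁻¹ = z := by rw [hwa]; group
  have hsub : ∀ c, c * d = d * c → c * z = z * c := by
    intro c hc
    have h1 := h.toCfg.comm_mem (hO c hc w hw.1) (hO c hc a h.aO)
    have e : c * w * c⁻¹ * (c * a * c⁻¹) * (c * w * c⁻¹)⁻¹ * (c * a * c⁻¹)⁻¹ =
        c * (w * a * w⁻¹ * a⁻¹) * c⁻¹ := by group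
    rw [e, hz] at h1
    rcases h1 with k | k
    · exfalso
      apply h.z1
      have : c * z * c⁻¹ = c * 1 * c⁻¹ := by rw [k]; group
      exact mul_left_cancel (mul_right_cancel this)
    · rw [mul_inv_eq_iff_eq_mul] at k; exact k
  have : (CC z d).relIndex (centralizer ({d} : Set G)) = 1 := by
    rw [Subgroup.relIndex_eq_one]
    intro x hx
    rw [mem_c] at hx
    exact mem_cc.2 ⟨hsub x hx, hx⟩
  rw [hi2] at this
  exact absurd this (by norm_num)

/-- `O₂(C(d)) ≤ O₂(C(z))` if `O₂(C(d)) ≤ C(z)` -/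
theorem oo_le (h : Lin OO z a d) (hod : ∀ x ∈ OO d, x * z = z * x) : OO d ≤ OO z := by
  refine le_trans (Block.le_o2 (isP d) ?_ ?_) (o2_cc_le h)
  · intro x hx
    exact mem_cc.2 ⟨hod x hx, oo_comm hx⟩
  · exact le_normalizer_of_forall fun l hl m hm => oo_conj (mem_cc.1 hl).2 hm

/-- the case `d ≁ z` -/
theorem conj_case [Finite G] (h : Lin OO z a d) (hch : Ch G)
    (hna : ∃ m, m * z = z * m ∧ ¬ m * a * m⁻¹ * a = a * (m * a * m⁻¹))
    (hod : ∀ x ∈ OO d, x * z = z * x) : False := by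
  have hle := oo_le h hod
  have hdz : d * z = z * d := h.comm d h.dD.1
  have hzO : z ∈ OO d := by
    refine hch d h.dq h.d1 z hdz.symm fun q hq => (hod q hq).symm
  refine b_one_false h hna ?_
  by_contra hcon
  push Not at hcon
  obtain ⟨c, hcd, hcz⟩ := hcon
  apply hcz
  -- `VC = Z(OO d)`
  set VC : Subgroup G := OO d ⊓ centralizer (OO d : Set G) with hVC
  have mV : ∀ x, x ∈ VC ↔ x ∈ OO d ∧ ∀ y ∈ OO d, y * x = x * y := by
    intro x
    rw [hVC, mem_inf, mem_centralizer_iff]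
    exact Iff.rfl
  have hzV : z ∈ VC := (mV z).2 ⟨hzO, fun y hy => hod y hy⟩
  have hVn : ∀ c, c * d = d * c → ∀ x ∈ VC, c * x * c⁻¹ ∈ VC := by
    intro c hc x hx
    rw [mV] at hx ⊢
    refine ⟨oo_conj hc hx.1, fun y hy => ?_⟩
    have h1 : c⁻¹ * y * c ∈ OO d := by
      have := oo_conj (inv_comm hc) hy
      rwa [inv_inv] at this
    have h2 := hx.2 _ h1
    calc y * (c * x * c⁻¹) = c * (c⁻¹ * y * c * x) * c⁻¹ := by group
      _ = c * x * c⁻¹ * y := by rw [h2]; group
  have hcomm := fun {v : G} (hv : v ∈ VC) {m : G} (hm : m * z = z * m) =>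
    b_two_comm h hna VC (fun x hx y hy => ((mV y).1 hy).2 x ((mV x).1 hx).1) hVn hzV
      (fun x hx => hle ((mV x).1 hx).1) hv hm
  -- `KC = C(d) ∩ C(VC)`
  set KC : Subgroup G := centralizer ({d} : Set G) ⊓ centralizer (VC : Set G) with hKC
  have mK : ∀ x, x ∈ KC ↔ x * d = d * x ∧ ∀ y ∈ VC, y * x = x * y := by
    intro x
    rw [hKC, mem_inf, mem_c, mem_centralizer_iff]
    exact Iff.rfl
  have hKn : ∀ c, c * d = d * c → ∀ x ∈ KC, c * x * c⁻¹ ∈ KC := by
    intro c hc x hx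
    rw [mK] at hx ⊢
    refine ⟨mul_comm' (mul_comm' hc hx.1) (inv_comm hc), fun y hy => ?_⟩
    have h1 : c⁻¹ * y * c ∈ VC := by
      have := hVn c⁻¹ (inv_comm hc) y hy
      rwa [inv_inv] at this
    have h2 := hx.2 _ h1
    calc y * (c * x * c⁻¹) = c * (c⁻¹ * y * c * x) * c⁻¹ := by group
      _ = c * x * c⁻¹ * y := by rw [h2]; group
  have hKz : ∀ x ∈ KC, x * z = z * x := fun x hx => (((mK x).1 hx).2 z hzV).symm
  have hO1 : OO z ⊓ KC ≤ o2 KC := by
    refine Block.le_o2 ((isP z).to_le inf_le_left) inf_le_right ?_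
    refine le_normalizer_of_forall fun l hl m hm => ?_
    have hm' := mem_inf.1 hm
    exact mem_inf.2 ⟨oo_conj (hKz l hl) hm'.1, mul_mem (mul_mem hl hm'.2) (inv_mem hl)⟩
  have hO2 : o2 KC ≤ OO d := by
    refine le_oo (Block.o2_isPGroup _) (fun x hx => ((mK x).1 (Block.o2_le _ hx)).1) ?_
    intro g hg x hx
    refine o2_normal (map_conj_eq (hKn g hg) ?_) hx
    intro y hy
    have := hKn g⁻¹ (inv_comm hg) y hy
    rwa [inv_inv] at this
  have haO : ∀ m, m * z = z * m → m * a * m⁻¹ ∈ OO d := by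
    intro m hm
    apply hO2
    apply hO1
    have h1 : m * a * m⁻¹ ∈ OO z := oo_conj hm h.aO
    refine ⟨h1, (mK _).2 ⟨((h.toCfg.dp_iff.1 h.dD).2 _ h1).symm, fun y hy => hcomm hy hm⟩⟩
  obtain ⟨m, hm, hmn⟩ := hna
  have ha1 := haO m hm
  have ha2 := haO 1 (by simp)
  have e1 : (1 : G) * a * (1 : G)⁻¹ = a := by group
  rw [e1] at ha2
  have hci := inv_comm hcd
  have k1 := h.toCfg.comm_mem (hle ha1) (hle ha2)
  have k2 := h.toCfg.comm_mem (hle (oo_conj hci ha1)) (hle (oo_conj hci ha2))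
  have e2 : c⁻¹ * (m * a * m⁻¹) * c⁻¹⁻¹ * (c⁻¹ * a * c⁻¹⁻¹) * (c⁻¹ * (m * a * m⁻¹) * c⁻¹⁻¹)⁻¹ *
      (c⁻¹ * a * c⁻¹⁻¹)⁻¹ = c⁻¹ * (m * a * m⁻¹ * a * (m * a * m⁻¹)⁻¹ * a⁻¹) * c := by group
  rw [e2] at k2
  have k3 : m * a * m⁻¹ * a * (m * a * m⁻¹)⁻¹ * a⁻¹ = z := by
    rcases k1 with k | k
    · exfalso
      apply hmn
      rw [mul_inv_eq_one, mul_inv_eq_iff_eq_mul] at k
      exact k
    · exact k
  rw [k3] at k2
  rcases k2 with k | k
  · exfalso
    apply h.z1
    have : c⁻¹ * z * c = c⁻¹ * 1 * c := by rw [k]; group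
    exact mul_left_cancel (mul_right_cancel this)
  · calc c * z = c * (c⁻¹ * z * c) := by rw [k]
      _ = z * c := by group

end Cfsg.Agent.Omega.FFTwoA.Final
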