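import Cfsg.Agent.Omega.FFTwoA.Quot
import Cfsg.Agent.Omega.FFTwoA.End
import Cfsg.Agent.Omega.FFTwoA.BTwo
import Cfsg.Agent.Omega.FFTwoA.Inter

/-!
# FF-2a (7): EF is contradictory
-/

set_option autoImplicit false

namespace Cfsg.Agent.Omega.FFTwoA.Glue

open Cfsg.Agent.Omega.FFTwoA.Main Cfsg.Agent.Omega.FFTwoA.Four Cfsg.Agent.Omega.FFTwoA.Line
open Cfsg.Agent.Omega.FFTwoA.Quot Cfsg.Agent.Omega.FFTwoA.BTwo Cfsg.Agent.Omega.FFTwoA.Inter

universe u

variable {G : Type u} [Group G] {O : G → Subgroup G} {z a d w d2 d3 s : G}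

/-- If `C_{C(z)}(σ)` fixes `e`, the conjugates of `a` under `C(z)` commute with `a`. -/
theorem orth [Finite G] (h : Line.Dat O z a d w d2 d3 s)
    (ef : ∀ m, NS O z d2 m → m * a * m⁻¹ = a ∨ m * a * m⁻¹ = z * a) :
    ∀ m, m * z = z * m → m * a * m⁻¹ * a = a * (m * a * m⁻¹) := by
  classical
  obtain ⟨E, _, _, ρ, π, B, hS⟩ := exists_sp h.toCfg
  have two : ∀ x : E, x + x = 0 := End.two
  set A : Subgroup (Subgroup.centralizer ({z} : Set G)) := (O a).subgroupOf _ with hA
  have mA : ∀ g : Subgroup.centralizer ({z} : Set G), g ∈ A ↔ (g : G) ∈ O a := fun g => Iff.rfl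
  have mz : ∀ g : Subgroup.centralizer ({z} : Set G), (g : G) * z = z * g := fun g =>
    Subgroup.mem_centralizer_singleton_iff.1 g.2
  have π1 : π 1 = 0 := (hS.ker 1).2 (Or.inl rfl)
  have πz : π ⟨z, h.zO⟩ = 0 := (hS.ker _).2 (Or.inr rfl)
  have πeq : ∀ x y : O z, π x = π y ↔ (y : G) = x ∨ (y : G) = z * x := by
    intro x y
    have hyz := h.comm y y.2
    have hxz := h.comm x x.2
    constructor
    · intro k
      have h1 : π (x⁻¹ * y) = 0 := by
        have h2 : π (x⁻¹ * x) = 0 := by rw [inv_mul_cancel, π1]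
        rw [hS.mul] at h2 ⊢
        rw [← k, h2]
      rw [hS.ker] at h1
      rcases h1 with h1 | h1
      · left
        have : (x : G)⁻¹ * y = 1 := h1
        rw [inv_mul_eq_one] at this; exact this.symm
      · right
        have : (x : G)⁻¹ * y = z := h1
        rw [inv_mul_eq_iff_eq_mul] at this
        rw [this, hxz]
    · rintro (k | k)
      · rw [Subtype.ext k]
      · have : y = ⟨z, h.zO⟩ * x := Subtype.ext k
        rw [this, hS.mul, πz, zero_add]
  set e : E := π ⟨a, h.aO⟩ with he
  set sb : E := π ⟨s, h.sO⟩ with hsb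
  have bcases := End.zcases
  have B0 : ∀ x y : O z, B (π x) (π y) = 0 ↔ (x : G) * y = y * x := hS.form
  have B1 : ∀ x y : O z, B (π x) (π y) = 1 ↔ (x : G) * y = z * y * x := by
    intro x y
    constructor
    · intro k
      have hn : ¬ (x : G) * y = y * x := by
        intro k'
        rw [← B0, k] at k'
        exact absurd k' (by decide)
      rcases h.toCfg.comm_mem x.2 y.2 with k1 | k1 <;>
        rw [mul_inv_eq_iff_eq_mul, mul_inv_eq_iff_eq_mul] at k1
      · exact absurd (by rw [k1, one_mul]) hn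
      · exact k1
    · intro k
      rcases bcases (B (π x) (π y)) with k1 | k1
      · rw [B0, k] at k1
        exfalso
        apply h.z1
        rw [mul_assoc] at k1
        exact mul_eq_right.1 k1
      · exact k1
  set D : AddSubgroup E :=
    { carrier := {v | ∃ x : O z, (x : G) ∈ O a ∧ π x = v}
      add_mem' := by
        rintro _ _ ⟨x, hx, rfl⟩ ⟨y, hy, rfl⟩
        exact ⟨x * y, mul_mem hx hy, hS.mul x y⟩
      zero_mem' := ⟨1, one_mem _, π1⟩
      neg_mem' := by
        rintro _ ⟨x, hx, rfl⟩
        refine ⟨x, hx, ?_⟩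
        rw [eq_neg_iff_add_eq_zero]; exact two _ } with hD
  have hzOa : z ∈ O a := h.toCfg.symm.aO
  have mD : ∀ x : O z, π x ∈ D ↔ (x : G) ∈ O a := by
    intro x
    constructor
    · rintro ⟨y, hy, k⟩
      rw [πeq] at k
      rcases k with k | k <;> rw [k]
      · exact hy
      · exact mul_mem hzOa hy
    · intro k
      exact ⟨x, k, rfl⟩
  have actπ : ∀ (g : Subgroup.centralizer ({z} : Set G)) (x : O z),
      ρ g (π x) = π ⟨g * x * (g : G)⁻¹, h.eqv.mem_conj x.2 (mz g)⟩ := fun g x =>
    (hS.act g x _ rfl).symm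
  have hd2c : d2 ∈ Subgroup.centralizer ({z} : Set G) :=
    Subgroup.mem_centralizer_singleton_iff.2 h.d2z
  have negE : ∀ x : O z, π x⁻¹ = π x := by
    intro x
    have h2 : π (x * x⁻¹) = 0 := by rw [mul_inv_cancel, π1]
    rw [hS.mul] at h2
    exact (End.eq_of_add h2).symm
  have data : End.Dat ρ B A D ⟨d2, hd2c⟩ e sb := by
    refine
    { add := ?_, symm := ?_, alt := ?_, isom := ?_, fix := ?_, sq := ?_, sur := ?_, perp := ?_,
      norm := ?_, De := ?_, sA := ?_, sig := ?_, es := ?_, Ds := ?_, sD := ?_, seD := ?_,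
      rad := ?_, rad' := ?_, mov := ?_, ef := ?_ }
    · intro x y v
      obtain ⟨x, rfl⟩ := hS.surj x
      obtain ⟨y, rfl⟩ := hS.surj y
      obtain ⟨v, rfl⟩ := hS.surj v
      rw [← hS.mul]
      have hxz := h.comm x x.2
      have hzz := h.zz
      rcases bcases (B (π x) (π v)) with k1 | k1 <;> rcases bcases (B (π y) (π v)) with k2 | k2
      · rw [k1, k2, add_zero, B0]
        rw [B0] at k1 k2
        change (x : G) * y * v = v * (x * y)
        rw [mul_assoc, k2, ← mul_assoc, k1, mul_assoc]
      · rw [k1, k2, zero_add, B1]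
        rw [B0] at k1; rw [B1] at k2
        change (x : G) * y * v = z * v * (x * y)
        calc (x : G) * y * v = x * (y * v) := by group
          _ = x * z * v * y := by rw [k2]; group
          _ = z * (x * v) * y := by rw [hxz]; group
          _ = z * v * (x * y) := by rw [k1]; group
      · rw [k1, k2, add_zero, B1]
        rw [B1] at k1; rw [B0] at k2
        change (x : G) * y * v = z * v * (x * y)
        calc (x : G) * y * v = x * (y * v) := by group
          _ = x * v * y := by rw [k2]; group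
          _ = z * v * (x * y) := by rw [k1]; group
      · rw [k1, k2, show (1 : ZMod 2) + 1 = 0 from rfl, B0]
        rw [B1] at k1 k2
        change (x : G) * y * v = v * (x * y)
        calc (x : G) * y * v = x * (y * v) := by group
          _ = x * z * v * y := by rw [k2]; group
          _ = z * (x * v) * y := by rw [hxz]; group
          _ = z * z * v * (x * y) := by rw [k1]; group
          _ = v * (x * y) := by rw [hzz, one_mul]
    · intro x y
      obtain ⟨x, rfl⟩ := hS.surj x
      obtain ⟨y, rfl⟩ := hS.surj y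
      rcases bcases (B (π x) (π y)) with k1 | k1
      · rw [k1, eq_comm, B0]
        rw [B0] at k1; exact k1.symm
      · rw [k1, eq_comm, B1]
        rw [B1] at k1
        calc (y : G) * x = z * z * (y * x) := by rw [h.zz, one_mul]
          _ = z * (z * y * x) := by group
          _ = z * x * y := by rw [← k1]; group
    · intro x
      obtain ⟨x, rfl⟩ := hS.surj x
      rw [B0]
    · intro g x y
      obtain ⟨x, rfl⟩ := hS.surj x
      obtain ⟨y, rfl⟩ := hS.surj y
      rw [actπ, actπ]
      rcases bcases (B (π x) (π y)) with k1 | k1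
      · rw [k1, B0]
        rw [B0] at k1
        change (g : G) * x * (g : G)⁻¹ * (g * y * (g : G)⁻¹) =
          (g : G) * y * (g : G)⁻¹ * (g * x * (g : G)⁻¹)
        calc (g : G) * x * (g : G)⁻¹ * (g * y * (g : G)⁻¹) = g * (x * y) * (g : G)⁻¹ := by group
          _ = _ := by rw [k1]; group
      · rw [k1, B1]
        rw [B1] at k1
        change (g : G) * x * (g : G)⁻¹ * (g * y * (g : G)⁻¹) =
          z * ((g : G) * y * (g : G)⁻¹) * (g * x * (g : G)⁻¹)
        calc (g : G) * x * (g : G)⁻¹ * (g * y * (g : G)⁻¹) = g * (x * y) * (g : G)⁻¹ := by group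
          _ = g * z * y * x * (g : G)⁻¹ := by rw [k1]; group
          _ = _ := by rw [mz g]; group
    · intro g hg
      have hga := h.toCfg.symm.comm g ((mA g).1 hg)
      rw [he, actπ, πeq]
      left
      change a = (g : G) * a * (g : G)⁻¹
      rw [hga, mul_assoc, mul_inv_cancel, mul_one]
    · intro g hg x
      obtain ⟨x, rfl⟩ := hS.surj x
      have hgO := (mA g).1 hg
      rw [actπ, actπ, πeq]
      change (x : G) = g * (g * x * (g : G)⁻¹) * (g : G)⁻¹ ∨
        (x : G) = z * (g * (g * x * (g : G)⁻¹) * (g : G)⁻¹)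
      have e1 : (g : G) * (g * x * (g : G)⁻¹) * (g : G)⁻¹ = g * g * x * ((g : G) * g)⁻¹ := by group
      rw [e1]
      rcases h.toCfg.symm.sq hgO with k | k <;> rw [k]
      · left; group
      · rcases h.toCfg.comm_mem h.aO x.2 with k1 | k1 <;> rw [mul_inv_eq_iff_eq_mul] at k1
        · left; rw [k1, one_mul]
        · right; rw [k1, ← mul_assoc, h.zz, one_mul]
    · intro x hx y hy
      obtain ⟨x, rfl⟩ := hS.surj x
      obtain ⟨y, rfl⟩ := hS.surj y
      rw [he, B1] at hx
      rw [he, B0] at hy
      have hxa : ¬ (x : G) * a = a * x := by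
        intro k
        change (x : G) * a = z * a * x at hx
        rw [k, mul_assoc] at hx
        exact h.z1 (mul_eq_right.1 hx.symm)
      obtain ⟨u, hu, huz, huD⟩ := f1 h.toCfg x.2 hxa y.2 hy
      have huc : u ∈ Subgroup.centralizer ({z} : Set G) :=
        Subgroup.mem_centralizer_singleton_iff.2 huz
      refine ⟨⟨u, huc⟩, hu, ?_⟩
      rw [actπ, ← negE x, ← hS.mul, ← hS.mul, mD]
      exact huD
    · intro g hg y hy
      obtain ⟨y, rfl⟩ := hS.surj y
      rw [he, B0] at hy
      change (y : G) * a = a * y at hy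
      have hgO := (mA g).1 hg
      rw [actπ, ← negE y, ← hS.mul, mD]
      change (g : G) * y * (g : G)⁻¹ * (y : G)⁻¹ ∈ O a
      have h1 : (y : G) * (g : G)⁻¹ * (y : G)⁻¹ ∈ O a := h.eqv.mem_conj (inv_mem hgO) hy
      have e1 : (g : G) * y * (g : G)⁻¹ * (y : G)⁻¹ = g * (y * (g : G)⁻¹ * (y : G)⁻¹) := by group
      rw [e1]
      exact mul_mem hgO h1
    · intro g hg v hv
      obtain ⟨x, hx, rfl⟩ := hv
      rw [actπ, mD]
      rw [he, actπ, πeq] at hg
      have hga : (g : G) * a * (g : G)⁻¹ = a ∨ (g : G) * a * (g : G)⁻¹ = z * a := by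
        rcases hg with k | k
        · left; exact k.symm
        · right
          change a = z * ((g : G) * a * (g : G)⁻¹) at k
          have := congrArg (z * ·) k
          simp only [← mul_assoc, h.zz, one_mul] at this
          simpa [mul_assoc] using this.symm
      exact (Ig h.toCfg (mz g) hga x.2 hx).2
    · rintro _ ⟨x, hx, rfl⟩
      rw [he, B0]
      exact h.toCfg.symm.comm x hx
    · exact h.hd2.1
    · intro y
      obtain ⟨y, rfl⟩ := hS.surj y
      have hsbc : ∀ c : ZMod 2, c = 0 ∨ c = 1 := bcases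
      rw [actπ]
      have hn := h.n1 y.2
      have π2 : ∀ x y v : O z, π (x * y * v) = π x + π y + π v := by
        intro x y v; rw [hS.mul, hS.mul]
      rcases hn with k | k | k | k
      · have e1 : B (π y) e = 0 := (B0 y ⟨a, h.aO⟩).2 k.1
        have e2 : B (π y) sb = 0 := (B0 y ⟨s, h.sO⟩).2 k.2.1
        rw [e1, e2, zero_smul, zero_smul, add_zero, add_zero, πeq]
        left
        change (y : G) = d2 * y * d2⁻¹
        rw [k.2.2]; group
      · have e1 : B (π y) e = 0 := (B0 y ⟨a, h.aO⟩).2 k.1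
        have e2 : B (π y) sb = 1 := (B1 y ⟨s, h.sO⟩).2 k.2.1
        rw [e1, e2, zero_smul, one_smul, add_zero, he, ← hS.mul, πeq]
        left
        change (y : G) * a = d2 * y * d2⁻¹
        rw [k.2.2, k.1]; group
      · have e1 : B (π y) e = 1 := (B1 y ⟨a, h.aO⟩).2 k.1
        have e2 : B (π y) sb = 0 := (B0 y ⟨s, h.sO⟩).2 k.2.1
        rw [e1, e2, zero_smul, one_smul, add_zero, hsb, ← hS.mul, πeq]
        left
        change (y : G) * s = d2 * y * d2⁻¹
        rw [k.2.2, k.2.1]; group
      · have e1 : B (π y) e = 1 := (B1 y ⟨a, h.aO⟩).2 k.1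
        have e2 : B (π y) sb = 1 := (B1 y ⟨s, h.sO⟩).2 k.2.1
        rw [e1, e2, one_smul, one_smul, hsb, he, ← hS.mul, ← hS.mul, πeq]
        right
        change (y : G) * s * a = z * (d2 * y * d2⁻¹)
        calc (y : G) * s * a = z * s * (y * a) := by rw [k.2.1]; group
          _ = z * (s * z) * a * y := by rw [k.1]; group
          _ = z * z * (s * a) * y := by rw [h.sz]; group
          _ = z * (z * (s * a) * y * d2) * d2⁻¹ := by group
          _ = z * (d2 * y * d2⁻¹) := by rw [← k.2.2]; group
    · exact (B0 _ _).2 h.sa'.symm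
    · rintro _ ⟨x, hx, rfl⟩
      rw [hsb, B0]
      change (x : G) * s = s * x
      have h1 : (x : G) * d2 = d2 * x := ((h.toCfg.symm.dp_iff.1 h.hd2).2 x hx).symm
      have h2 : (x : G) * d3 = d3 * x := by
        have h3 := inO3 h.toCfg x.2 hx
        exact ((h.toCfg.third.dp_iff.1 h.dp3).2 x h3).symm
      rw [h.hs, ← mul_assoc, h1, mul_assoc, h2, mul_assoc]
    · rw [hsb, mD]; exact h.snO
    · rw [hsb, he, ← hS.mul, mD]
      intro k
      apply h.snO
      have := mul_mem k (inv_mem h.toCfg.symm.zO)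
      change s * a * a⁻¹ ∈ O a at this
      rwa [mul_inv_cancel_right] at this
    · obtain ⟨u, hu, hua, hud⟩ := h.exu
      refine ⟨π ⟨u, hu⟩, ?_⟩
      rw [hsb, B1]
      change s * u = z * u * s
      rcases h.eff hu hua with k | k
      · exfalso
        have h1 : d2 * u = a * d2 * u := by rw [← k.1, hud]
        have h2 : d2 = a * d2 := mul_right_cancel h1
        exact h.a1 (mul_eq_right.1 h2.symm)
      · calc s * u = z * z * (s * u) := by rw [h.zz, one_mul]
          _ = z * (z * s * u) := by group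
          _ = z * u * s := by rw [← k.2.2]; group
    · obtain ⟨u, hu, hua, hud⟩ := h.exu
      refine ⟨π ⟨u, hu⟩, ?_⟩
      rw [hsb, he, ← hS.mul, B1]
      change s * a * u = z * u * (s * a)
      rcases h.eff hu hua with k | k
      · exfalso
        have h1 : d2 * u = a * d2 * u := by rw [← k.1, hud]
        have h2 : d2 = a * d2 := mul_right_cancel h1
        exact h.a1 (mul_eq_right.1 h2.symm)
      · have e1 : s * u = z * u * s := by
          calc s * u = z * z * (s * u) := by rw [h.zz, one_mul]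
            _ = z * (z * s * u) := by group
            _ = z * u * s := by rw [← k.2.2]; group
        calc s * a * u = s * (a * u) := by group
          _ = s * u * a := by rw [← hua]; group
          _ = z * u * (s * a) := by rw [e1]; group
    · obtain ⟨u, hu, huz, _, hus⟩ := h.exu0
      have huc : u ∈ Subgroup.centralizer ({z} : Set G) :=
        Subgroup.mem_centralizer_singleton_iff.2 huz
      refine ⟨⟨u, huc⟩, hu, ?_⟩
      rw [hsb, he, actπ, ← hS.mul, πeq]
      right
      change s * a = z * (u * s * u⁻¹)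
      rw [hus, h.sa']
      calc a * s = z * z * (a * s) := by rw [h.zz, one_mul]
        _ = z * (z * a * s * u * u⁻¹) := by group
    · intro g hg
      have ht : d2⁻¹ * ((g : G) * d2 * (g : G)⁻¹) ∈ O z := by
        have htz : d2⁻¹ * ((g : G) * d2 * (g : G)⁻¹) * z =
            z * (d2⁻¹ * ((g : G) * d2 * (g : G)⁻¹)) := by
          have h1 : (⟨d2, hd2c⟩⁻¹ * (g * ⟨d2, hd2c⟩ * g⁻¹) :
              Subgroup.centralizer ({z} : Set G)) ∈ (⊤ : Subgroup _) := trivial
          exact mz (⟨d2, hd2c⟩⁻¹ * (g * ⟨d2, hd2c⟩ * g⁻¹))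
        refine h.nt _ htz fun q hq => ?_
        have hact : ρ (⟨d2, hd2c⟩⁻¹ * (g * ⟨d2, hd2c⟩ * g⁻¹)) (π ⟨q, hq⟩) = π ⟨q, hq⟩ := by
          have h1 : ρ (⟨d2, hd2c⟩⁻¹ * (g * ⟨d2, hd2c⟩ * g⁻¹)) = 1 := by
            rw [map_mul, map_mul, map_mul, hg, ← map_mul, ← map_mul, ← map_mul]
            have : (⟨d2, hd2c⟩⁻¹ * (⟨d2, hd2c⟩ * g * g⁻¹) :
              Subgroup.centralizer ({z} : Set G)) = 1 := by group
            rw [this, map_one]
          rw [h1]; rfl
        rw [actπ, πeq] at hact
        have hzD : Dp O z z := h.toCfg.dz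
        have h1D : Dp O z 1 := by
          have := dp_mul hzD (dp_inv hzD)
          rwa [mul_inv_cancel] at this
        set t := d2⁻¹ * ((g : G) * d2 * (g : G)⁻¹) with htd
        have hact' : q = t * q * t⁻¹ ∨ q = z * (t * q * t⁻¹) := hact
        rcases hact' with k | k
        · have : q * t * q⁻¹ * t⁻¹ = 1 := by
            have h2 : q * t = t * q := by rw [eq_mul_inv_iff_mul_eq] at k; exact k
            rw [h2]; group
          rw [this]; exact h1D
        · have : q * t * q⁻¹ * t⁻¹ = z := by
            have h2 : q * t = z * (t * q) := by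
              rw [← mul_assoc, eq_mul_inv_iff_mul_eq] at k
              exact k
            rw [h2]; group
          rw [this]; exact hzD
      rw [he, actπ, πeq]
      change a = (g : G) * a * (g : G)⁻¹ ∨ a = z * ((g : G) * a * (g : G)⁻¹)
      rcases ef g ⟨mz g, ht⟩ with k | k <;> rw [k]
      · left; rfl
      · right; rw [← mul_assoc, h.zz, one_mul]
  intro m hm
  have hmc : m ∈ Subgroup.centralizer ({z} : Set G) := Subgroup.mem_centralizer_singleton_iff.2 hm
  have := data.orth ⟨m, hmc⟩
  rw [he, actπ, B0] at this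
  exact this.symm

end Cfsg.Agent.Omega.FFTwoA.Glue
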