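import Cfsg.Agent.Omega.FFTwoA.OTwo

set_option autoImplicit false

namespace Cfsg.Agent.Omega.FFTwoA.SylA

open Subgroup Cfsg.Agent.ZN Cfsg.Agent.ZN.Block
open Cfsg.Agent.Omega.FFTwoA.OTwo

universe u

variable {G : Type u} [Group G]

theorem od_le [Finite G] {z d : G} (S : Sylow 2 G)
    (hS : (S : Subgroup G) ≤ centralizer ({z} : Set G))
    (hZ : ∀ x ∈ (S : Subgroup G), (∀ y ∈ (S : Subgroup G), x * y = y * x) → x * x = 1 →
      x = 1 ∨ x = z) (hdq : d * d = 1) (hd1 : d ≠ 1)
    (hmov : ∀ u, u * z = z * u → u * d * u⁻¹ = d ∨ u * d * u⁻¹ = z * d)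
    (hne : ∀ g, g * z * g⁻¹ ≠ d) : OO d ≤ centralizer ({z} : Set G) := by
  classical
  have : Fact (Nat.Prime 2) := ⟨Nat.prime_two⟩
  by_contra hcon
  set T0 : Subgroup G := (S : Subgroup G) ⊓ centralizer ({d} : Set G) with hT0
  have hT0S : T0 ≤ (S : Subgroup G) := inf_le_left
  have hT0d : T0 ≤ centralizer ({d} : Set G) := inf_le_right
  have mT : ∀ x, x ∈ T0 ↔ x ∈ (S : Subgroup G) ∧ x * d = d * x := by
    intro x; rw [hT0, mem_inf, mem_c]
  have hcard : Nat.card (S : Subgroup G) ≤ 2 * Nat.card T0 := by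
    have e1 := card_mul_relIndex' hT0S
    by_cases hall : ∀ x ∈ (S : Subgroup G), x * d = d * x
    · have : T0 = (S : Subgroup G) := le_antisymm hT0S fun x hx => (mT x).2 ⟨hx, hall x hx⟩
      rw [this]; omega
    · push Not at hall
      obtain ⟨u, hu, hun⟩ := hall
      have hi : T0.relIndex (S : Subgroup G) = 2 := by
        rw [Subgroup.relIndex, Subgroup.index_eq_two_iff]
        refine ⟨⟨u, hu⟩, ?_⟩
        rintro ⟨x, hx⟩
        rw [mem_subgroupOf, mem_subgroupOf]
        change Xor (x * u ∈ T0) (x ∈ T0)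
        have huz := mem_c.1 (hS hu)
        have hxz := mem_c.1 (hS hx)
        have hud : u * d = z * d * u := by
          rcases hmov u huz with k | k <;> rw [mul_inv_eq_iff_eq_mul] at k
          · exact absurd k hun
          · exact k
        have hz1 : z ≠ 1 := by
          rintro rfl
          apply hun; rw [hud]; simp
        rw [mT, mT]
        rcases hmov x hxz with k | k <;> rw [mul_inv_eq_iff_eq_mul] at k
        · right
          refine ⟨⟨hx, k⟩, ?_⟩
          rintro ⟨_, k2⟩
          apply hun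
          have : x * (u * d) = x * (d * u) := by
            calc x * (u * d) = x * u * d := by group
              _ = d * x * u := by rw [k2]; group
              _ = x * (d * u) := by rw [← k]; group
          exact mul_left_cancel this
        · left
          have hzz : z * z = 1 := by
            have h1 : x * (x * d * x⁻¹) * x⁻¹ = d ∨ x * (x * d * x⁻¹) * x⁻¹ = z * d := by
              have := hmov (x * x) (mul_comm' hxz hxz)
              have e : x * x * d * (x * x)⁻¹ = x * (x * d * x⁻¹) * x⁻¹ := by group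
              rwa [e] at this
            have e2 : x * (x * d * x⁻¹) * x⁻¹ = z * z * d := by
              have e3 : x * d * x⁻¹ = z * d := by rw [k]; group
              rw [e3]
              calc x * (z * d) * x⁻¹ = x * z * d * x⁻¹ := by group
                _ = z * (x * d * x⁻¹) := by rw [hxz]; group
                _ = z * z * d := by rw [e3]; group
            rw [e2] at h1
            rcases h1 with h1 | h1
            · exact mul_eq_right.1 h1
            · exfalso
              have h2 := mul_right_cancel h1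
              exact hz1 (mul_eq_left.1 h2)
          refine ⟨⟨mul_mem hx hu, ?_⟩, ?_⟩
          · calc x * u * d = x * (u * d) := by group
              _ = x * z * d * u := by rw [hud]; group
              _ = z * (x * d) * u := by rw [hxz]; group
              _ = z * z * d * (x * u) := by rw [k]; group
              _ = d * (x * u) := by rw [hzz, one_mul]
          · rintro ⟨_, k2⟩
            rw [k2] at k
            have : z * (d * x) = d * x := by rw [← mul_assoc]; exact k.symm
            exact hz1 (mul_eq_right.1 this)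
      rw [hi] at e1; omega
  have hTp : IsPGroup 2 T0 := S.2.to_le hT0S
  have hTn : T0 ≤ normalizer (OO d : Set G) := le_normalizer_of_forall fun l hl m hm =>
    oo_conj (mem_c.1 (hT0d hl)) hm
  have hP0 : IsPGroup 2 (T0 ⊔ OO d : Subgroup G) := IsPGroup.to_sup_of_normal_right' hTp (isP d) hTn
  have hP0c : (T0 ⊔ OO d : Subgroup G) ≤ centralizer ({d} : Set G) :=
    sup_le hT0d fun x hx => mem_c.2 (oo_comm hx)
  have hrel : T0.relIndex (T0 ⊔ OO d) ≠ 1 := by
    intro k
    rw [Subgroup.relIndex_eq_one] at k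
    exact hcon ((le_sup_right.trans k).trans (hT0S.trans hS))
  have e1 := card_mul_relIndex' (le_sup_left : T0 ≤ T0 ⊔ OO d)
  have hrel0 : T0.relIndex (T0 ⊔ OO d) ≠ 0 := by
    intro k
    rw [k, mul_zero] at e1
    exact Nat.card_pos.ne e1
  have hge : Nat.card (S : Subgroup G) ≤ Nat.card (T0 ⊔ OO d : Subgroup G) := by
    rw [← e1]
    have : 2 ≤ T0.relIndex (T0 ⊔ OO d) := by omega
    calc Nat.card (S : Subgroup G) ≤ 2 * Nat.card T0 := hcard
      _ = Nat.card T0 * 2 := mul_comm _ _
      _ ≤ _ := Nat.mul_le_mul_left _ this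
  obtain ⟨Q, hQ⟩ := hP0.exists_le_sylow
  have hQc : Nat.card (Q : Subgroup G) = Nat.card (S : Subgroup G) := by
    rw [Q.card_eq_multiplicity, S.card_eq_multiplicity]
  have hQe : (T0 ⊔ OO d : Subgroup G) = Q := Subgroup.eq_of_le_of_card_ge hQ (by rw [hQc]; exact hge)
  obtain ⟨g, hg⟩ := MulAction.exists_smul_eq G S Q
  have hmem : ∀ x, x ∈ (S : Subgroup G) → g * x * g⁻¹ ∈ (Q : Subgroup G) := by
    intro x hx
    rw [← hg]
    exact Subgroup.smul_mem_pointwise_smul x (MulAut.conj g) _ hx
  have hmem' : ∀ y, y ∈ (Q : Subgroup G) → g⁻¹ * y * g ∈ (S : Subgroup G) := by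
    intro y hy
    rw [← hg] at hy
    obtain ⟨x, hx, rfl⟩ := hy
    change g⁻¹ * (g * x * g⁻¹) * g ∈ (S : Subgroup G)
    have : g⁻¹ * (g * x * g⁻¹) * g = x := by group
    rw [this]; exact hx
  have hdQ : d ∈ (Q : Subgroup G) := by
    rw [← hQe]
    exact mem_sup_right (self_mem hdq)
  have hQd : ∀ y ∈ (Q : Subgroup G), y * d = d * y := by
    intro y hy
    rw [← hQe] at hy
    exact mem_c.1 (hP0c hy)
  have h3 : ∀ y ∈ (S : Subgroup G), g⁻¹ * d * g * y = y * (g⁻¹ * d * g) := by
    intro y hy
    have := hQd _ (hmem y hy)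
    calc g⁻¹ * d * g * y = g⁻¹ * (d * (g * y * g⁻¹)) * g := by group
      _ = y * (g⁻¹ * d * g) := by rw [← this]; group
  have h4 : g⁻¹ * d * g * (g⁻¹ * d * g) = 1 := by
    calc g⁻¹ * d * g * (g⁻¹ * d * g) = g⁻¹ * (d * d) * g := by group
      _ = 1 := by rw [hdq]; group
  rcases hZ (g⁻¹ * d * g) (hmem' d hdQ) h3 h4 with k | k
  · apply hd1
    calc d = g * (g⁻¹ * d * g) * g⁻¹ := by group
      _ = 1 := by rw [k]; group
  · apply hne g
    calc g * z * g⁻¹ = g * (g⁻¹ * d * g) * g⁻¹ := by rw [k]
      _ = d := by group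

end Cfsg.Agent.Omega.FFTwoA.SylA
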