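import Cfsg.Agent.Omega.FFTwoA.Final
import Cfsg.Agent.Omega.FFTwoA.SylA

/-!
# FF-2a (7): the final statement
-/

set_option autoImplicit false

namespace Cfsg.Agent.Omega.FFTwoA.Kill

open Subgroup Cfsg.Agent.ZN Cfsg.Agent.ZN.Block
open Cfsg.Agent.Omega.FFTwoA.Main Cfsg.Agent.Omega.FFTwoA.Line
open Cfsg.Agent.Omega.FFTwoA.OTwo Cfsg.Agent.Omega.FFTwoA.Final

universe u

variable {G : Type u} [Group G] {z a : G}

/-- **FF-2a (7)**: the only involution of `Z(O₂(C(z)))` is `z`. -/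
theorem kill [Finite G] (h : Cfg OO z a) (S : Sylow 2 G)
    (hS : (S : Subgroup G) ≤ centralizer ({z} : Set G))
    (hZ : ∀ x ∈ (S : Subgroup G), (∀ y ∈ (S : Subgroup G), x * y = y * x) → x * x = 1 →
      x = 1 ∨ x = z)
    (hch : Ch G) (hna : ∃ m, m * z = z * m ∧ ¬ m * a * m⁻¹ * a = a * (m * a * m⁻¹)) :
    ∀ d, Dp OO z d → d * d = 1 → d = 1 ∨ d = z := by
  intro d hd hdq
  by_contra hcon
  push Not at hcon
  obtain ⟨h1, h2⟩ := hcon
  have hl := lin_of h hch hd hdq h1 h2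
  by_cases hc : ∃ g, g * z * g⁻¹ = d
  · obtain ⟨g, hg⟩ := hc
    exact not_conj hl g hg
  · push Not at hc
    have hod := SylA.od_le S hS hZ hdq h1 (fun u hu => hl.movD hu) hc
    exact conj_case hl hch hna fun x hx => mem_c.1 (hod hx)

end Cfsg.Agent.Omega.FFTwoA.Kill
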