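import Mathlib.Algebra.Group.Subgroup.Basic
import Mathlib.GroupTheory.Subgroup.Center
import Mathlib.Tactic.Group

/-!
# FF-2a: `O₂(C(z))` modulo `⟨z⟩` is elementary abelian

Local theorem of the mutual pair case for `q = 2` (bb OMEGA #10787, repaired in #11405).
`O v` is an abstract conjugation equivariant family of subgroups (`O v = O₂(C(v))`),
`V = {1, z, a, z a}` a four-group.
-/

set_option autoImplicit false

namespace Cfsg.Agent.Omega.FFTwoA.Main

variable {G : Type*} [Group G] {O : G → Subgroup G} {z a : G}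

/-- `O` is equivariant under conjugation. -/
def Eqv (O : G → Subgroup G) : Prop :=
  ∀ g v x : G, x ∈ O v → MulAut.conj g x ∈ O (MulAut.conj g v)

theorem Eqv.mem_iff (e : Eqv O) (g v x : G) :
    MulAut.conj g x ∈ O (MulAut.conj g v) ↔ x ∈ O v := by
  refine ⟨fun h => ?_, e g v x⟩
  have h' := e g⁻¹ _ _ h
  simpa [mul_assoc] using h'

/-- Elements acting on `O v` by a homomorphism into `⟨v⟩`, with square in `⟨v⟩`. -/
def Wp (O : G → Subgroup G) (v w : G) : Prop :=
  w ∈ O v ∧ (∀ q ∈ O v, w * q * w⁻¹ * q⁻¹ = 1 ∨ w * q * w⁻¹ * q⁻¹ = v) ∧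
    (w * w = 1 ∨ w * w = v)

/-- The elements of `O v` which commute with all `Wp`. -/
def Dp (O : G → Subgroup G) (v d : G) : Prop :=
  d ∈ O v ∧ ∀ w, Wp O v w → d * w = w * d

theorem Eqv.wp_iff (e : Eqv O) (g v w : G) :
    Wp O (MulAut.conj g v) (MulAut.conj g w) ↔ Wp O v w := by
  unfold Wp
  rw [e.mem_iff, ← map_mul, map_eq_one_iff _ (MulAut.conj g).injective,
    (MulAut.conj g).injective.eq_iff]
  refine and_congr_right fun _ => and_congr_left fun _ => ?_
  constructor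
  · intro h q hq
    have := h (MulAut.conj g q) ((e.mem_iff g v q).2 hq)
    rwa [← map_mul, ← map_inv, ← map_mul, ← map_inv, ← map_mul,
      map_eq_one_iff _ (MulAut.conj g).injective, (MulAut.conj g).injective.eq_iff] at this
  · intro h q hq
    obtain ⟨q, rfl⟩ := (MulAut.conj g).surjective q
    have := h q ((e.mem_iff g v q).1 hq)
    rwa [← map_mul, ← map_inv, ← map_mul, ← map_inv, ← map_mul,
      map_eq_one_iff _ (MulAut.conj g).injective, (MulAut.conj g).injective.eq_iff]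

theorem Eqv.dp_iff (e : Eqv O) (g v d : G) :
    Dp O (MulAut.conj g v) (MulAut.conj g d) ↔ Dp O v d := by
  unfold Dp
  rw [e.mem_iff]
  refine and_congr_right fun _ => ?_
  constructor
  · intro h w hw
    have := h _ ((e.wp_iff g v w).2 hw)
    rwa [← map_mul, ← map_mul, (MulAut.conj g).injective.eq_iff] at this
  · intro h w hw
    obtain ⟨w, rfl⟩ := (MulAut.conj g).surjective w
    rw [← map_mul, ← map_mul, h w ((e.wp_iff g v w).1 hw)]

/-- The configuration without the intersection property. -/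
structure Cfg0 (O : G → Subgroup G) (z a : G) : Prop where
  eqv : Eqv O
  comm : ∀ x ∈ O z, x * z = z * x
  zz : z * z = 1
  aa : a * a = 1
  z1 : z ≠ 1
  a1 : a ≠ 1
  az : a ≠ z
  za : z * a = a * z
  zO : z ∈ O z
  aO : a ∈ O z
  norm : ∀ q ∈ O z, q * a * q⁻¹ = a ∨ q * a * q⁻¹ = z * a
  mov : ∃ w, Wp O z w ∧ w * a * w⁻¹ = z * a
  rot : ∃ n : G, n * z * n⁻¹ = a ∧ n * a * n⁻¹ = z * a

/-- The configuration. -/
structure Cfg (O : G → Subgroup G) (z a : G) : Prop extends Cfg0 O z a where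
  inter : ∀ d, Dp O z d → Dp O a d → d = 1

theorem Cfg0.conj (h : Cfg0 O z a) (g : G) :
    Cfg0 O (MulAut.conj g z) (MulAut.conj g a) := by
  have inj := (MulAut.conj g).injective
  refine ⟨h.eqv, ?_, ?_, ?_, ?_, ?_, ?_, ?_, ?_, ?_, ?_, ?_, ?_⟩
  · intro x hx
    obtain ⟨x, rfl⟩ := (MulAut.conj g).surjective x
    rw [← map_mul, ← map_mul, h.comm x ((h.eqv.mem_iff g z x).1 hx)]
  · rw [← map_mul, h.zz, map_one]
  · rw [← map_mul, h.aa, map_one]
  · rw [ne_eq, map_eq_one_iff _ inj]; exact h.z1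
  · rw [ne_eq, map_eq_one_iff _ inj]; exact h.a1
  · rw [ne_eq, inj.eq_iff]; exact h.az
  · rw [← map_mul, ← map_mul, h.za]
  · exact (h.eqv.mem_iff g z z).2 h.zO
  · exact (h.eqv.mem_iff g z a).2 h.aO
  · intro q hq
    obtain ⟨q, rfl⟩ := (MulAut.conj g).surjective q
    have := h.norm q ((h.eqv.mem_iff g z q).1 hq)
    rw [← map_mul, ← map_mul, ← map_inv, ← map_mul, inj.eq_iff, inj.eq_iff]
    exact this
  · obtain ⟨w, hw, hwa⟩ := h.mov
    refine ⟨MulAut.conj g w, (h.eqv.wp_iff g z w).2 hw, ?_⟩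
    rw [← map_mul, ← map_mul, ← map_inv, ← map_mul, hwa]
  · obtain ⟨n, h1, h2⟩ := h.rot
    refine ⟨MulAut.conj g n, ?_, ?_⟩
    · rw [← map_mul, ← map_inv, ← map_mul, h1]
    · rw [← map_mul, ← map_mul, ← map_inv, ← map_mul, h2]

theorem Cfg.conj (h : Cfg O z a) (g : G) : Cfg O (MulAut.conj g z) (MulAut.conj g a) := by
  refine ⟨h.toCfg0.conj g, ?_⟩
  intro d hd hd'
  obtain ⟨d, rfl⟩ := (MulAut.conj g).surjective d
  rw [h.inter d ((h.eqv.dp_iff g z d).1 hd) ((h.eqv.dp_iff g a d).1 hd'), map_one]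

/-- An element moving `a` to `z a` and fixing `z`. -/
theorem Cfg0.w0 (h : Cfg0 O z a) : ∃ w, Wp O z w ∧ MulAut.conj w a = z * a ∧
    MulAut.conj w z = z ∧ MulAut.conj w (z * a) = a := by
  obtain ⟨w, hw, hwa⟩ := h.mov
  have hc : MulAut.conj w z = z := by
    rw [MulAut.conj_apply, h.comm w hw.1, mul_assoc, mul_inv_cancel, mul_one]
  refine ⟨w, hw, hwa, hc, ?_⟩
  rw [map_mul, hc, MulAut.conj_apply, hwa, ← mul_assoc, h.zz, one_mul]

theorem Cfg0.swap (h : Cfg0 O z a) : Cfg0 O z (z * a) := by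
  obtain ⟨w, _, h1, h2, _⟩ := h.w0
  have := h.conj w
  rwa [h1, h2] at this

theorem Cfg.swap (h : Cfg O z a) : Cfg O z (z * a) := by
  obtain ⟨w, _, h1, h2, _⟩ := h.w0
  have := h.conj w
  rwa [h1, h2] at this

theorem Cfg0.rot' (h : Cfg0 O z a) : Cfg0 O a (z * a) := by
  obtain ⟨n, h1, h2⟩ := h.rot
  have := h.conj n
  rwa [MulAut.conj_apply, MulAut.conj_apply, h1, h2] at this

theorem Cfg.rot' (h : Cfg O z a) : Cfg O a (z * a) := by
  obtain ⟨n, h1, h2⟩ := h.rot
  have := h.conj n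
  rwa [MulAut.conj_apply, MulAut.conj_apply, h1, h2] at this

theorem aza (hza : z * a = a * z) (haa : a * a = 1) : a * (z * a) = z := by
  rw [hza, ← mul_assoc, haa, one_mul]

theorem Cfg0.symm (h : Cfg0 O z a) : Cfg0 O a z := by
  have := h.rot'.swap
  rwa [aza h.za h.aa] at this

theorem Cfg.symm (h : Cfg O z a) : Cfg O a z := by
  have := h.rot'.swap
  rwa [aza h.za h.aa] at this

/-- the pair `(z a, z)` -/
theorem Cfg.third (h : Cfg O z a) : Cfg O (z * a) z := h.swap.symm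

theorem Cfg0.third (h : Cfg0 O z a) : Cfg0 O (z * a) z := h.swap.symm

/-! ### Closure properties -/

theorem wp_mul (hc : ∀ x ∈ O z, x * z = z * x) (hzz : z * z = 1) {w w' : G}
    (h : Wp O z w) (h' : Wp O z w') : Wp O z (w * w') := by
  have hwz := hc w h.1
  have hwz' := hc w' h'.1
  refine ⟨mul_mem h.1 h'.1, ?_, ?_⟩
  · intro q hq
    have hqz := hc q hq
    have e : w * w' * q * (w * w')⁻¹ * q⁻¹
        = w * (w' * q * w'⁻¹ * q⁻¹) * w⁻¹ * (w * q * w⁻¹ * q⁻¹) := by group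
    rw [e]
    rcases h'.2.1 q hq with h1 | h1 <;> rcases h.2.1 q hq with h2 | h2 <;> rw [h1, h2]
    · left; group
    · right; group
    · right; rw [hwz]; group
    · left; rw [hwz, mul_assoc z w, mul_inv_cancel, mul_one, hzz]
  · have e : w * w' * (w * w') = w * w * (w⁻¹ * (w' * w * w'⁻¹ * w⁻¹) * w) * (w' * w') := by
      group
    rw [e]
    have hz1 : w⁻¹ * z * w = z := by rw [mul_assoc, ← hwz, inv_mul_cancel_left]
    rcases h'.2.1 w h.1 with h1 | h1 <;> rcases h.2.2 with h2 | h2 <;>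
      rcases h'.2.2 with h3 | h3 <;> rw [h1, h2, h3] <;>
      simp [hz1, hzz]

theorem dp_mul {v d d' : G} (h : Dp O v d) (h' : Dp O v d') : Dp O v (d * d') := by
  refine ⟨mul_mem h.1 h'.1, fun w hw => ?_⟩
  rw [mul_assoc, h'.2 w hw, ← mul_assoc, h.2 w hw, mul_assoc]

theorem dp_inv {v d : G} (h : Dp O v d) : Dp O v d⁻¹ := by
  refine ⟨inv_mem h.1, fun w hw => ?_⟩
  have := h.2 w hw
  rw [inv_mul_eq_iff_eq_mul, ← mul_assoc, this, mul_assoc, mul_inv_cancel, mul_one]

theorem Eqv.dp_conj (e : Eqv O) {v d g : G} (h : Dp O v d) (hg : g * v = v * g) :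
    Dp O v (g * d * g⁻¹) := by
  have := (e.dp_iff g v d).2 h
  rwa [MulAut.conj_apply g v, hg, mul_assoc, mul_inv_cancel, mul_one] at this

theorem Eqv.wp_conj (e : Eqv O) {v w g : G} (h : Wp O v w) (hg : g * v = v * g) :
    Wp O v (g * w * g⁻¹) := by
  have := (e.wp_iff g v w).2 h
  rwa [MulAut.conj_apply g v, hg, mul_assoc, mul_inv_cancel, mul_one] at this

theorem Eqv.mem_conj (e : Eqv O) {v x g : G} (h : x ∈ O v) (hg : g * v = v * g) :
    g * x * g⁻¹ ∈ O v := by
  have := (e.mem_iff g v x).2 h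
  rwa [MulAut.conj_apply g v, hg, mul_assoc, mul_inv_cancel, mul_one] at this

namespace Cfg0

theorem wz (h : Cfg0 O z a) : Wp O z z := by
  refine ⟨h.zO, fun q hq => Or.inl ?_, Or.inl h.zz⟩
  rw [← h.comm q hq]; group

theorem dz (h : Cfg0 O z a) : Dp O z z :=
  ⟨h.zO, fun w hw => (h.comm w hw.1).symm⟩

theorem wa (h : Cfg0 O z a) : Wp O z a := by
  refine ⟨h.aO, fun q hq => ?_, Or.inl h.aa⟩
  have hi : a⁻¹ = a := inv_eq_of_mul_eq_one_left h.aa
  have e : a * q * a⁻¹ * q⁻¹ = a * (q * a * q⁻¹) := by rw [hi]; group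
  rw [e]
  rcases h.norm q hq with h1 | h1 <;> rw [h1]
  · left; exact h.aa
  · right; exact aza h.za h.aa

theorem da (h : Cfg0 O z a) : ¬ Dp O z a := by
  intro hd
  obtain ⟨w, hw, hwa, _⟩ := h.w0
  rw [MulAut.conj_apply, ← hd.2 w hw, mul_assoc, mul_inv_cancel, mul_one] at hwa
  exact h.z1 (by simpa using hwa.symm)

/-- elements of `D_z` commute with `a` -/
theorem dcomm (h : Cfg0 O z a) {d : G} (hd : Dp O z d) : d * a = a * d := hd.2 a h.wa

/-- squares of elements of `O z` lie in `D_z` -/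
theorem sq_dp (h : Cfg0 O z a) {q : G} (hq : q ∈ O z) : Dp O z (q * q) := by
  refine ⟨mul_mem hq hq, fun w hw => ?_⟩
  have hqz := h.comm q hq
  have key : w * q = q * w ∨ w * q = z * (q * w) := by
    rcases hw.2.1 q hq with h1 | h1
    · left
      have : w * q = 1 * (q * w) := by rw [← h1]; group
      simpa using this
    · right
      have : w * q = (w * q * w⁻¹ * q⁻¹) * (q * w) := by group
      rwa [h1] at this
  rcases key with k | k
  · calc q * q * w = q * (q * w) := mul_assoc _ _ _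
      _ = q * w * q := by rw [mul_assoc q w q, k]
      _ = w * (q * q) := by rw [← k]; exact mul_assoc _ _ _
  · calc q * q * w = q * (q * w) := mul_assoc _ _ _
      _ = q * (z * (w * q)) := by rw [k, ← mul_assoc z z, h.zz, one_mul]
      _ = z * (q * w) * q := by rw [← mul_assoc q z, hqz]; group
      _ = w * q * q := by rw [← k]
      _ = w * (q * q) := mul_assoc _ _ _

end Cfg0

/-! ### The intersection property -/

theorem Cfg0.inter3 (h : Cfg0 O z a) {d : G} (h1 : Dp O z d) (h2 : Dp O a d) :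
    Dp O (z * a) d := by
  obtain ⟨w, hw, hwa, _⟩ := h.w0
  have := (h.eqv.dp_iff w a d).2 h2
  rwa [hwa, MulAut.conj_apply, ← h1.2 w hw, mul_assoc, mul_inv_cancel, mul_one] at this

/-- `n` normalises the four-group. -/
def NV (z a n : G) : Prop :=
  (MulAut.conj n z = z ∨ MulAut.conj n z = a ∨ MulAut.conj n z = z * a) ∧
  (MulAut.conj n a = z ∨ MulAut.conj n a = a ∨ MulAut.conj n a = z * a)

/-- `D_z ∩ D_a` is a subgroup of `O z` invariant under the normaliser of the four-group. -/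
theorem Cfg0.inter_of (h : Cfg0 O z a)
    (sd : ∀ D : Subgroup G, D ≤ O z → (∀ n, NV z a n → ∀ d ∈ D, n * d * n⁻¹ ∈ D) →
      (∃ d ∈ D, d ≠ 1) → z ∈ D) : ∀ d, Dp O z d → Dp O a d → d = 1 := by
  have hall : ∀ d, (Dp O z d ∧ Dp O a d ∧ Dp O (z * a) d) ↔ (Dp O z d ∧ Dp O a d) :=
    fun d => ⟨fun k => ⟨k.1, k.2.1⟩, fun k => ⟨k.1, k.2, h.inter3 k.1 k.2⟩⟩
  have h13 : ∀ d, Dp O z d → Dp O (z * a) d → Dp O a d := by
    intro d k1 k2
    have := h.swap.inter3 k1 k2
    rwa [← mul_assoc, h.zz, one_mul] at this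
  have h23 : ∀ d, Dp O a d → Dp O (z * a) d → Dp O z d := by
    intro d k1 k2
    have := h.rot'.inter3 k1 k2
    rwa [aza h.za h.aa] at this
  let D : Subgroup G :=
    { carrier := {d | Dp O z d ∧ Dp O a d}
      mul_mem' := fun x y => ⟨dp_mul x.1 y.1, dp_mul x.2 y.2⟩
      one_mem' := ⟨⟨one_mem _, fun w _ => by simp⟩, ⟨one_mem _, fun w _ => by simp⟩⟩
      inv_mem' := fun x => ⟨dp_inv x.1, dp_inv x.2⟩ }
  intro d hd hd'
  by_contra hne
  have hz : z ∈ D := by
    refine sd D (fun x hx => hx.1.1) ?_ ⟨d, ⟨hd, hd'⟩, hne⟩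
    intro n hn x hx
    have k1 := (h.eqv.dp_iff n z x).2 hx.1
    have k2 := (h.eqv.dp_iff n a x).2 hx.2
    change Dp O z (MulAut.conj n x) ∧ Dp O a (MulAut.conj n x)
    have inj := (MulAut.conj n).injective
    rcases hn with ⟨h1 | h1 | h1, h2 | h2 | h2⟩
    · exact absurd (inj (h2.trans h1.symm)) h.az
    · rw [h1] at k1; rw [h2] at k2; exact ⟨k1, k2⟩
    · rw [h1] at k1; rw [h2] at k2; exact ⟨k1, h13 _ k1 k2⟩
    · rw [h1] at k1; rw [h2] at k2; exact ⟨k2, k1⟩
    · exact absurd (inj (h2.trans h1.symm)) h.az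
    · rw [h1] at k1; rw [h2] at k2; exact ⟨h23 _ k1 k2, k1⟩
    · rw [h1] at k1; rw [h2] at k2; exact ⟨k2, h13 _ k2 k1⟩
    · rw [h1] at k1; rw [h2] at k2; exact ⟨h23 _ k2 k1, k2⟩
    · exact absurd (inj (h2.trans h1.symm)) h.az
  exact h.symm.da hz.2

/-! ### Main steps -/

namespace Cfg

/-- (2') `D_z` and `D_a` commute -/
theorem dd (h : Cfg O z a) {d e : G} (hd : Dp O z d) (he : Dp O a e) : d * e = e * d := by
  have hda := h.dcomm hd
  have hez := h.symm.dcomm he
  have k1 : Dp O z (d * e * d⁻¹ * e⁻¹) := by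
    have := dp_mul hd (h.eqv.dp_conj (dp_inv hd) hez)
    convert this using 1; group
  have k2 : Dp O a (d * e * d⁻¹ * e⁻¹) := dp_mul (h.eqv.dp_conj he hda) (dp_inv he)
  have := h.inter _ k1 k2
  rw [mul_inv_eq_one, mul_inv_eq_iff_eq_mul] at this
  exact this

/-- (4) `D_z ∩ O a = ⟨z⟩` -/
theorem d_inter (h : Cfg O z a) {d : G} (hd : Dp O z d) (hdO : d ∈ O a) :
    d = 1 ∨ d = z := by
  have hda := h.dcomm hd
  -- elements of `W_a` commuting with `z` commute with `d`
  have hA : ∀ w, Wp O a w → w * z = z * w → w * d = d * w := by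
    intro w hw hwz
    rcases hw.2.1 d hdO with h1 | h1
    · rw [mul_inv_eq_one, mul_inv_eq_iff_eq_mul] at h1; exact h1
    · exfalso
      have : Dp O z (w * d * w⁻¹ * d⁻¹) := dp_mul (h.eqv.dp_conj hd hwz) (dp_inv hd)
      rw [h1] at this
      exact h.da this
  obtain ⟨w₁, hw₁, hz₁, _, _⟩ := h.symm.w0
  rw [MulAut.conj_apply] at hz₁
  -- if `x ∈ O a` commutes with `w₁` and with `C_{W_a}(z)` then `x ∈ D_a`
  have key : ∀ x, x ∈ O a → w₁ * x = x * w₁ →
      (∀ w, Wp O a w → w * z = z * w → w * x = x * w) → Dp O a x := by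
    intro x hx hx1 hxA
    refine ⟨hx, fun w hw => ?_⟩
    rcases h.symm.norm w hw.1 with h1 | h1
    · rw [mul_inv_eq_iff_eq_mul] at h1
      exact (hxA w hw h1).symm
    · have hw1i : Wp O a w₁⁻¹ := by
        have e : w₁⁻¹ = w₁ ∨ w₁⁻¹ = w₁ * a := by
          rcases hw₁.2.2 with k | k
          · left; exact inv_eq_of_mul_eq_one_left k
          · right
            have : w₁ * (w₁ * a) = 1 := by rw [← mul_assoc, k, h.aa]
            exact inv_eq_of_mul_eq_one_right this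
        rcases e with e | e <;> rw [e]
        · exact hw₁
        · exact wp_mul h.symm.comm h.aa hw₁ h.symm.wz
      have hu : Wp O a (w₁⁻¹ * w) := wp_mul h.symm.comm h.aa hw1i hw
      have huz : w₁⁻¹ * w * z = z * (w₁⁻¹ * w) := by
        have e1 : w * z = a * z * w := by rwa [mul_inv_eq_iff_eq_mul] at h1
        have e2 : w₁ * z = a * z * w₁ := by rwa [mul_inv_eq_iff_eq_mul] at hz₁
        have e3 : w₁⁻¹ * (a * z) = z * w₁⁻¹ := by
          rw [inv_mul_eq_iff_eq_mul, ← mul_assoc, e2, mul_assoc, mul_inv_cancel, mul_one]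
        rw [mul_assoc, e1, ← mul_assoc, e3, mul_assoc]
      have k := hxA _ hu huz
      have : w = w₁ * (w₁⁻¹ * w) := by group
      rw [this, ← mul_assoc, ← hx1, mul_assoc, ← k, ← mul_assoc]
  rcases hw₁.2.1 d hdO with h1 | h1
  · left
    rw [mul_inv_eq_one, mul_inv_eq_iff_eq_mul] at h1
    exact h.inter d hd (key d hdO h1 hA)
  · right
    have e1 : w₁ * d = a * d * w₁ := by
      rw [mul_inv_eq_iff_eq_mul, mul_inv_eq_iff_eq_mul] at h1; exact h1
    have e2 : w₁ * z = a * z * w₁ := by rwa [mul_inv_eq_iff_eq_mul] at hz₁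
    have hzd : w₁ * (z * d) = z * d * w₁ := by
      calc w₁ * (z * d) = a * z * (w₁ * d) := by rw [← mul_assoc, e2, mul_assoc]
        _ = a * z * (a * d * w₁) := by rw [e1]
        _ = a * (z * a) * d * w₁ := by group
        _ = z * d * w₁ := by rw [aza h.za h.aa]
    have k := key (z * d) (mul_mem h.symm.aO hdO) hzd (by
      intro w hw hwz
      rw [← mul_assoc, hwz, mul_assoc, hA w hw hwz, mul_assoc])
    have := h.inter _ (dp_mul h.dz hd) k
    have hzi : z⁻¹ = z := inv_eq_of_mul_eq_one_left h.zz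
    rw [← hzi]
    exact eq_inv_of_mul_eq_one_right this

/-- (5) -/
theorem cd (h : Cfg O z a) {d x : G} (hd : Dp O z d) (hx : x ∈ O a) (hxz : x * z = z * x) :
    x * d * x⁻¹ * d⁻¹ = 1 ∨ x * d * x⁻¹ * d⁻¹ = z := by
  have k1 : Dp O z (x * d * x⁻¹ * d⁻¹) := dp_mul (h.eqv.dp_conj hd hxz) (dp_inv hd)
  refine h.d_inter k1 ?_
  have := mul_mem hx (h.eqv.mem_conj (inv_mem hx) (h.dcomm hd))
  convert this using 1; group

/-- squares of elements of `C_{O z}(a)` -/
theorem sq_c (h : Cfg O z a) {g : G} (hg : g ∈ O z) (hga : g * a = a * g) :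
    g * g = 1 ∨ g * g = z := by
  obtain ⟨w, hw, hz₁, _, hz₂⟩ := h.symm.w0
  have hgz := h.comm g hg
  set y := g * g with hy
  have hyD : Dp O z y := h.sq_dp hg
  -- `f = w⁻¹ g w g⁻¹`
  set f := w⁻¹ * (g * w * g⁻¹) with hf
  have hwi : Wp O a w⁻¹ := by
    have e : w⁻¹ = w ∨ w⁻¹ = w * a := by
      rcases hw.2.2 with k | k
      · left; exact inv_eq_of_mul_eq_one_left k
      · right
        have : w * (w * a) = 1 := by rw [← mul_assoc, k, h.aa]
        exact inv_eq_of_mul_eq_one_right this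
    rcases e with e | e <;> rw [e]
    · exact hw
    · exact wp_mul h.symm.comm h.aa hw h.symm.wz
  have hfW : Wp O a f := wp_mul h.symm.comm h.aa hwi (h.eqv.wp_conj hw hga)
  have hz₁' : w * z = a * z * w := by
    rw [MulAut.conj_apply, mul_inv_eq_iff_eq_mul] at hz₁; exact hz₁
  have hwiz : w⁻¹ * (a * z) = z * w⁻¹ := by
    rw [inv_mul_eq_iff_eq_mul, ← mul_assoc, hz₁', mul_assoc, mul_inv_cancel, mul_one]
  have hgaz : g * (a * z) = a * z * g := by
    rw [← mul_assoc, hga, mul_assoc, hgz, mul_assoc]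
  have hgiz : g⁻¹ * z = z * g⁻¹ := by
    rw [inv_mul_eq_iff_eq_mul, ← mul_assoc, hgz, mul_assoc, mul_inv_cancel, mul_one]
  have hfz : f * z = z * f := by
    calc f * z = w⁻¹ * (g * w * (g⁻¹ * z)) := by rw [hf]; group
      _ = w⁻¹ * (g * (w * z) * g⁻¹) := by rw [hgiz]; group
      _ = w⁻¹ * (g * (a * z) * w * g⁻¹) := by rw [hz₁']; group
      _ = w⁻¹ * (a * z) * (g * w * g⁻¹) := by rw [hgaz]; group
      _ = z * f := by rw [hwiz, hf]; group
  have hfO : f ∈ O a := hfW.1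
  -- `φ = g f g⁻¹ f⁻¹`
  have hφz : g * f * g⁻¹ * f⁻¹ ∈ O z := by
    have := mul_mem hg (h.eqv.mem_conj (inv_mem hg) hfz)
    convert this using 1; group
  have hff : f * f ∈ O z := by
    rcases hfW.2.2 with k | k <;> rw [k]
    · exact one_mem _
    · exact h.aO
  have hk : f * (g * f * g⁻¹) ∈ O z := by
    have := mul_mem (h.eqv.mem_conj hφz hfz) hff
    convert this using 1; group
  have hyw : y * w * y⁻¹ = w * (f * (g * f * g⁻¹)) := by
    rw [hy, hf]; group
  have hwyw : w⁻¹ * y * w ∈ O z := by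
    have : w⁻¹ * y * w = f * (g * f * g⁻¹) * y := by
      rw [mul_inv_eq_iff_eq_mul] at hyw
      rw [mul_assoc, hyw]; group
    rw [this]
    exact mul_mem hk hyD.1
  have hz₃ : MulAut.conj w⁻¹ z = z * a := by
    have h3 : MulAut.conj w (z * a) = z := by rw [h.za]; exact hz₂
    have h4 : MulAut.conj w⁻¹ (MulAut.conj w (z * a)) = z * a := by simp [mul_assoc]
    rwa [h3] at h4
  have hDb : Dp O (z * a) (w⁻¹ * y * w) := by
    have := (h.eqv.dp_iff w⁻¹ z y).2 hyD
    rw [hz₃] at this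
    simpa using this
  rcases h.third.d_inter hDb hwyw with k | k
  · left
    have : y = w * (w⁻¹ * y * w) * w⁻¹ := by group
    rw [this, k]; group
  · right
    have : y = w * (w⁻¹ * y * w) * w⁻¹ := by group
    rw [this, k]
    have h2 : MulAut.conj w (z * a) = z := by rw [h.za]; exact hz₂
    exact h2

/-- **squares of `O z` lie in `⟨z⟩`** -/
theorem sq (h : Cfg O z a) {q : G} (hq : q ∈ O z) : q * q = 1 ∨ q * q = z := by
  rcases h.norm q hq with h1 | h1
  · rw [mul_inv_eq_iff_eq_mul] at h1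
    exact h.sq_c hq h1
  · obtain ⟨w, hw, hwa, hwz, hwza⟩ := h.w0
    rw [MulAut.conj_apply] at hwa hwza
    set g := q * w⁻¹ with hg
    have hgO : g ∈ O z := mul_mem hq (inv_mem hw.1)
    have e1 : q * a = z * a * q := by rwa [mul_inv_eq_iff_eq_mul] at h1
    have e2 : w * (z * a) = a * w := by rwa [mul_inv_eq_iff_eq_mul] at hwza
    have e3 : w⁻¹ * a = z * a * w⁻¹ := by
      rw [inv_mul_eq_iff_eq_mul, ← mul_assoc, e2, mul_assoc, mul_inv_cancel, mul_one]
    have hqz := h.comm q hq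
    have hga : g * a = a * g := by
      calc g * a = q * (w⁻¹ * a) := by rw [hg, mul_assoc]
        _ = q * z * a * w⁻¹ := by rw [e3]; group
        _ = z * (q * a) * w⁻¹ := by rw [hqz]; group
        _ = z * z * a * q * w⁻¹ := by rw [e1]; group
        _ = a * g := by rw [h.zz, hg]; group
    have hqg : q = g * w := by rw [hg]; group
    have hgz := h.comm g hgO
    have hwz' := h.comm w hw.1
    have e4 : q * q = g * (w * g * w⁻¹ * g⁻¹) * g * (w * w) := by rw [hqg]; group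
    rw [e4]
    rcases hw.2.1 g hgO with k1 | k1 <;> rcases h.sq_c hgO hga with k2 | k2 <;>
      rcases hw.2.2 with k3 | k3 <;> rw [k1, k3] <;>
      simp [k2, h.zz, hgz, mul_assoc]

/-- **commutators of `O z` lie in `⟨z⟩`** -/
theorem comm_mem (h : Cfg O z a) {q r : G} (hq : q ∈ O z) (hr : r ∈ O z) :
    q * r * q⁻¹ * r⁻¹ = 1 ∨ q * r * q⁻¹ * r⁻¹ = z := by
  have hqz := h.comm q hq
  have hrz := h.comm r hr
  have key : ∀ x, x ∈ O z → x⁻¹ = x ∨ x⁻¹ = x * z := by
    intro x hx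
    rcases h.sq hx with k | k
    · left; exact inv_eq_of_mul_eq_one_left k
    · right
      have : x * (x * z) = 1 := by rw [← mul_assoc, k, h.zz]
      exact inv_eq_of_mul_eq_one_right this
  have hs := h.sq (mul_mem hq hr)
  rw [show q * r * (q * r) = q * r * q * r by group] at hs
  have e : q * z * r = q * r * z := by rw [mul_assoc, ← hrz, mul_assoc]
  rcases key q hq with k1 | k1 <;> rcases key r hr with k2 | k2 <;> rw [k1, k2]
  · exact hs
  · rw [← mul_assoc]
    rcases hs with k | k <;> rw [k]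
    · right; simp
    · left; exact h.zz
  · have : q * r * (q * z) * r = q * r * q * r * z := by
      rw [← mul_assoc (q * r), mul_assoc _ z r, ← hrz]; group
    rw [this]
    rcases hs with k | k <;> rw [k]
    · right; simp
    · left; exact h.zz
  · have : q * r * (q * z) * (r * z) = q * r * q * r := by
      calc q * r * (q * z) * (r * z) = q * r * q * (z * r) * z := by group
        _ = q * r * q * r * (z * z) := by rw [← hrz]; group
        _ = q * r * q * r := by rw [h.zz, mul_one]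
    rw [this]
    exact hs

/-- `W_z = O z` -/
theorem wp_of_mem (h : Cfg O z a) {q : G} (hq : q ∈ O z) : Wp O z q :=
  ⟨hq, fun _ hr => h.comm_mem hq hr, h.sq hq⟩

/-- `D_z = Z(O z)` -/
theorem dp_iff (h : Cfg O z a) {d : G} :
    Dp O z d ↔ d ∈ O z ∧ ∀ q ∈ O z, d * q = q * d :=
  ⟨fun k => ⟨k.1, fun q hq => k.2 q (h.wp_of_mem hq)⟩, fun k => ⟨k.1, fun q hq => k.2 q hq.1⟩⟩

end Cfg

end Cfsg.Agent.Omega.FFTwoA.Main
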