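import Cfsg.Agent.Omega.FFTwoA.Cases
import Cfsg.Agent.ZN.Block
import Cfsg.Agent.ZN.Map
import Cfsg.Agent.Involutions.BaerSuzuki

/-!
# FF-2a: facts on `O v = O₂(C_G(v))`
-/

set_option autoImplicit false

namespace Cfsg.Agent.Omega.FFTwoA.OTwo

open Subgroup Cfsg.Agent.ZN Cfsg.Agent.ZN.Block
open Cfsg.Agent.Omega.FFTwoA.Main Cfsg.Agent.Omega.FFTwoA.Four Cfsg.Agent.Omega.FFTwoA.Line

universe u

variable {G : Type u} [Group G] {z a d : G}

/-- `O v = O₂(C_G(v))`. -/
def OO (v : G) : Subgroup G := o2 (centralizer ({v} : Set G))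

/-- `O₂(C(v))` contains its centraliser in `C(v)`, for all involutions `v` -/
def Ch (G : Type u) [Group G] : Prop :=
  ∀ v : G, v * v = 1 → v ≠ 1 → ∀ x, x * v = v * x → (∀ q ∈ OO v, x * q = q * x) → x ∈ OO v

theorem mem_c {v x : G} : x ∈ centralizer ({v} : Set G) ↔ x * v = v * x :=
  mem_centralizer_singleton_iff

theorem inv_comm {v g : G} (hg : g * v = v * g) : g⁻¹ * v = v * g⁻¹ := by
  rw [inv_mul_eq_iff_eq_mul, ← mul_assoc, hg, mul_assoc, mul_inv_cancel, mul_one]

theorem mul_comm' {v g g' : G} (hg : g * v = v * g) (hg' : g' * v = v * g') :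
    g * g' * v = v * (g * g') := by
  rw [mul_assoc, hg', ← mul_assoc, hg, mul_assoc]

/-- normal 2-subgroups of `C(v)` lie in `OO v` -/
theorem le_oo {v : G} {K : Subgroup G} (hK : IsPGroup 2 K) (hKL : ∀ x ∈ K, x * v = v * x)
    (hn : ∀ g, g * v = v * g → ∀ x ∈ K, g * x * g⁻¹ ∈ K) : K ≤ OO v := by
  refine Block.le_o2 hK (fun x hx => mem_c.2 (hKL x hx)) ?_
  exact le_normalizer_of_forall fun l hl m hm => hn l (mem_c.1 hl) m hm

theorem isP (v : G) : IsPGroup 2 (OO v) := Block.o2_isPGroup _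

theorem oo_comm {v x : G} (hx : x ∈ OO v) : x * v = v * x := mem_c.1 (Block.o2_le _ hx)

theorem oo_conj {v g x : G} (hg : g * v = v * g) (hx : x ∈ OO v) : g * x * g⁻¹ ∈ OO v :=
  Block.o2_conj (mem_c.2 hg) hx

/-- a normal subset of `C(v)` closed under products whose elements have 2-power order -/
theorem mem_of_set {v : G} {K : Set G} (h1 : (1 : G) ∈ K) (hm : ∀ x ∈ K, ∀ y ∈ K, x * y ∈ K)
    (hi : ∀ x ∈ K, x⁻¹ ∈ K) (hp : ∀ x ∈ K, ∃ k : ℕ, x ^ 2 ^ k = 1)
    (hc : ∀ x ∈ K, x * v = v * x) (hn : ∀ g, g * v = v * g → ∀ x ∈ K, g * x * g⁻¹ ∈ K)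
    {x : G} (hx : x ∈ K) : x ∈ OO v := by
  let L : Subgroup G :=
    { carrier := K, mul_mem' := fun {x y} hx hy => hm x hx y hy, one_mem' := h1,
      inv_mem' := fun {x} hx => hi x hx }
  refine le_oo (K := L) ?_ hc hn hx
  rintro ⟨y, hy⟩
  obtain ⟨k, hk⟩ := hp y hy
  exact ⟨k, Subtype.ext hk⟩

theorem pow_of_mem {v x : G} (hx : x ∈ OO v) : ∃ k : ℕ, x ^ 2 ^ k = 1 := by
  obtain ⟨k, hk⟩ := isP v ⟨x, hx⟩
  exact ⟨k, congrArg Subtype.val hk⟩

theorem self_mem {v : G} (hv : v * v = 1) : v ∈ OO v := by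
  refine mem_of_set (K := {x | x = 1 ∨ x = v}) (Or.inl rfl) ?_ ?_ ?_ ?_ ?_ (Or.inr rfl)
  · rintro x (rfl | rfl) y (rfl | rfl)
    · left; simp
    · right; simp
    · right; simp
    · left; exact hv
  · rintro x (rfl | rfl)
    · left; simp
    · right; exact inv_eq_of_mul_eq_one_left hv
  · rintro x (rfl | rfl)
    · exact ⟨0, by simp⟩
    · exact ⟨1, by rw [pow_one, pow_two]; exact hv⟩
  · rintro x (rfl | rfl)
    · simp
    · rfl
  · rintro g hg x (rfl | rfl)
    · left; group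
    · right; rw [hg]; group

/-- `hC` -/
theorem hC (h : Cfg OO z a) (hch : Ch G) :
    ∀ s, s * z = z * s → (∀ q ∈ OO z, q * s * q⁻¹ * s⁻¹ = 1 ∨ q * s * q⁻¹ * s⁻¹ = z) →
      s ∈ OO z := by
  intro s hs hq
  have hzz := h.zz
  -- `q s = s q` or `q s = z s q`
  have eqv : ∀ s q : G, (q * s * q⁻¹ * s⁻¹ = 1 ∨ q * s * q⁻¹ * s⁻¹ = z) ↔
      (q * s = s * q ∨ q * s = z * s * q) := by
    intro s q
    rw [mul_inv_eq_iff_eq_mul, mul_inv_eq_iff_eq_mul, mul_inv_eq_iff_eq_mul,
      mul_inv_eq_iff_eq_mul, one_mul]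
  refine mem_of_set (K := {s | s * z = z * s ∧ ∀ q ∈ OO z, q * s = s * q ∨ q * s = z * s * q})
    ?_ ?_ ?_ ?_ ?_ ?_ ?_
  · exact ⟨by simp, fun q _ => Or.inl (by simp)⟩
  · rintro x ⟨hx1, hx2⟩ y ⟨hy1, hy2⟩
    refine ⟨mul_comm' hx1 hy1, fun q hq => ?_⟩
    have hqz := h.comm q hq
    rcases hx2 q hq with k | k <;> rcases hy2 q hq with k' | k'
    · left; rw [← mul_assoc, k, mul_assoc, k', mul_assoc]
    · right
      calc q * (x * y) = x * (q * y) := by rw [← mul_assoc, k, mul_assoc]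
        _ = x * z * y * q := by rw [k']; group
        _ = z * (x * y) * q := by rw [hx1]; group
    · right
      calc q * (x * y) = z * x * (q * y) := by rw [← mul_assoc, k, mul_assoc]
        _ = z * (x * y) * q := by rw [k']; group
    · left
      calc q * (x * y) = z * x * (q * y) := by rw [← mul_assoc, k, mul_assoc]
        _ = z * (x * z) * y * q := by rw [k']; group
        _ = z * z * (x * y) * q := by rw [hx1]; group
        _ = x * y * q := by rw [hzz, one_mul]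
  · rintro x ⟨hx1, hx2⟩
    have hxi := inv_comm hx1
    refine ⟨hxi, fun q hq => ?_⟩
    rcases hx2 q hq with k | k
    · left
      rw [eq_inv_mul_iff_mul_eq, ← mul_assoc, ← k, mul_assoc, mul_inv_cancel, mul_one]
    · right
      have : x * q = z * q * x := by
        calc x * q = z * z * (x * q) := by rw [hzz, one_mul]
          _ = z * (z * x * q) := by group
          _ = z * q * x := by rw [← k]; group
      calc q * x⁻¹ = x⁻¹ * (x * q) * x⁻¹ := by group
        _ = x⁻¹ * z * q := by rw [this]; group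
        _ = z * x⁻¹ * q := by rw [hxi]
  · rintro x ⟨hx1, hx2⟩
    have hxx : x * x ∈ OO z := by
      refine hch z hzz h.z1 (x * x) (mul_comm' hx1 hx1) fun q hq => ?_
      rcases hx2 q hq with k | k
      · rw [mul_assoc, ← k, ← mul_assoc, ← k, mul_assoc]
      · symm
        calc q * (x * x) = q * x * x := by group
          _ = z * x * q * x := by rw [k]
          _ = z * x * (q * x) := by group
          _ = z * (x * z) * x * q := by rw [k]; group
          _ = z * z * (x * x) * q := by rw [hx1]; group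
          _ = x * x * q := by rw [hzz, one_mul]
    obtain ⟨k, hk⟩ := pow_of_mem hxx
    refine ⟨k + 1, ?_⟩
    rw [pow_succ', pow_mul, pow_two]; exact hk
  · rintro x ⟨hx1, _⟩; exact hx1
  · rintro g hg x ⟨hx1, hx2⟩
    refine ⟨mul_comm' (mul_comm' hg hx1) (inv_comm hg), fun q hq => ?_⟩
    have h1 : g⁻¹ * q * g ∈ OO z := by
      have := oo_conj (inv_comm hg) hq
      rwa [inv_inv] at this
    rcases hx2 _ h1 with k | k
    · left
      calc q * (g * x * g⁻¹) = g * (g⁻¹ * q * g * x) * g⁻¹ := by group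
        _ = g * x * g⁻¹ * q := by rw [k]; group
    · right
      calc q * (g * x * g⁻¹) = g * (g⁻¹ * q * g * x) * g⁻¹ := by group
        _ = g * z * x * g⁻¹ * q := by rw [k]; group
        _ = z * (g * x * g⁻¹) * q := by rw [hg]; group
  · exact ⟨hs, fun q hqO => (eqv s q).1 (hq q hqO)⟩

/-- two involutions whose product has order dividing `4` generate a `2`-group -/
theorem isPGroup_pair {H : Type*} [Group H] {t s : H} (ht : t * t = 1) (hs : s * s = 1)
    (h : (t * s) ^ 4 = 1) : IsPGroup 2 (Subgroup.closure {t, s} : Subgroup H) := by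
  have htinv : t⁻¹ = t := inv_eq_of_mul_eq_one_left ht
  have hsinv : s⁻¹ = s := inv_eq_of_mul_eq_one_left hs
  have hconj : t * (t * s) * t⁻¹ = (t * s)⁻¹ := by
    rw [mul_inv_rev, hsinv, htinv]
    calc t * (t * s) * t = (t * t) * s * t := by group
      _ = s * t := by rw [ht, one_mul]
  have h1 : IsPGroup 2 (zpowers (t * s)) := by
    rintro ⟨x, hx⟩
    obtain ⟨k, rfl⟩ := mem_zpowers_iff.mp hx
    refine ⟨2, Subtype.ext ?_⟩
    change ((t * s) ^ k) ^ (2 ^ 2) = 1
    have : ((t * s) ^ k) ^ (2 ^ 2) = ((t * s) ^ 4) ^ k := by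
      rw [← zpow_natCast, ← zpow_mul, ← zpow_natCast, ← zpow_mul, mul_comm]
      norm_num
    rw [this, h, one_zpow]
  have h2 : IsPGroup 2 (zpowers t) := by
    rintro ⟨x, hx⟩
    obtain ⟨k, rfl⟩ := mem_zpowers_iff.mp hx
    refine ⟨1, Subtype.ext ?_⟩
    change (t ^ k) ^ (2 ^ 1) = 1
    rw [pow_one, ← zpow_natCast, ← zpow_mul, mul_comm, zpow_mul, zpow_natCast, pow_two, ht,
      one_zpow]
  have hn : zpowers t ≤ normalizer (zpowers (t * s) : Set H) := by
    rw [zpowers_le]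
    refine mem_normalizer_of ?_ ?_
    · intro m hm
      obtain ⟨k, rfl⟩ := mem_zpowers_iff.mp hm
      rw [← conj_zpow, hconj]
      exact zpow_mem (inv_mem (mem_zpowers _)) k
    · intro m hm
      obtain ⟨k, rfl⟩ := mem_zpowers_iff.mp hm
      have e : t⁻¹ * (t * s) ^ k * t = t * (t * s) ^ k * t⁻¹ := by rw [htinv]
      rw [e, ← conj_zpow, hconj]
      exact zpow_mem (inv_mem (mem_zpowers _)) k
  have h3 := IsPGroup.to_sup_of_normal_right' h2 h1 hn
  refine h3.to_le ?_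
  rw [closure_le]
  rintro x (rfl | hx)
  · exact mem_sup_left (mem_zpowers _)
  · rw [Set.mem_singleton_iff] at hx
    subst hx
    have e : t * (t * x) = x := by rw [← mul_assoc, ht, one_mul]
    have h5 : t * (t * x) ∈ zpowers t ⊔ zpowers (t * x) :=
      mul_mem (mem_sup_left (mem_zpowers _)) (mem_sup_right (mem_zpowers _))
    rw [SetLike.mem_coe]
    rwa [e] at h5

/-- `hB` (Baer–Suzuki in `C(z)`) -/
theorem hB [Finite G] : ∀ t : G, t * z = z * t → t * t = 1 →
    (∀ g, g * z = z * g → (t * (g * t * g⁻¹)) ^ 4 = 1) → t ∈ OO z := by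
  intro t htz htt hg
  have key : (⟨t, mem_c.2 htz⟩ : centralizer ({z} : Set G)) ∈
      Cfsg.pCore 2 (centralizer ({z} : Set G)) := by
    refine Cfsg.Agent.Involutions.BaerSuzuki.mem_pCore_of_conj_pairs _ fun g => ?_
    refine isPGroup_pair (Subtype.ext htt) ?_ ?_
    · apply Subtype.ext
      change (g : G) * t * (g : G)⁻¹ * (g * t * (g : G)⁻¹) = 1
      calc (g : G) * t * (g : G)⁻¹ * (g * t * (g : G)⁻¹) = g * (t * t) * (g : G)⁻¹ := by group
        _ = 1 := by rw [htt]; group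
    · apply Subtype.ext
      exact hg g (mem_c.1 g.2)
  exact mem_map.mpr ⟨_, key, rfl⟩

/-- `|Z(O z)| = 4` and the remaining fields of `Lin` -/
theorem lin_of [Finite G] (h : Cfg OO z a) (hch : Ch G) (hd : Dp OO z d) (hdq : d * d = 1)
    (h1 : d ≠ 1) (h2 : d ≠ z) : Lin OO z a d := by
  have hzz := h.zz
  have hdz := h.comm d hd.1
  have four : ∀ x, Dp OO z x → x = 1 ∨ x = z ∨ x = d ∨ x = z * d := by
    intro x hx
    rcases Four.four h (hC h hch) hB hx hd with (k | k) | (k | k) | (k | k)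
    · exact Or.inl k
    · exact Or.inr (Or.inl k)
    · exact absurd k h1
    · exact absurd k h2
    · right; right; left
      calc x = x * d * d := by rw [mul_assoc, hdq, mul_one]
        _ = d := by rw [k, one_mul]
    · right; right; right
      calc x = x * d * d := by rw [mul_assoc, hdq, mul_one]
        _ = z * d := by rw [k]
  have hsq : ∀ x, Dp OO z x → x * x = 1 := by
    intro x hx
    rcases four x hx with k | k | k | k <;> rw [k]
    · simp
    · exact hzz
    · exact hdq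
    · calc z * d * (z * d) = z * (d * z) * d := by group
        _ = z * z * (d * d) := by rw [hdz]; group
        _ = 1 := by rw [hzz, hdq, one_mul]
  have mov : ∀ x, x * z = z * x → ∀ y, Dp OO z y → x * y * x⁻¹ = y ∨ x * y * x⁻¹ = z * y := by
    intro x hxz y hy
    have hxd : x * d * x⁻¹ = d ∨ x * d * x⁻¹ = z * d := by
      rcases four _ (h.eqv.dp_conj hd hxz) with k | k | k | k
      · exfalso; apply h1
        have : x * d * x⁻¹ = x * 1 * x⁻¹ := by rw [k]; group
        exact mul_left_cancel (mul_right_cancel this)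
      · exfalso; apply h2
        have : x * d * x⁻¹ = x * z * x⁻¹ := by rw [k, hxz]; group
        exact mul_left_cancel (mul_right_cancel this)
      · exact Or.inl k
      · exact Or.inr k
    have hxz' : x * z * x⁻¹ = z := by rw [hxz]; group
    rcases four y hy with k | k | k | k <;> rw [k]
    · left; group
    · left; exact hxz'
    · exact hxd
    · have e : x * (z * d) * x⁻¹ = x * z * x⁻¹ * (x * d * x⁻¹) := by group
      rw [e, hxz']
      rcases hxd with k' | k' <;> rw [k']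
      · left; rfl
      · right; rfl
  refine ⟨h, hd, hdq, h1, h2, four, ?_⟩
  intro s hs hq
  refine mem_of_set (K := {s | s * z = z * s ∧ ∀ q ∈ OO z, Dp OO z (q * s * q⁻¹ * s⁻¹)})
    ?_ ?_ ?_ ?_ ?_ ?_ ⟨hs, hq⟩
  · refine ⟨by simp, fun q _ => ?_⟩
    have := dp_mul h.dz (dp_inv h.dz)
    rw [mul_inv_cancel] at this
    have e : q * 1 * q⁻¹ * (1 : G)⁻¹ = 1 := by group
    rw [e]; exact this
  · rintro x ⟨hx1, hx2⟩ y ⟨hy1, hy2⟩
    refine ⟨mul_comm' hx1 hy1, fun q hqO => ?_⟩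
    have e : q * (x * y) * q⁻¹ * (x * y)⁻¹ =
        q * x * q⁻¹ * x⁻¹ * (x * (q * y * q⁻¹ * y⁻¹) * x⁻¹) := by group
    rw [e]
    exact dp_mul (hx2 q hqO) (h.eqv.dp_conj (hy2 q hqO) hx1)
  · rintro x ⟨hx1, hx2⟩
    refine ⟨inv_comm hx1, fun q hqO => ?_⟩
    have e : q * x⁻¹ * q⁻¹ * x⁻¹⁻¹ = x⁻¹ * (q * x * q⁻¹ * x⁻¹)⁻¹ * x⁻¹⁻¹ := by group
    rw [e]
    exact h.eqv.dp_conj (dp_inv (hx2 q hqO)) (inv_comm hx1)
  · rintro x ⟨hx1, hx2⟩
    have hxx : x * x ∈ OO z := by
      refine hC h hch _ (mul_comm' hx1 hx1) fun q hqO => ?_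
      set y := q * x * q⁻¹ * x⁻¹ with hy
      have hyD := hx2 q hqO
      have e : q * (x * x) * q⁻¹ * (x * x)⁻¹ = y * (x * y * x⁻¹) := by rw [hy]; group
      have hyz := h.comm y hyD.1
      rw [e]
      rcases mov x hx1 y hyD with k | k <;> rw [k]
      · left; exact hsq y hyD
      · right; rw [← mul_assoc, hyz, mul_assoc, hsq y hyD, mul_one]
    obtain ⟨k, hk⟩ := pow_of_mem hxx
    refine ⟨k + 1, ?_⟩
    rw [pow_succ', pow_mul, pow_two]; exact hk
  · rintro x ⟨hx1, _⟩; exact hx1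
  · rintro g hg x ⟨hx1, hx2⟩
    refine ⟨mul_comm' (mul_comm' hg hx1) (inv_comm hg), fun q hqO => ?_⟩
    have h3 : g⁻¹ * q * g ∈ OO z := by
      have := oo_conj (inv_comm hg) hqO
      rwa [inv_inv] at this
    have e : q * (g * x * g⁻¹) * q⁻¹ * (g * x * g⁻¹)⁻¹ =
        g * (g⁻¹ * q * g * x * (g⁻¹ * q * g)⁻¹ * x⁻¹) * g⁻¹ := by group
    rw [e]
    exact h.eqv.dp_conj (hx2 _ h3) hg

/-- `O₂(L)` is normalised by every element normalising `L` -/
theorem o2_normal {L : Subgroup G} {g : G} (hg : L.map (MulAut.conj g).toMonoidHom = L) {x : G}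
    (hx : x ∈ o2 L) : g * x * g⁻¹ ∈ o2 L := by
  have h1 := Cfsg.Agent.ZN.o2_map (MulAut.conj g).toMonoidHom (MulAut.conj g).injective L
  rw [hg] at h1
  rw [h1]
  exact ⟨x, hx, rfl⟩

theorem map_conj_eq {L : Subgroup G} {g : G} (h1 : ∀ x ∈ L, g * x * g⁻¹ ∈ L)
    (h2 : ∀ x ∈ L, g⁻¹ * x * g ∈ L) : L.map (MulAut.conj g).toMonoidHom = L := by
  ext x
  constructor
  · rintro ⟨y, hy, rfl⟩
    exact h1 y hy
  · intro hx
    refine ⟨g⁻¹ * x * g, h2 x hx, ?_⟩
    change g * (g⁻¹ * x * g) * g⁻¹ = x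
    group

end Cfsg.Agent.Omega.FFTwoA.OTwo
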