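import Mathlib

/-!
# OMEGA, FF-2a and FF-2c: the structure of `Q = O₂(N_G(R))` (all `q` at once)

`V` is an elementary abelian group with points `R i`, `W i ≤ Q i` are normal in `N_G(R i)`,
`V ≤ W i`, `[W i, Q i] ≤ R i`, `W i` is transitive on the points different from `R i`.
Then all `Q i ⊓ Q j` are equal to one group `I`, `I` is elementary abelian, `Q i = W i I`,
`[Q i, Q i] ≤ R i` and `C_I(W i) = R i`.
-/

namespace Cfsg.Agent.Omega.FFTwoA

open Subgroup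
open scoped commutatorElement

variable {G : Type*} [Group G] {ι : Type*}

/-- `g` maps the subgroup `A` onto the subgroup `B`. -/
def Cj (g : G) (A B : Subgroup G) : Prop := ∀ a, a ∈ A ↔ g * a * g⁻¹ ∈ B

theorem Cj.one (A : Subgroup G) : Cj 1 A A := fun a => by simp

theorem Cj.symm {g : G} {A B : Subgroup G} (h : Cj g A B) : Cj g⁻¹ B A := fun b => by
  rw [h (g⁻¹ * b * g⁻¹⁻¹)]
  simp [mul_assoc]

theorem Cj.trans {g k : G} {A B C : Subgroup G} (h : Cj g A B) (h' : Cj k B C) :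
    Cj (k * g) A C := fun a => by
  rw [h a, h' (g * a * g⁻¹)]
  simp [mul_assoc]

theorem Cj.mem {g : G} {A B : Subgroup G} (h : Cj g A B) {a : G} (ha : a ∈ A) :
    g * a * g⁻¹ ∈ B := (h a).1 ha

theorem Cj.mem' {g : G} {A B : Subgroup G} (h : Cj g A B) {a : G} (ha : a ∈ B) :
    g⁻¹ * a * g ∈ A := by
  have := h.symm.mem ha
  simpa using this

theorem Cj.card {g : G} {A B : Subgroup G} (h : Cj g A B) : Nat.card A = Nat.card B := by
  refine Nat.card_congr ⟨fun a => ⟨g * a * g⁻¹, h.mem a.2⟩, fun b => ⟨g⁻¹ * b * g, h.mem' b.2⟩,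
    fun a => ?_, fun b => ?_⟩
  · ext; simp [mul_assoc]
  · ext; simp [mul_assoc]

theorem Cj.unique {g : G} {A B C : Subgroup G} (h : Cj g A B) (h' : Cj g A C) : B = C := by
  ext b
  constructor
  · intro hb
    have := h'.mem (h.mem' hb)
    simpa [mul_assoc] using this
  · intro hb
    have := h.mem (h'.mem' hb)
    simpa [mul_assoc] using this

/-- Product description of `A ⊔ I` when `A` normalises `I`. -/
theorem mem_sup_iff {A I : Subgroup G} (h : ∀ a ∈ A, ∀ b ∈ I, a * b * a⁻¹ ∈ I) (x : G) :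
    x ∈ A ⊔ I ↔ ∃ a ∈ A, ∃ b ∈ I, x = a * b := by
  constructor
  · intro hx
    let P : Subgroup G :=
      { carrier := {x | ∃ a ∈ A, ∃ b ∈ I, x = a * b}
        one_mem' := ⟨1, A.one_mem, 1, I.one_mem, by simp⟩
        mul_mem' := by
          rintro _ _ ⟨a, ha, b, hb, rfl⟩ ⟨a', ha', b', hb', rfl⟩
          refine ⟨a * a', A.mul_mem ha ha', (a'⁻¹ * b * a'⁻¹⁻¹) * b',
            I.mul_mem (h _ (A.inv_mem ha') _ hb) hb', ?_⟩
          group
        inv_mem' := by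
          rintro _ ⟨a, ha, b, hb, rfl⟩
          refine ⟨a⁻¹, A.inv_mem ha, a * b⁻¹ * a⁻¹, h _ ha _ (I.inv_mem hb), ?_⟩
          group }
    have hA : A ≤ P := fun a ha => ⟨a, ha, 1, I.one_mem, by simp⟩
    have hI : I ≤ P := fun b hb => ⟨1, A.one_mem, b, hb, by simp⟩
    exact sup_le hA hI hx
  · rintro ⟨a, ha, b, hb, rfl⟩
    exact (A ⊔ I).mul_mem (le_sup_left (a := A) ha) (le_sup_right (a := A) hb)

/-- The frame: points `R i` of `V`, groups `W i ≤ Q i`. -/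
structure Pts (V : Subgroup G) (R Q W : ι → Subgroup G) : Prop where
  R_le : ∀ i, R i ≤ V
  V_le : ∀ i, V ≤ W i
  W_le : ∀ i, W i ≤ Q i
  disj : ∀ i j, i ≠ j → R i ⊓ R j = ⊥
  ne : ∀ i, R i ≠ ⊥
  part : ∀ v ∈ V, ∃ i, v ∈ R i
  three : ∀ i j : ι, ∃ k : ι, k ≠ i ∧ k ≠ j
  span : ∀ i j, i ≠ j → ∀ v ∈ V, ∃ a ∈ R i, ∃ b ∈ R j, v = a * b
  cent : ∀ i, ∀ r ∈ R i, ∀ q ∈ Q i, r * q = q * r
  comm : ∀ i, ∀ w ∈ W i, ∀ q ∈ Q i, ⁅w, q⁆ ∈ R i
  norm : ∀ g ∈ normalizer (V : Set G), ∀ i, ∃ j, Cj g (R i) (R j) ∧ Cj g (Q i) (Q j) ∧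
    Cj g (W i) (W j)
  tran : ∀ i j k, i ≠ j → k ≠ j → ∃ w ∈ W j, Cj w (R i) (R k) ∧ Cj w (Q i) (Q k) ∧
    Cj w (W i) (W k)
  /-- every nontrivial `N_G(V)`-invariant subgroup of the intersection meets `V` -/
  meet : ∀ X : Subgroup G, X ≤ ⨅ i, Q i → (∀ g ∈ normalizer (V : Set G), ∀ a ∈ X,
    g * a * g⁻¹ ∈ X) → X ≠ ⊥ → ∃ z ∈ X, z ∈ V ∧ z ≠ 1

namespace Pts

variable {V : Subgroup G} {R Q W : ι → Subgroup G} (h : Pts V R Q W)

include h

theorem V_le_Q (i : ι) : V ≤ Q i := (h.V_le i).trans (h.W_le i)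

theorem eq_of_R {i j : ι} (hij : R i = R j) : i = j := by
  by_contra hne
  have := h.disj i j hne
  rw [hij, inf_idem] at this
  exact h.ne j this

theorem inj_R : Function.Injective R := fun _ _ hij => h.eq_of_R hij

/-- elements of `V` fixed by `W j` lie in `R j` -/
theorem mem_R_of_fixed {j : ι} {z : G} (hz : z ∈ V) (hc : ∀ w ∈ W j, w * z = z * w) :
    z ∈ R j := by
  obtain ⟨i, hi⟩ := h.part z hz
  by_cases hij : i = j
  · exact hij ▸ hi
  · obtain ⟨k, hki, hkj⟩ := h.three i j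
    obtain ⟨w, hw, hR, -, -⟩ := h.tran i j k hij hkj
    have h1 : w * z * w⁻¹ ∈ R k := hR.mem hi
    rw [hc w hw, mul_inv_cancel_right] at h1
    have h2 : z ∈ R i ⊓ R k := ⟨hi, h1⟩
    rw [h.disj i k (fun e => hki e.symm), mem_bot] at h2
    rw [h2]
    exact (R j).one_mem

/-- no nontrivial element of `V` is fixed by all `W j` -/
theorem eq_one_of_fixed {z : G} (hz : z ∈ V) (hc : ∀ j, ∀ w ∈ W j, w * z = z * w) : z = 1 := by
  obtain ⟨i, -⟩ := h.part z hz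
  obtain ⟨j, hj, -⟩ := h.three i i
  have h2 : z ∈ R i ⊓ R j := ⟨h.mem_R_of_fixed hz (hc i), h.mem_R_of_fixed hz (hc j)⟩
  rwa [h.disj i j (fun e => hj e.symm), mem_bot] at h2

/-- `Q i` normalises `V` -/
theorem mem_normalizer {i : ι} {q : G} (hq : q ∈ Q i) : q ∈ normalizer (V : Set G) := by
  have key : ∀ q ∈ Q i, ∀ v ∈ V, q * v * q⁻¹ ∈ V := by
    intro q hq v hv
    have h1 := h.comm i v (h.V_le i hv) q hq
    have h2 : ⁅v, q⁆ = v * (q * v * q⁻¹)⁻¹ := by rw [commutatorElement_def]; group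
    have h3 : v * (q * v * q⁻¹)⁻¹ ∈ V := h2 ▸ h.R_le i h1
    have h4 := V.mul_mem (V.inv_mem hv) h3
    rw [inv_mul_cancel_left] at h4
    simpa using V.inv_mem h4
  rw [mem_normalizer_iff]
  intro v
  refine ⟨key q hq v, fun hv => ?_⟩
  have := key q⁻¹ ((Q i).inv_mem hq) _ hv
  simpa [mul_assoc] using this

/-- an element centralising `V` preserves all `R i`, `Q i`, `W i` -/
theorem cj_self {u : G} (hu : u ∈ centralizer (V : Set G)) (i : ι) :
    Cj u (R i) (R i) ∧ Cj u (Q i) (Q i) ∧ Cj u (W i) (W i) := by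
  have huN : u ∈ normalizer (V : Set G) := centralizer_le_normalizer _ hu
  obtain ⟨j, h1, h2, h3⟩ := h.norm u huN i
  have hR : Cj u (R i) (R i) := by
    intro a
    have : ∀ a ∈ V, u * a * u⁻¹ = a := by
      intro a ha
      rw [← mem_centralizer_iff.1 hu a ha, mul_inv_cancel_right]
    constructor
    · intro ha
      rw [this a (h.R_le i ha)]
      exact ha
    · intro ha
      have h5 : a ∈ V := (mem_normalizer_iff.1 huN a).2 (h.R_le i ha)
      rwa [this a h5] at ha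
  have hij : R j = R i := h1.unique hR
  have := h.eq_of_R hij
  subst this
  exact ⟨h1, h2, h3⟩

/-- (i) all intersections `Q i ⊓ Q j` are equal -/
theorem inf_eq {i j : ι} (hij : i ≠ j) : Q i ⊓ Q j = ⨅ k, Q k := by
  apply le_antisymm
  · apply le_iInf
    intro k
    by_cases hki : k = i
    · rw [hki]; exact inf_le_left
    by_cases hkj : k = j
    · rw [hkj]; exact inf_le_right
    intro a ha
    obtain ⟨w, hw, -, hQ, -⟩ := h.tran i j k hij hkj
    have h1 : ⁅w⁻¹, a⁆ ∈ R j := h.comm j _ ((W j).inv_mem hw) a ha.2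
    have h2 : w⁻¹ * a * w = ⁅w⁻¹, a⁆ * a := by rw [commutatorElement_def]; group
    have h3 : w⁻¹ * a * w ∈ Q i := by
      rw [h2]
      exact (Q i).mul_mem (h.V_le_Q i (h.R_le j h1)) ha.1
    have h4 := hQ.mem h3
    simpa [mul_assoc] using h4
  · exact le_inf (iInf_le _ i) (iInf_le _ j)

theorem V_le_I : V ≤ ⨅ k, Q k := le_iInf fun k => h.V_le_Q k

theorem I_comm_V {a v : G} (ha : a ∈ ⨅ k, Q k) (hv : v ∈ V) : v * a = a * v := by
  obtain ⟨i, -⟩ := h.part v hv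
  obtain ⟨j, hj, -⟩ := h.three i i
  obtain ⟨r, hr, s, hs, rfl⟩ := h.span i j (fun e => hj e.symm) v hv
  rw [mul_assoc, h.cent j s hs a (mem_iInf.1 ha j), ← mul_assoc, h.cent i r hr a (mem_iInf.1 ha i),
    mul_assoc]

/-- the intersection is invariant under `N_G(V)` -/
theorem I_conj {g a : G} (hg : g ∈ normalizer (V : Set G)) (ha : a ∈ ⨅ k, Q k) :
    g * a * g⁻¹ ∈ ⨅ k, Q k := by
  rw [mem_iInf]
  intro k
  obtain ⟨i, -, h2, -⟩ := h.norm g⁻¹ (inv_mem hg) k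
  have := h2.symm.mem (mem_iInf.1 ha i)
  simpa using this

theorem comm_W {a b w : G} {j : ι} (ha : a ∈ ⨅ k, Q k) (hb : b ∈ ⨅ k, Q k) (hw : w ∈ W j) :
    w * ⁅a, b⁆ * w⁻¹ = ⁅a, b⁆ := by
  have e1 : w * a * w⁻¹ = ⁅w, a⁆ * a := by rw [commutatorElement_def]; group
  have e2 : w * b * w⁻¹ = ⁅w, b⁆ * b := by rw [commutatorElement_def]; group
  have hr : ⁅w, a⁆ ∈ V := h.R_le j (h.comm j w hw a (mem_iInf.1 ha j))
  have hs : ⁅w, b⁆ ∈ V := h.R_le j (h.comm j w hw b (mem_iInf.1 hb j))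
  have e3 : w * ⁅a, b⁆ * w⁻¹ = ⁅w * a * w⁻¹, w * b * w⁻¹⁆ := by
    simp only [commutatorElement_def]; group
  rw [e3, e1, e2]
  set r := ⁅w, a⁆
  set s := ⁅w, b⁆
  have c1 : Commute r a := h.I_comm_V ha hr
  have c2 : Commute r b := h.I_comm_V hb hr
  have c3 : Commute s a := h.I_comm_V ha hs
  have c4 : Commute s b := h.I_comm_V hb hs
  have c5 : Commute r s := h.I_comm_V (h.V_le_I hs) hr
  rw [commutatorElement_def, commutatorElement_def]
  have k1 : Commute r (a * (s * b)) := c1.mul_right (c5.mul_right c2)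
  have k2 : Commute s (a * b * a⁻¹) := (c3.mul_right c4).mul_right c3.inv_right
  calc r * a * (s * b) * (r * a)⁻¹ * (s * b)⁻¹
      = (r * (a * (s * b))) * a⁻¹ * r⁻¹ * (s * b)⁻¹ := by group
    _ = (a * (s * b)) * (r * a⁻¹) * r⁻¹ * (s * b)⁻¹ := by rw [k1.eq]; group
    _ = (a * (s * b)) * (a⁻¹ * r) * r⁻¹ * (s * b)⁻¹ := by rw [c1.inv_right.eq]
    _ = (a * s) * b * a⁻¹ * b⁻¹ * s⁻¹ := by group
    _ = (s * a) * b * a⁻¹ * b⁻¹ * s⁻¹ := by rw [c3.eq]
    _ = (s * (a * b * a⁻¹ * b⁻¹)) * s⁻¹ := by group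
    _ = ((a * b * a⁻¹ * b⁻¹) * s) * s⁻¹ := by rw [(k2.mul_right c4.inv_right).eq]
    _ = a * b * a⁻¹ * b⁻¹ := by group

/-- (ii) the intersection is abelian -/
theorem I_comm {a b : G} (ha : a ∈ ⨅ k, Q k) (hb : b ∈ ⨅ k, Q k) : a * b = b * a := by
  set I : Subgroup G := ⨅ k, Q k with hI
  by_contra hne
  have hX : ⁅I, I⁆ ≠ ⊥ := by
    intro hbot
    have h1 : ⁅a, b⁆ ∈ ⁅I, I⁆ := commutator_mem_commutator ha hb
    rw [hbot, mem_bot, commutatorElement_eq_one_iff_mul_comm] at h1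
    exact hne h1
  have hXI : ⁅I, I⁆ ≤ I := commutator_le_self I
  have hcen : ∀ j, ∀ w ∈ W j, ∀ x ∈ ⁅I, I⁆, w * x = x * w := by
    intro j w hw
    have : ⁅I, I⁆ ≤ centralizer {w} := by
      rw [commutator_le]
      intro a ha b hb
      rw [mem_centralizer_singleton_iff]
      have := h.comm_W ha hb hw
      rw [mul_inv_eq_iff_eq_mul] at this
      exact this.symm
    intro x hx
    exact (mem_centralizer_singleton_iff.1 (this hx)).symm
  obtain ⟨z, hz, hzV, hz1⟩ := h.meet ⁅I, I⁆ hXI (by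
    intro g hg
    have hle : ⁅I, I⁆ ≤ (⁅I, I⁆).comap (MulAut.conj g).toMonoidHom := by
      rw [commutator_le]
      intro a ha b hb
      rw [mem_comap]
      have e : (MulAut.conj g).toMonoidHom ⁅a, b⁆ = ⁅g * a * g⁻¹, g * b * g⁻¹⁆ := by
        simp [commutatorElement_def, mul_assoc]
      rw [e]
      exact commutator_mem_commutator (h.I_conj hg ha) (h.I_conj hg hb)
    intro x hx
    have := hle hx
    rw [mem_comap] at this
    simpa using this) hX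
  exact hz1 (h.eq_one_of_fixed hzV fun j w hw => hcen j w hw z hz)

/-- (ii) the intersection has exponent 2 (if `V` has) -/
theorem I_sq (hV : ∀ v ∈ V, v * v = 1) {a : G} (ha : a ∈ ⨅ k, Q k) : a * a = 1 := by
  set I : Subgroup G := ⨅ k, Q k with hI
  by_contra hne
  let X : Subgroup G := closure {x | ∃ b ∈ I, x = b * b}
  have hX : X ≠ ⊥ := by
    intro hbot
    have h1 : a * a ∈ X := subset_closure ⟨a, ha, rfl⟩
    rw [hbot, mem_bot] at h1
    exact hne h1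
  have hXI : X ≤ I := by
    rw [closure_le]
    rintro _ ⟨b, hb, rfl⟩
    exact I.mul_mem hb hb
  have hcen : ∀ j, ∀ w ∈ W j, ∀ x ∈ X, w * x = x * w := by
    intro j w hw
    have : X ≤ centralizer {w} := by
      rw [closure_le]
      rintro _ ⟨b, hb, rfl⟩
      rw [SetLike.mem_coe, mem_centralizer_singleton_iff]
      have e1 : w * b * w⁻¹ = ⁅w, b⁆ * b := by rw [commutatorElement_def]; group
      have hr : ⁅w, b⁆ ∈ V := h.R_le j (h.comm j w hw b (mem_iInf.1 hb j))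
      have c : Commute ⁅w, b⁆ b := h.I_comm_V hb hr
      have e2 : w * (b * b) * w⁻¹ = b * b := by
        calc w * (b * b) * w⁻¹ = (w * b * w⁻¹) * (w * b * w⁻¹) := by group
          _ = (⁅w, b⁆ * b) * (⁅w, b⁆ * b) := by rw [e1]
          _ = ⁅w, b⁆ * (b * ⁅w, b⁆) * b := by group
          _ = ⁅w, b⁆ * (⁅w, b⁆ * b) * b := by rw [c.eq]
          _ = (⁅w, b⁆ * ⁅w, b⁆) * (b * b) := by group
          _ = b * b := by rw [hV _ hr, one_mul]
      rw [mul_inv_eq_iff_eq_mul] at e2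
      exact e2.symm
    intro x hx
    exact (mem_centralizer_singleton_iff.1 (this hx)).symm
  obtain ⟨z, hz, hzV, hz1⟩ := h.meet X hXI (by
    intro g hg
    have hle : X ≤ X.comap (MulAut.conj g).toMonoidHom := by
      rw [closure_le]
      rintro _ ⟨b, hb, rfl⟩
      rw [SetLike.mem_coe, mem_comap]
      refine subset_closure ⟨g * b * g⁻¹, h.I_conj hg hb, ?_⟩
      simp [mul_assoc]
    intro x hx
    have := hle hx
    rw [mem_comap] at this
    simpa using this) hX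
  exact hz1 (h.eq_one_of_fixed hzV fun j w hw => hcen j w hw z hz)

/-- `U i = C_{Q i}(V)` -/
theorem card_U (i j : ι) :
    Nat.card ↥(Q i ⊓ centralizer (V : Set G)) = Nat.card ↥(Q j ⊓ centralizer (V : Set G)) := by
  by_cases hij : i = j
  · rw [hij]
  obtain ⟨k, hki, hkj⟩ := h.three i j
  obtain ⟨w, hw, -, hQ, -⟩ := h.tran i k j (fun e => hki e.symm) (fun e => hkj e.symm)
  have hwN : w ∈ normalizer (V : Set G) := h.mem_normalizer (h.W_le k hw)
  apply Cj.card (g := w)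
  intro a
  have key : ∀ g ∈ normalizer (V : Set G), ∀ a, a ∈ centralizer (V : Set G) →
      g * a * g⁻¹ ∈ centralizer (V : Set G) := by
    intro g hg a ha
    rw [mem_centralizer_iff]
    intro v hv
    have h1 : g⁻¹ * v * g ∈ V := by
      have := (mem_normalizer_iff.1 (inv_mem hg) v).1 hv
      simpa using this
    have h2 := mem_centralizer_iff.1 ha _ h1
    calc v * (g * a * g⁻¹) = g * ((g⁻¹ * v * g) * a) * g⁻¹ := by group
      _ = g * (a * (g⁻¹ * v * g)) * g⁻¹ := by rw [h2]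
      _ = g * a * g⁻¹ * v := by group
  rw [mem_inf, mem_inf, hQ a]
  refine and_congr_right fun _ => ⟨fun ha => key w hwN a ha, fun ha => ?_⟩
  have := key w⁻¹ (inv_mem hwN) _ ha
  simpa [mul_assoc] using this

theorem conj_cent {g a : G} (hg : g ∈ normalizer (V : Set G))
    (ha : a ∈ centralizer (V : Set G)) : g * a * g⁻¹ ∈ centralizer (V : Set G) := by
  rw [mem_centralizer_iff]
  intro v hv
  have h1 : g⁻¹ * v * g ∈ V := by
    have := (mem_normalizer_iff.1 (inv_mem hg) v).1 hv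
    simpa using this
  have h2 := mem_centralizer_iff.1 ha _ h1
  calc v * (g * a * g⁻¹) = g * ((g⁻¹ * v * g) * a) * g⁻¹ := by group
    _ = g * (a * (g⁻¹ * v * g)) * g⁻¹ := by rw [h2]
    _ = g * a * g⁻¹ * v := by group

theorem I_le_cent : (⨅ k, Q k) ≤ centralizer (V : Set G) := fun a ha => by
  rw [mem_centralizer_iff]
  intro v hv
  exact h.I_comm_V ha hv

/-- (iii) `C_{Q j}(V) = C_{W j}(V) I` -/
theorem U_eq [Finite G] (j : ι) :
    Q j ⊓ centralizer (V : Set G) = (W j ⊓ centralizer (V : Set G)) ⊔ ⨅ k, Q k := by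
  set I : Subgroup G := ⨅ k, Q k with hI
  obtain ⟨i, hij, -⟩ := h.three j j
  obtain ⟨k, hki, hkj⟩ := h.three i j
  obtain ⟨w, hw, -, hQ, -⟩ := h.tran i j k hij hkj
  have hwN : w ∈ normalizer (V : Set G) := h.mem_normalizer (h.W_le j hw)
  set A : Subgroup G := W j ⊓ centralizer (V : Set G) with hA
  set U : Subgroup G := Q i ⊓ centralizer (V : Set G) with hU
  have hIU : I ≤ U := le_inf (iInf_le _ i) h.I_le_cent
  have hsup : A ⊔ I ≤ Q j ⊓ centralizer (V : Set G) :=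
    sup_le (inf_le_inf_right _ (h.W_le j)) (le_inf (iInf_le _ j) h.I_le_cent)
  -- the map
  let s : G → G := fun t => t⁻¹ * (w * t * w⁻¹)
  have hs : ∀ t ∈ U, s t ∈ A := by
    intro t ht
    refine ⟨?_, ?_⟩
    · have h1 := (h.cj_self (inv_mem ht.2) j).2.2.mem hw
      rw [inv_inv] at h1
      have h2 : s t = t⁻¹ * w * t * w⁻¹ := by simp only [s]; group
      rw [h2]
      exact (W j).mul_mem h1 ((W j).inv_mem hw)
    · exact (centralizer (V : Set G)).mul_mem ((centralizer (V : Set G)).inv_mem ht.2)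
        (h.conj_cent hwN ht.2)
  have hinj : ∀ t ∈ U, ∀ t' ∈ U, (s t)⁻¹ * s t' ∈ I → t⁻¹ * t' ∈ I := by
    intro t ht t' ht' hst
    set b := (s t)⁻¹ * s t' with hb
    have e1 : w * (t' * t⁻¹) * w⁻¹ = (t' * t⁻¹) * (t * (s t * b * (s t)⁻¹) * t⁻¹) := by
      simp only [hb, s]; group
    have h1 : t * (s t * b * (s t)⁻¹) * t⁻¹ ∈ I :=
      h.I_conj (centralizer_le_normalizer _ ht.2)
        (h.I_conj (centralizer_le_normalizer _ (hs t ht).2) hst)
    have h2 : w * (t' * t⁻¹) * w⁻¹ ∈ Q i := by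
      rw [e1]
      exact (Q i).mul_mem ((Q i).mul_mem ht'.1 ((Q i).inv_mem ht.1)) (iInf_le (fun k => Q k) i h1)
    have h3 : w * (t' * t⁻¹) * w⁻¹ ∈ Q k := hQ.mem ((Q i).mul_mem ht'.1 ((Q i).inv_mem ht.1))
    have h4 : w * (t' * t⁻¹) * w⁻¹ ∈ I := by
      rw [hI, ← h.inf_eq (fun e => hki e.symm)]
      exact ⟨h2, h3⟩
    have h5 := h.I_conj (inv_mem hwN) h4
    have h6 : t' * t⁻¹ ∈ I := by
      have e : w⁻¹ * (w * (t' * t⁻¹) * w⁻¹) * w⁻¹⁻¹ = t' * t⁻¹ := by group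
      rwa [e] at h5
    have h7 := h.I_conj (centralizer_le_normalizer _ (inv_mem ht.2)) h6
    have e2 : t⁻¹ * (t' * t⁻¹) * t⁻¹⁻¹ = t⁻¹ * t' := by group
    rwa [e2] at h7
  -- the injection of cosets
  let f : U ⧸ (I.subgroupOf U) → (↥(A ⊔ I)) ⧸ (I.subgroupOf (A ⊔ I)) := fun q =>
    QuotientGroup.mk ⟨s (q.out : U), le_sup_left (a := A) (hs _ (q.out : U).2)⟩
  have hf : Function.Injective f := by
    intro q q' hqq
    have h1 := QuotientGroup.eq.1 hqq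
    rw [mem_subgroupOf] at h1
    have h2 := hinj _ (q.out : U).2 _ (q'.out : U).2 h1
    have h3 : (QuotientGroup.mk (q.out) : U ⧸ (I.subgroupOf U)) = QuotientGroup.mk (q'.out) := by
      rw [QuotientGroup.eq, mem_subgroupOf]
      exact h2
    rwa [QuotientGroup.out_eq', QuotientGroup.out_eq'] at h3
  have hcard : Nat.card (U ⧸ (I.subgroupOf U)) ≤ Nat.card ((↥(A ⊔ I)) ⧸ (I.subgroupOf (A ⊔ I))) :=
    Nat.card_le_card_of_injective f hf
  have c1 := Subgroup.card_eq_card_quotient_mul_card_subgroup (I.subgroupOf U)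
  have c2 := Subgroup.card_eq_card_quotient_mul_card_subgroup (I.subgroupOf (A ⊔ I))
  have c3 : Nat.card (I.subgroupOf U) = Nat.card I :=
    Nat.card_congr (subgroupOfEquivOfLe hIU).toEquiv
  have c4 : Nat.card (I.subgroupOf (A ⊔ I)) = Nat.card I :=
    Nat.card_congr (subgroupOfEquivOfLe (le_sup_right (a := A) (b := I))).toEquiv
  have c5 : Nat.card U ≤ Nat.card ↥(A ⊔ I) := by
    rw [c1, c2, c3, c4]
    exact Nat.mul_le_mul_right _ hcard
  have c6 : Nat.card ↥(Q j ⊓ centralizer (V : Set G)) = Nat.card U := h.card_U j i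
  exact (Subgroup.eq_of_le_of_card_ge hsup (by rw [c6]; exact c5)).symm

/-- `W j` normalises the intersection -/
theorem W_conj {j : ι} {w a : G} (hw : w ∈ Q j) (ha : a ∈ ⨅ k, Q k) :
    w * a * w⁻¹ ∈ ⨅ k, Q k := h.I_conj (h.mem_normalizer hw) ha

/-- (iii) `Q j = W j I` -/
theorem Q_eq [Finite G] (hQW : ∀ i, ∀ q ∈ Q i, ∃ w ∈ W i, w⁻¹ * q ∈ centralizer (V : Set G))
    (j : ι) : Q j = W j ⊔ ⨅ k, Q k := by
  apply le_antisymm
  · intro q hq
    obtain ⟨w, hw, hc⟩ := hQW j q hq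
    have h1 : w⁻¹ * q ∈ Q j ⊓ centralizer (V : Set G) :=
      ⟨(Q j).mul_mem ((Q j).inv_mem (h.W_le j hw)) hq, hc⟩
    rw [h.U_eq j] at h1
    have h2 : w⁻¹ * q ∈ W j ⊔ ⨅ k, Q k :=
      (sup_le_sup_right inf_le_left _ : (W j ⊓ centralizer (V : Set G)) ⊔ _ ≤ _) h1
    have h3 := (W j ⊔ ⨅ k, Q k).mul_mem (le_sup_left (a := W j) hw) h2
    rwa [mul_inv_cancel_left] at h3
  · exact sup_le (h.W_le j) (iInf_le _ j)

/-- (iii) elementwise -/
theorem exists_mul [Finite G]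
    (hQW : ∀ i, ∀ q ∈ Q i, ∃ w ∈ W i, w⁻¹ * q ∈ centralizer (V : Set G))
    {j : ι} {q : G} (hq : q ∈ Q j) : ∃ w ∈ W j, ∃ a ∈ ⨅ k, Q k, q = w * a := by
  rw [h.Q_eq hQW j, mem_sup_iff (fun w hw a ha => h.W_conj (h.W_le j hw) ha)] at hq
  exact hq

theorem comm_mul_left {j : ι} {p p' q : G} (hp : p ∈ Q j) (hp' : p' ∈ Q j) (hq : q ∈ Q j)
    (h1 : ⁅p, q⁆ ∈ R j) (h2 : ⁅p', q⁆ ∈ R j) : ⁅p * p', q⁆ ∈ R j := by
  have e : ⁅p * p', q⁆ = (p * ⁅p', q⁆ * p⁻¹) * ⁅p, q⁆ := by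
    simp only [commutatorElement_def]; group
  rw [e, ← h.cent j _ h2 p hp, mul_inv_cancel_right]
  exact (R j).mul_mem h2 h1

/-- (iv) `[Q j, Q j] ≤ R j` -/
theorem comm_mem [Finite G]
    (hQW : ∀ i, ∀ q ∈ Q i, ∃ w ∈ W i, w⁻¹ * q ∈ centralizer (V : Set G))
    {j : ι} {p q : G} (hp : p ∈ Q j) (hq : q ∈ Q j) : ⁅p, q⁆ ∈ R j := by
  have hswap : ∀ p q : G, ⁅p, q⁆ ∈ R j → ⁅q, p⁆ ∈ R j := by
    intro p q hpq
    rw [← commutatorElement_inv]
    exact (R j).inv_mem hpq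
  -- with `q` in the intersection
  have h1 : ∀ q ∈ ⨅ k, Q k, ∀ p ∈ Q j, ⁅p, q⁆ ∈ R j := by
    intro q hq p hp
    obtain ⟨w, hw, a, ha, rfl⟩ := h.exists_mul hQW hp
    have hqj := mem_iInf.1 hq j
    refine h.comm_mul_left (h.W_le j hw) (mem_iInf.1 ha j) hqj (h.comm j w hw q hqj) ?_
    rw [commutatorElement_eq_one_iff_mul_comm.2 (h.I_comm ha hq)]
    exact (R j).one_mem
  obtain ⟨w, hw, a, ha, rfl⟩ := h.exists_mul hQW hp
  exact h.comm_mul_left (h.W_le j hw) (mem_iInf.1 ha j) hq (h.comm j w hw q hq)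
    (hswap _ _ (h1 a ha q hq))

/-- (iv) squares of `Q j` lie in `R j` -/
theorem sq_mem [Finite G]
    (hQW : ∀ i, ∀ q ∈ Q i, ∃ w ∈ W i, w⁻¹ * q ∈ centralizer (V : Set G))
    (hV : ∀ v ∈ V, v * v = 1) {j : ι} (hW : ∀ w ∈ W j, w * w ∈ R j) {q : G} (hq : q ∈ Q j) :
    q * q ∈ R j := by
  obtain ⟨w, hw, a, ha, rfl⟩ := h.exists_mul hQW hq
  have haj := mem_iInf.1 ha j
  have h1 : ⁅w⁻¹, a⁆ ∈ R j := h.comm j _ ((W j).inv_mem hw) a haj
  have e : w * a * (w * a) = (w * w) * ⁅w⁻¹, a⁆ * (a * a) := by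
    simp only [commutatorElement_def]; group
  rw [e, h.I_sq hV ha, mul_one]
  exact (R j).mul_mem (hW w hw) h1

/-- the subgroup of `I` centralised by all `W k` is trivial -/
theorem eq_one_of_cent {a : G} (ha : a ∈ ⨅ k, Q k) (hc : ∀ j, ∀ w ∈ W j, w * a = a * w) :
    a = 1 := by
  by_contra hne
  let X : Subgroup G :=
    { carrier := {x | x ∈ ⨅ k, Q k ∧ ∀ j, ∀ w ∈ W j, w * x = x * w}
      one_mem' := ⟨(⨅ k, Q k).one_mem, fun j w _ => by simp⟩
      mul_mem' := by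
        rintro x y ⟨hx, hx'⟩ ⟨hy, hy'⟩
        refine ⟨(⨅ k, Q k).mul_mem hx hy, fun j w hw => ?_⟩
        rw [← mul_assoc, hx' j w hw, mul_assoc, hy' j w hw, mul_assoc]
      inv_mem' := by
        rintro x ⟨hx, hx'⟩
        refine ⟨(⨅ k, Q k).inv_mem hx, fun j w hw => ?_⟩
        have : Commute w x := hx' j w hw
        exact this.inv_right.eq }
  have hXI : X ≤ ⨅ k, Q k := fun x hx => hx.1
  have hX : X ≠ ⊥ := by
    intro hbot
    have : a ∈ X := ⟨ha, hc⟩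
    rw [hbot, mem_bot] at this
    exact hne this
  obtain ⟨z, hz, hzV, hz1⟩ := h.meet X hXI (by
    rintro g hg x ⟨hx, hx'⟩
    refine ⟨h.I_conj hg hx, fun j w hw => ?_⟩
    obtain ⟨i, -, -, h3⟩ := h.norm g⁻¹ (inv_mem hg) j
    have h4 := h3.mem hw
    rw [inv_inv] at h4
    have h5 := hx' i _ h4
    calc w * (g * x * g⁻¹) = g * ((g⁻¹ * w * g) * x) * g⁻¹ := by group
      _ = g * (x * (g⁻¹ * w * g)) * g⁻¹ := by rw [h5]
      _ = g * x * g⁻¹ * w := by group) hX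
  exact hz1 (h.eq_one_of_fixed hzV hz.2)

/-- (v) `C_I(W i) = R i` -/
theorem mem_R_of_cent
    (surj : ∀ i j, i ≠ j → ∀ w ∈ W j, w ∉ centralizer (V : Set G) → ∀ s ∈ R j,
      ∃ r ∈ R i, ⁅w, r⁆ = s)
    {i : ι} {x : G} (hx : x ∈ ⨅ k, Q k) (hc : ∀ w ∈ W i, w * x = x * w) : x ∈ R i := by
  obtain ⟨j, hji, -⟩ := h.three i i
  obtain ⟨k, hki, hkj⟩ := h.three i j
  obtain ⟨w, hw, hwR, hwQ, hwW⟩ := h.tran i j k (fun e => hji e.symm) hkj
  have hwV : w ∉ centralizer (V : Set G) := by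
    intro hwc
    have h1 : R k = R i := hwR.unique (h.cj_self hwc i).1
    exact hki (h.eq_of_R h1)
  -- `x` is centralised by `C_{W j}(V)`
  have hA : ∀ a ∈ W j, a ∈ centralizer (V : Set G) → a * x = x * a := by
    intro a ha hac
    have h1 : ⁅a, x⁆ ∈ R j := h.comm j a ha x (mem_iInf.1 hx j)
    have h2 : ⁅a, x⁆ ∈ R i := by
      refine h.mem_R_of_fixed (h.R_le j h1) fun u hu => ?_
      have e : ⁅a, x⁆ = (a * x * a⁻¹) * x⁻¹ := commutatorElement_def a x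
      rw [e]
      have h3 : a⁻¹ * u * a ∈ W i := by
        have := (h.cj_self (inv_mem hac) i).2.2.mem hu
        simpa using this
      have h4 : Commute u (a * x * a⁻¹) := by
        show u * (a * x * a⁻¹) = a * x * a⁻¹ * u
        calc u * (a * x * a⁻¹) = a * ((a⁻¹ * u * a) * x) * a⁻¹ := by group
          _ = a * (x * (a⁻¹ * u * a)) * a⁻¹ := by rw [hc _ h3]
          _ = a * x * a⁻¹ * u := by group
      have h5 : Commute u x := hc u hu
      exact (h4.mul_right h5.inv_right).eq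
    have h3 : ⁅a, x⁆ ∈ R j ⊓ R i := ⟨h1, h2⟩
    rw [h.disj j i hji, mem_bot, commutatorElement_eq_one_iff_mul_comm] at h3
    exact h3
  obtain ⟨r, hr, hwr⟩ := surj i j (fun e => hji e.symm) w hw hwV ⁅w, x⁆
    (h.comm j w hw x (mem_iInf.1 hx j))
  have hrI : r ∈ ⨅ k, Q k := h.V_le_I (h.R_le i hr)
  -- `y = r⁻¹ x`
  have hyI : r⁻¹ * x ∈ ⨅ k, Q k := (⨅ k, Q k).mul_mem ((⨅ k, Q k).inv_mem hrI) hx
  have hyw : Commute w (r⁻¹ * x) := by
    have e1 : w * r * w⁻¹ = ⁅w, x⁆ * r := by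
      rw [← hwr, commutatorElement_def]; group
    have e2 : w * x * w⁻¹ = ⁅w, x⁆ * x := by rw [commutatorElement_def]; group
    have e3 : w * (r⁻¹ * x) * w⁻¹ = (w * r * w⁻¹)⁻¹ * (w * x * w⁻¹) := by group
    have e4 : w * (r⁻¹ * x) * w⁻¹ = r⁻¹ * x := by
      rw [e3, e1, e2]; group
    exact mul_inv_eq_iff_eq_mul.1 e4
  have hyi : ∀ u ∈ W i, Commute u (r⁻¹ * x) := by
    intro u hu
    have h1 : Commute u r := (h.cent i r hr u (h.W_le i hu)).symm
    have h2 : Commute u x := hc u hu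
    exact h1.inv_right.mul_right h2
  have hyk : ∀ u ∈ W k, Commute u (r⁻¹ * x) := by
    intro u hu
    have h1 : w⁻¹ * u * w ∈ W i := hwW.mem' hu
    have h2 := hyi _ h1
    have h3 : u = w * (w⁻¹ * u * w) * w⁻¹ := by group
    rw [h3]
    exact (hyw.mul_left h2).mul_left hyw.inv_left
  have hall : ∀ l, ∀ u ∈ W l, u * (r⁻¹ * x) = (r⁻¹ * x) * u := by
    intro l u hu
    by_cases hli : l = i
    · subst hli
      exact (hyi u hu).eq
    · obtain ⟨p, hp, -, -, hpW⟩ := h.tran k i l hki hli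
      have h1 : p⁻¹ * u * p ∈ W k := hpW.mem' hu
      have h2 := hyk _ h1
      have h3 : u = p * (p⁻¹ * u * p) * p⁻¹ := by group
      have h4 := hyi p hp
      rw [h3]
      exact ((h4.mul_left h2).mul_left h4.inv_left).eq
  have h1 := h.eq_one_of_cent hyI hall
  rw [inv_mul_eq_one] at h1
  rw [← h1]
  exact hr

/-- the centre of `Q i` meets `Q j` in `R i` -/
theorem center_inf
    (surj : ∀ i j, i ≠ j → ∀ w ∈ W j, w ∉ centralizer (V : Set G) → ∀ s ∈ R j,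
      ∃ r ∈ R i, ⁅w, r⁆ = s)
    {i j : ι} (hij : i ≠ j) {e : G} (he : e ∈ Q i) (hc : ∀ w ∈ W i, w * e = e * w)
    (hj : e ∈ Q j) : e ∈ R i := by
  refine h.mem_R_of_cent surj ?_ hc
  rw [← h.inf_eq hij]
  exact ⟨he, hj⟩

/-- `C_{Q i}(W i)` and `C_{Q j}(W j)` commute -/
theorem comm_centers
    (surj : ∀ i j, i ≠ j → ∀ w ∈ W j, w ∉ centralizer (V : Set G) → ∀ s ∈ R j,
      ∃ r ∈ R i, ⁅w, r⁆ = s)
    {i j : ι} (hij : i ≠ j) {d e : G} (hd : d ∈ Q i) (hdc : ∀ w ∈ W i, w * d = d * w)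
    (he : e ∈ Q j) (hec : ∀ w ∈ W j, w * e = e * w) : d * e = e * d := by
  have hdV : d ∈ centralizer (V : Set G) := by
    rw [mem_centralizer_iff]
    intro v hv
    exact hdc v (h.V_le i hv)
  have heV : e ∈ centralizer (V : Set G) := by
    rw [mem_centralizer_iff]
    intro v hv
    exact hec v (h.V_le j hv)
  have h1 : ⁅d, e⁆ ∈ Q j := by
    rw [commutatorElement_def]
    exact (Q j).mul_mem ((h.cj_self hdV j).2.1.mem he) ((Q j).inv_mem he)
  have h2 : ⁅d, e⁆ ∈ Q i := by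
    have e1 : ⁅d, e⁆ = d * (e * d⁻¹ * e⁻¹) := by rw [commutatorElement_def]; group
    rw [e1]
    exact (Q i).mul_mem hd ((h.cj_self heV i).2.1.mem ((Q i).inv_mem hd))
  have h3 : ∀ w ∈ W j, Commute w ⁅d, e⁆ := by
    intro w hw
    have k1 : Commute w e := hec w hw
    have k2 : d⁻¹ * w * d ∈ W j := by
      have := (h.cj_self (inv_mem hdV) j).2.2.mem hw
      simpa using this
    have k3 : Commute w (d * e * d⁻¹) := by
      show w * (d * e * d⁻¹) = d * e * d⁻¹ * w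
      calc w * (d * e * d⁻¹) = d * ((d⁻¹ * w * d) * e) * d⁻¹ := by group
        _ = d * (e * (d⁻¹ * w * d)) * d⁻¹ := by rw [hec _ k2]
        _ = d * e * d⁻¹ * w := by group
    rw [commutatorElement_def]
    exact k3.mul_right k1.inv_right
  have h4 : ∀ w ∈ W i, Commute w ⁅d, e⁆ := by
    intro w hw
    have k1 : Commute w d := hdc w hw
    have k2 : e⁻¹ * w * e ∈ W i := by
      have := (h.cj_self (inv_mem heV) i).2.2.mem hw
      simpa using this
    have k3 : Commute w (e * d⁻¹ * e⁻¹) := by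
      show w * (e * d⁻¹ * e⁻¹) = e * d⁻¹ * e⁻¹ * w
      have k4 : Commute (e⁻¹ * w * e) d⁻¹ := Commute.inv_right (hdc _ k2)
      calc w * (e * d⁻¹ * e⁻¹) = e * ((e⁻¹ * w * e) * d⁻¹) * e⁻¹ := by group
        _ = e * (d⁻¹ * (e⁻¹ * w * e)) * e⁻¹ := by rw [k4.eq]
        _ = e * d⁻¹ * e⁻¹ * w := by group
    have e1 : ⁅d, e⁆ = d * (e * d⁻¹ * e⁻¹) := by rw [commutatorElement_def]; group
    rw [e1]
    exact k1.mul_right k3
  have h5 : ⁅d, e⁆ ∈ R i ⊓ R j :=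
    ⟨h.center_inf surj hij h2 (fun w hw => (h4 w hw).eq) h1,
      h.center_inf surj (fun e => hij e.symm) h1 (fun w hw => (h3 w hw).eq) h2⟩
  rw [h.disj i j hij, mem_bot, commutatorElement_eq_one_iff_mul_comm] at h5
  exact h5

/-- `[C_{Q i}(W i), C_{Q j}(V)] ≤ R i` -/
theorem comm_center_U
    (surj : ∀ i j, i ≠ j → ∀ w ∈ W j, w ∉ centralizer (V : Set G) → ∀ s ∈ R j,
      ∃ r ∈ R i, ⁅w, r⁆ = s)
    {i j : ι} (hij : i ≠ j) {d u : G} (hd : d ∈ Q i) (hdc : ∀ w ∈ W i, w * d = d * w)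
    (hu : u ∈ Q j) (huc : u ∈ centralizer (V : Set G)) : ⁅u, d⁆ ∈ R i := by
  have hdV : d ∈ centralizer (V : Set G) := by
    rw [mem_centralizer_iff]
    intro v hv
    exact hdc v (h.V_le i hv)
  have h1 : ⁅u, d⁆ ∈ Q i := by
    rw [commutatorElement_def]
    exact (Q i).mul_mem ((h.cj_self huc i).2.1.mem hd) ((Q i).inv_mem hd)
  have h2 : ⁅u, d⁆ ∈ Q j := by
    have e1 : ⁅u, d⁆ = u * (d * u⁻¹ * d⁻¹) := by rw [commutatorElement_def]; group
    rw [e1]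
    exact (Q j).mul_mem hu ((h.cj_self hdV j).2.1.mem ((Q j).inv_mem hu))
  refine h.center_inf surj hij h1 (fun w hw => ?_) h2
  have k1 : Commute w d := hdc w hw
  have k2 : u⁻¹ * w * u ∈ W i := by
    have := (h.cj_self (inv_mem huc) i).2.2.mem hw
    simpa using this
  have k3 : Commute w (u * d * u⁻¹) := by
    show w * (u * d * u⁻¹) = u * d * u⁻¹ * w
    calc w * (u * d * u⁻¹) = u * ((u⁻¹ * w * u) * d) * u⁻¹ := by group
      _ = u * (d * (u⁻¹ * w * u)) * u⁻¹ := by rw [hdc _ k2]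
      _ = u * d * u⁻¹ * w := by group
  rw [commutatorElement_def]
  exact (k3.mul_right k1.inv_right).eq

end Pts

end Cfsg.Agent.Omega.FFTwoA
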