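import Mathlib
import Cfsg.Agent.Omega.FFTwoA.Line

/-!
# FF-2a: the symplectic space `E = O z / ⟨z⟩`
-/

set_option autoImplicit false

namespace Cfsg.Agent.Omega.FFTwoA.Quot

open Cfsg.Agent.Omega.FFTwoA.Main Cfsg.Agent.Omega.FFTwoA.Four Cfsg.Agent.Omega.FFTwoA.Line

universe u

variable {G : Type u} [Group G] {O : G → Subgroup G} {z a : G}

/-- The space `E = O z / ⟨z⟩` with its form and the action of `C_G(z)`. -/
structure Sp (O : G → Subgroup G) (z : G) (E : Type u) [AddCommGroup E] [Module (ZMod 2) E]
    (ρ : Subgroup.centralizer ({z} : Set G) →* AddMonoid.End E) (π : O z → E)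
    (B : E → E → ZMod 2) : Prop where
  surj : Function.Surjective π
  mul : ∀ x y : O z, π (x * y) = π x + π y
  ker : ∀ x : O z, π x = 0 ↔ (x : G) = 1 ∨ (x : G) = z
  act : ∀ (g : Subgroup.centralizer ({z} : Set G)) (x y : O z),
    (y : G) = g * x * (g : G)⁻¹ → π y = ρ g (π x)
  form : ∀ x y : O z, B (π x) (π y) = 0 ↔ (x : G) * y = y * x

theorem exists_sp (h : Cfg O z a) : ∃ (E : Type u) (_ : AddCommGroup E) (_ : Module (ZMod 2) E)
    (ρ : Subgroup.centralizer ({z} : Set G) →* AddMonoid.End E) (π : O z → E)
    (B : E → E → ZMod 2), Sp O z E ρ π B := by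
  classical
  set N : Subgroup (O z) :=
    { carrier := {x | (x : G) = 1 ∨ (x : G) = z}
      mul_mem' := by
        rintro ⟨x, hx⟩ ⟨y, hy⟩ (h1 | h1) (h2 | h2)
        · left; change x * y = 1; change x = 1 at h1; change y = 1 at h2; rw [h1, h2, one_mul]
        · right; change x * y = z; change x = 1 at h1; change y = z at h2; rw [h1, h2, one_mul]
        · right; change x * y = z; change x = z at h1; change y = 1 at h2; rw [h1, h2, mul_one]
        · left; change x * y = 1; change x = z at h1; change y = z at h2; rw [h1, h2, h.zz]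
      one_mem' := Or.inl rfl
      inv_mem' := by
        rintro ⟨x, hx⟩ (h1 | h1)
        · left; change x⁻¹ = 1; change x = 1 at h1; rw [h1, inv_one]
        · right; change x⁻¹ = z; change x = z at h1; rw [h1]
          exact inv_eq_of_mul_eq_one_left h.zz } with hN
  have mN : ∀ x : O z, x ∈ N ↔ (x : G) = 1 ∨ (x : G) = z := fun x => Iff.rfl
  have hNn : N.Normal := by
    constructor
    intro n hn g
    rw [mN] at hn ⊢
    change (g : G) * n * (g : G)⁻¹ = 1 ∨ (g : G) * n * (g : G)⁻¹ = z
    rcases hn with k | k <;> rw [k]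
    · left; group
    · right; rw [h.comm g g.2, mul_assoc, mul_inv_cancel, mul_one]
  let Qt : Type u := O z ⧸ N
  let pr : O z →* Qt := QuotientGroup.mk' N
  have pr_eq : ∀ x y : O z, pr x = pr y ↔ x⁻¹ * y ∈ N := fun x y => QuotientGroup.eq
  have prs : Function.Surjective pr := QuotientGroup.mk'_surjective N
  have hcomm : ∀ x y : Qt, x * y = y * x := by
    intro x y
    obtain ⟨x, rfl⟩ := prs x
    obtain ⟨y, rfl⟩ := prs y
    rw [← map_mul, ← map_mul, pr_eq, mN]
    change ((x : G) * y)⁻¹ * (y * x) = 1 ∨ ((x : G) * y)⁻¹ * (y * x) = z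
    have e : ((x : G) * y)⁻¹ * (y * x) = (y : G)⁻¹ * (x : G)⁻¹ * (y : G)⁻¹⁻¹ * (x : G)⁻¹⁻¹ := by
      group
    rw [e]
    exact h.comm_mem (inv_mem y.2) (inv_mem x.2)
  let iC : CommGroup Qt := { (inferInstance : Group Qt) with mul_comm := hcomm }
  let E : Type u := Additive Qt
  have hsq : ∀ x : E, (2 : ℕ) • x = 0 := by
    intro x
    obtain ⟨x, rfl⟩ := Additive.ofMul.surjective x
    obtain ⟨x, rfl⟩ := prs x
    change Additive.ofMul (pr x ^ 2) = 0
    rw [← map_pow]
    change Additive.ofMul (pr (x ^ 2)) = Additive.ofMul 1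
    congr 1
    rw [← map_one pr, eq_comm, pr_eq, mN, inv_one, one_mul]
    change (x : G) ^ 2 = 1 ∨ (x : G) ^ 2 = z
    rw [pow_two]
    exact h.sq x.2
  let iM : Module (ZMod 2) E := AddCommGroup.zmodModule hsq
  let cj : Subgroup.centralizer ({z} : Set G) → (O z →* O z) := fun g =>
    { toFun := fun x => ⟨g * x * (g : G)⁻¹, h.eqv.mem_conj x.2
        (Subgroup.mem_centralizer_singleton_iff.1 g.2)⟩
      map_one' := by ext; simp
      map_mul' := by intro x y; ext; simp }
  have cjN : ∀ g, N ≤ N.comap (cj g) := by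
    intro g x hx
    rw [Subgroup.mem_comap, mN]
    rw [mN] at hx
    change (g : G) * x * (g : G)⁻¹ = 1 ∨ (g : G) * x * (g : G)⁻¹ = z
    rcases hx with k | k <;> rw [k]
    · left; group
    · right
      rw [Subgroup.mem_centralizer_singleton_iff.1 g.2, mul_assoc, mul_inv_cancel, mul_one]
  let cq : Subgroup.centralizer ({z} : Set G) → (Qt →* Qt) := fun g =>
    QuotientGroup.map N N (cj g) (cjN g)
  have cq_mk : ∀ g (x : O z), cq g (pr x) = pr (cj g x) := fun g x => rfl
  let ρ : Subgroup.centralizer ({z} : Set G) →* AddMonoid.End E :=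
    { toFun := fun g => MonoidHom.toAdditive (cq g)
      map_one' := by
        ext x
        obtain ⟨x, rfl⟩ := Additive.ofMul.surjective x
        obtain ⟨x, rfl⟩ := prs x
        change Additive.ofMul (pr (cj 1 x)) = Additive.ofMul (pr x)
        congr 2
        ext
        change (1 : G) * x * (1 : G)⁻¹ = x
        group
      map_mul' := by
        intro g g'
        ext x
        obtain ⟨x, rfl⟩ := Additive.ofMul.surjective x
        obtain ⟨x, rfl⟩ := prs x
        change Additive.ofMul (pr (cj (g * g') x)) = Additive.ofMul (pr (cj g (cj g' x)))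
        congr 2
        ext
        change ((g : G) * g') * x * ((g : G) * g')⁻¹ = g * (g' * x * (g' : G)⁻¹) * (g : G)⁻¹
        group }
  let si : Qt → O z := Function.surjInv prs
  let B : E → E → ZMod 2 := fun x y =>
    if (si (Additive.toMul x) : O z) * si (Additive.toMul y) =
      si (Additive.toMul y) * si (Additive.toMul x) then 0
    else 1
  refine ⟨E, inferInstance, iM, ρ, fun x => Additive.ofMul (pr x), B, ?_, ?_, ?_, ?_, ?_⟩
  · intro x
    obtain ⟨x, rfl⟩ := Additive.ofMul.surjective x
    obtain ⟨x, rfl⟩ := prs x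
    exact ⟨x, rfl⟩
  · intro x y
    rfl
  · intro x
    change Additive.ofMul (pr x) = Additive.ofMul 1 ↔ _
    rw [Additive.ofMul.injective.eq_iff, ← map_one pr, eq_comm, pr_eq, mN, inv_one, one_mul]
  · rintro g x ⟨y, hy⟩ e
    change y = g * x * (g : G)⁻¹ at e
    subst e
    rfl
  · intro x y
    have key : ∀ x : O z, (si (pr x) : G) = x ∨
        (si (pr x) : G) = x * z := by
      intro x
      have h1 : pr x = pr (si (pr x)) := (Function.surjInv_eq prs (pr x)).symm
      rw [pr_eq, mN] at h1
      rcases h1 with k | k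
      · left
        have : (x : G)⁻¹ * (si (pr x) : G) = 1 := k
        rw [inv_mul_eq_one] at this
        exact this.symm
      · right
        have : (x : G)⁻¹ * (si (pr x) : G) = z := k
        rw [inv_mul_eq_iff_eq_mul] at this
        exact this
    have hxz := h.comm x x.2
    have hyz := h.comm y y.2
    change (if (si (pr x) : O z) * si (pr y) =
      si (pr y) * si (pr x) then (0 : ZMod 2) else 1) = 0 ↔ _
    have e : (si (pr x) : O z) * si (pr y) =
        si (pr y) * si (pr x) ↔ (x : G) * y = y * x := by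
      rw [← Subtype.coe_inj]
      change (si (pr x) : G) * (si (pr y) : G) =
        (si (pr y) : G) * (si (pr x) : G) ↔ _
      have e1 : (x : G) * (y * z) = x * y * z := by group
      have e2 : (y : G) * z * x = y * x * z := by rw [mul_assoc, ← hxz, mul_assoc]
      have e3 : (x : G) * z * y = x * y * z := by rw [mul_assoc, ← hyz, mul_assoc]
      have e4 : (y : G) * (x * z) = y * x * z := by group
      have e5 : (x : G) * z * (y * z) = x * y := by
        calc (x : G) * z * (y * z) = x * (z * y) * z := by group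
          _ = x * y * (z * z) := by rw [← hyz]; group
          _ = x * y := by rw [h.zz, mul_one]
      have e6 : (y : G) * z * (x * z) = y * x := by
        calc (y : G) * z * (x * z) = y * (z * x) * z := by group
          _ = y * x * (z * z) := by rw [← hxz]; group
          _ = y * x := by rw [h.zz, mul_one]
      rcases key x with k1 | k1 <;> rcases key y with k2 | k2 <;> rw [k1, k2]
      · rw [e1, e2]; exact mul_left_inj _
      · rw [e3, e4]; exact mul_left_inj _
      · rw [e5, e6]
    rw [← e]
    split_ifs with hc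
    · simp [hc]
    · simp [hc]

end Cfsg.Agent.Omega.FFTwoA.Quot
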