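import Cfsg.Agent.Omega.FFTwoA.Pts

/-!
# OMEGA, FF-2a: the case `q = 2`

`z` an involution, `V` a four-group containing `z`, `Qf v`, `Wf v` groups attached to the
involutions `v` in a `G`-equivariant way (for instance `Qf v = O₂(C_G(v))`).
-/

namespace Cfsg.Agent.Omega.FFTwoA

open Subgroup
open scoped commutatorElement

variable {G : Type*} [Group G]

/-- The hypotheses for `q = 2`. -/
structure Two (z z1 : G) (V : Subgroup G) (Qf Wf : G → Subgroup G) : Prop where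
  z_ne : z ≠ 1
  z_sq : z * z = 1
  z1_ne : z1 ≠ 1
  z1_ne' : z1 ≠ z
  z1_sq : z1 * z1 = 1
  comm_z : z1 * z = z * z1
  mem_V : ∀ v, v ∈ V ↔ v = 1 ∨ v = z ∨ v = z1 ∨ v = z * z1
  eqQ : ∀ g v, Cj g (Qf v) (Qf (g * v * g⁻¹))
  eqW : ∀ g v, Cj g (Wf v) (Wf (g * v * g⁻¹))
  V_le : V ≤ Wf z
  W_le : Wf z ≤ Qf z
  cent : ∀ q ∈ Qf z, z * q = q * z
  comm : ∀ w ∈ Wf z, ∀ q ∈ Qf z, ⁅w, q⁆ = 1 ∨ ⁅w, q⁆ = z
  move : ∃ y ∈ Wf z, y * z1 ≠ z1 * y
  x_move : ∃ x ∈ normalizer (V : Set G), x * z * x⁻¹ ≠ z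
  /-- every nontrivial subgroup of `Qf z` invariant under `N_G(V)` contains `z`
  (as `S ≤ N_G(V)`, `Ω₁ Z(S) = ⟨z⟩`) -/
  meet : ∀ X : Subgroup G, X ≤ Qf z → (∀ g ∈ normalizer (V : Set G), ∀ a ∈ X,
    g * a * g⁻¹ ∈ X) → X ≠ ⊥ → z ∈ X

namespace Two

variable {z z1 : G} {V : Subgroup G} {Qf Wf : G → Subgroup G} (h : Two z z1 V Qf Wf)

include h

theorem e1 : z * (z * z1) = z1 := by rw [← mul_assoc, h.z_sq, one_mul]
theorem e2 : z * z1 * z = z1 := by rw [mul_assoc, h.comm_z, h.e1]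
theorem e3 : z1 * (z * z1) = z := by
  rw [← mul_assoc, h.comm_z, mul_assoc, h.z1_sq, mul_one]
theorem e4 : z * z1 * z1 = z := by rw [mul_assoc, h.z1_sq, mul_one]
theorem e5 : z * z1 * (z * z1) = 1 := by rw [mul_assoc, h.e3, h.z_sq]

theorem sq {v : G} (hv : v ∈ V) : v * v = 1 := by
  rcases (h.mem_V v).1 hv with rfl | rfl | rfl | rfl
  · simp
  · exact h.z_sq
  · exact h.z1_sq
  · exact h.e5

theorem comm_V {a b : G} (ha : a ∈ V) (hb : b ∈ V) : a * b = b * a := by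
  have h1 : (a * b) * (a * b) = 1 := h.sq (V.mul_mem ha hb)
  have h2 := h.sq ha
  have h3 := h.sq hb
  have i2 : a⁻¹ = a := inv_eq_of_mul_eq_one_left h2
  have i3 : b⁻¹ = b := inv_eq_of_mul_eq_one_left h3
  have i1 : (a * b)⁻¹ = a * b := inv_eq_of_mul_eq_one_left h1
  rw [← i1, mul_inv_rev, i2, i3]

theorem zz1_ne : z * z1 ≠ 1 := by
  intro e
  have : z1 = z := by rw [← h.e1, e, mul_one]
  exact h.z1_ne' this

theorem four {a b : G} (ha : a ∈ V) (hb : b ∈ V) (ha1 : a ≠ 1) (hb1 : b ≠ 1) (hab : a ≠ b)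
    {v : G} (hv : v ∈ V) : v = 1 ∨ v = a ∨ v = b ∨ v = a * b := by
  have e1 := h.e1
  have e2 := h.e2
  have e3 := h.e3
  have e4 := h.e4
  have e6 := h.comm_z
  rcases (h.mem_V a).1 ha with rfl | rfl | rfl | rfl <;>
  rcases (h.mem_V b).1 hb with rfl | rfl | rfl | rfl <;>
  rcases (h.mem_V v).1 hv with rfl | rfl | rfl | rfl <;> simp_all

/-- `N_G(V)` is transitive on the involutions of `V` -/
theorem exists_conj {v : G} (hv : v ∈ V) (hv1 : v ≠ 1) :
    ∃ g ∈ normalizer (V : Set G), g * z * g⁻¹ = v := by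
  obtain ⟨x, hx, hxz⟩ := h.x_move
  obtain ⟨y, hy, hyz⟩ := h.move
  have hzV : z ∈ V := (h.mem_V z).2 (Or.inr (Or.inl rfl))
  have hz1V : z1 ∈ V := (h.mem_V z1).2 (Or.inr (Or.inr (Or.inl rfl)))
  have hyN : y ∈ normalizer (V : Set G) := by
    have key : ∀ w ∈ Wf z, ∀ v ∈ V, w * v * w⁻¹ ∈ V := by
      intro w hw v hv
      have e : w * v * w⁻¹ = ⁅w, v⁆ * v := by rw [commutatorElement_def]; group
      rw [e]
      rcases h.comm w hw v (h.W_le (h.V_le hv)) with e1 | e1 <;> rw [e1]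
      · simpa using hv
      · exact V.mul_mem hzV hv
    rw [mem_normalizer_iff]
    intro v
    refine ⟨key y hy v, fun hv => ?_⟩
    have := key y⁻¹ ((Wf z).inv_mem hy) _ hv
    simpa [mul_assoc] using this
  have hyz1 : y * z1 * y⁻¹ = z * z1 := by
    have e : y * z1 * y⁻¹ = ⁅y, z1⁆ * z1 := by rw [commutatorElement_def]; group
    rcases h.comm y hy z1 (h.W_le (h.V_le hz1V)) with e1 | e1
    · exact absurd (commutatorElement_eq_one_iff_mul_comm.1 e1) hyz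
    · rw [e, e1]
  have hyz2 : y * (z * z1) * y⁻¹ = z1 := by
    have c1 : Commute z y := h.cent y (h.W_le hy)
    calc y * (z * z1) * y⁻¹ = (y * z) * z1 * y⁻¹ := by group
      _ = (z * y) * z1 * y⁻¹ := by rw [c1.eq]
      _ = z * (y * z1 * y⁻¹) := by group
      _ = z * (z * z1) := by rw [hyz1]
      _ = z1 := h.e1
  have hxV : x * z * x⁻¹ ∈ V := (mem_normalizer_iff.1 hx z).1 hzV
  have hx1 : x * z * x⁻¹ ≠ 1 := by
    intro e
    have : z = 1 := by
      have h1 : x * z = x := by rw [mul_inv_eq_one] at e; exact e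
      simpa using h1
    exact h.z_ne this
  rcases (h.mem_V v).1 hv with e | e | e | e
  · exact absurd e hv1
  · exact ⟨1, one_mem _, by rw [e]; simp⟩
  · rcases (h.mem_V _).1 hxV with e' | e' | e' | e'
    · exact absurd e' hx1
    · exact absurd e' hxz
    · exact ⟨x, hx, by rw [e, e']⟩
    · refine ⟨y * x, mul_mem hyN hx, ?_⟩
      calc y * x * z * (y * x)⁻¹ = y * (x * z * x⁻¹) * y⁻¹ := by group
        _ = v := by rw [e', hyz2, e]
  · rcases (h.mem_V _).1 hxV with e' | e' | e' | e'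
    · exact absurd e' hx1
    · exact absurd e' hxz
    · refine ⟨y * x, mul_mem hyN hx, ?_⟩
      calc y * x * z * (y * x)⁻¹ = y * (x * z * x⁻¹) * y⁻¹ := by group
        _ = v := by rw [e', hyz1, e]
    · exact ⟨x, hx, by rw [e, e']⟩

/-- transport to `v` -/
theorem at_v {v : G} (hv : v ∈ V) (hv1 : v ≠ 1) :
    V ≤ Wf v ∧ Wf v ≤ Qf v ∧ (∀ q ∈ Qf v, v * q = q * v) ∧
      (∀ w ∈ Wf v, ∀ q ∈ Qf v, ⁅w, q⁆ = 1 ∨ ⁅w, q⁆ = v) ∧
      (∃ y ∈ Wf v, ∃ a ∈ V, y * a ≠ a * y) := by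
  obtain ⟨g, hg, rfl⟩ := h.exists_conj hv hv1
  have hQ := h.eqQ g z
  have hW := h.eqW g z
  refine ⟨fun a ha => ?_, fun a ha => ?_, fun q hq => ?_, fun w hw q hq => ?_, ?_⟩
  · have h1 : g⁻¹ * a * g ∈ V := by
      have := (mem_normalizer_iff.1 (inv_mem hg) a).1 ha
      simpa using this
    have := hW.mem (h.V_le h1)
    simpa [mul_assoc] using this
  · have := hQ.mem (h.W_le (hW.mem' ha))
    simpa [mul_assoc] using this
  · have h1 := h.cent _ (hQ.mem' hq)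
    calc g * z * g⁻¹ * q = g * (z * (g⁻¹ * q * g)) * g⁻¹ := by group
      _ = g * (g⁻¹ * q * g * z) * g⁻¹ := by rw [h1]
      _ = q * (g * z * g⁻¹) := by group
  · have e : ⁅w, q⁆ = g * ⁅g⁻¹ * w * g, g⁻¹ * q * g⁆ * g⁻¹ := by
      simp only [commutatorElement_def]; group
    rw [e]
    rcases h.comm _ (hW.mem' hw) _ (hQ.mem' hq) with e1 | e1 <;> rw [e1]
    · left; simp
    · right; rfl
  · obtain ⟨y, hy, hyz⟩ := h.move
    refine ⟨g * y * g⁻¹, hW.mem hy, g * z1 * g⁻¹, ?_, ?_⟩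
    · exact (mem_normalizer_iff.1 hg z1).1 ((h.mem_V z1).2 (Or.inr (Or.inr (Or.inl rfl))))
    · intro e
      apply hyz
      have e' : g * (y * z1) * g⁻¹ = g * (z1 * y) * g⁻¹ := by
        calc g * (y * z1) * g⁻¹ = g * y * g⁻¹ * (g * z1 * g⁻¹) := by group
          _ = g * z1 * g⁻¹ * (g * y * g⁻¹) := e
          _ = g * (z1 * y) * g⁻¹ := by group
      simpa using e'

theorem exists_swap {a b c : G} (ha : a ∈ V) (ha1 : a ≠ 1) (hb : b ∈ V) (hb1 : b ≠ 1)
    (hc : c ∈ V) (hc1 : c ≠ 1) (hac : a ≠ c) (hbc : b ≠ c) :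
    ∃ w ∈ Wf c, w * a * w⁻¹ = b := by
  by_cases hab : a = b
  · exact ⟨1, one_mem _, by rw [hab]; simp⟩
  obtain ⟨hV, hWQ, hcen, hcom, y, hy, d, hd, hyd⟩ := h.at_v hc hc1
  have hyc : Commute y c := (hcen y (hWQ hy)).symm
  have hab' : b = a * c := by
    rcases h.four ha hc ha1 hc1 hac hb with e | e | e | e
    · exact absurd e hb1
    · exact absurd e.symm hab
    · exact absurd e hbc
    · exact e
  have hya : y * a ≠ a * y := by
    intro e
    have hya : Commute y a := e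
    apply hyd
    rcases h.four ha hc ha1 hc1 hac hd with e | e | e | e <;> rw [e]
    · simp
    · exact hya
    · exact hyc.eq
    · exact (hya.mul_right hyc).eq
  refine ⟨y, hy, ?_⟩
  have e : y * a * y⁻¹ = ⁅y, a⁆ * a := by rw [commutatorElement_def]; group
  rcases hcom y hy a (hWQ (hV ha)) with e1 | e1
  · exact absurd (commutatorElement_eq_one_iff_mul_comm.1 e1) hya
  · rw [e, e1, hab', h.comm_V hc ha]

/-- The points: nontrivial elements of `V`. -/
theorem pts : Pts (ι := {v : G // v ∈ V ∧ v ≠ 1}) V (fun v => zpowers (v : G))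
    (fun v => Qf v) (fun v => Wf v) := by
  have hzV : z ∈ V := (h.mem_V z).2 (Or.inr (Or.inl rfl))
  have hz1V : z1 ∈ V := (h.mem_V z1).2 (Or.inr (Or.inr (Or.inl rfl)))
  have hz2V : z * z1 ∈ V := V.mul_mem hzV hz1V
  have memz : ∀ v ∈ V, ∀ a, a ∈ zpowers v ↔ a = 1 ∨ a = v := by
    intro v hv a
    constructor
    · intro ha
      obtain ⟨n, rfl⟩ := mem_zpowers_iff.1 ha
      have h2 : v ^ (2 : ℤ) = 1 := by rw [zpow_ofNat, pow_two]; exact h.sq hv
      rcases Int.even_or_odd' n with ⟨k, rfl | rfl⟩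
      · left; rw [zpow_mul, h2, one_zpow]
      · right; rw [zpow_add, zpow_mul, h2, one_zpow, one_mul, zpow_one]
    · rintro (rfl | rfl)
      · exact one_mem _
      · exact mem_zpowers _
  have cjR : ∀ g v : G, Cj g (zpowers v) (zpowers (g * v * g⁻¹)) := by
    intro g v a
    rw [mem_zpowers_iff, mem_zpowers_iff]
    constructor
    · rintro ⟨n, rfl⟩
      exact ⟨n, by rw [conj_zpow]⟩
    · rintro ⟨n, hn⟩
      refine ⟨n, ?_⟩
      rw [conj_zpow] at hn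
      simpa using hn
  refine
    { R_le := fun v => by rw [zpowers_le]; exact v.2.1
      V_le := fun v => (h.at_v v.2.1 v.2.2).1
      W_le := fun v => (h.at_v v.2.1 v.2.2).2.1
      disj := ?_
      ne := ?_
      part := ?_
      three := ?_
      span := ?_
      cent := ?_
      comm := ?_
      norm := ?_
      tran := ?_
      meet := ?_ }
  · rintro ⟨a, ha, ha1⟩ ⟨b, hb, hb1⟩ hab
    rw [eq_bot_iff]
    rintro x ⟨hx, hy⟩
    have h1 := (memz a ha x).1 hx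
    have h2 := (memz b hb x).1 hy
    rw [mem_bot]
    rcases h1 with h1 | h1
    · exact h1
    · rcases h2 with h2 | h2
      · exact h2
      · exact absurd (Subtype.ext (h1.symm.trans h2)) hab
  · rintro ⟨a, ha, ha1⟩ e
    simp only [zpowers_eq_bot] at e
    exact ha1 e
  · intro v hv
    by_cases hv1 : v = 1
    · exact ⟨⟨z, hzV, h.z_ne⟩, by rw [hv1]; exact one_mem _⟩
    · exact ⟨⟨v, hv, hv1⟩, mem_zpowers _⟩
  · have hne : z * z1 ≠ z := by
      intro e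
      exact h.z1_ne (mul_eq_left.1 e)
    have hne' : z * z1 ≠ z1 := by
      intro e
      exact h.z_ne (mul_eq_right.1 e)
    intro i j
    by_cases h1 : (⟨z, hzV, h.z_ne⟩ : {v : G // v ∈ V ∧ v ≠ 1}) ≠ i ∧
        (⟨z, hzV, h.z_ne⟩ : {v : G // v ∈ V ∧ v ≠ 1}) ≠ j
    · exact ⟨_, h1⟩
    by_cases h2 : (⟨z1, hz1V, h.z1_ne⟩ : {v : G // v ∈ V ∧ v ≠ 1}) ≠ i ∧
        (⟨z1, hz1V, h.z1_ne⟩ : {v : G // v ∈ V ∧ v ≠ 1}) ≠ j
    · exact ⟨_, h2⟩
    refine ⟨⟨z * z1, hz2V, h.zz1_ne⟩, ?_⟩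
    have k1 := h.z1_ne'
    obtain ⟨a, ha⟩ := i
    obtain ⟨b, hb⟩ := j
    simp only [ne_eq, Subtype.mk.injEq, not_and, not_not] at h1 h2 ⊢
    constructor
    · rintro rfl
      have h3 : z = b := h1 (fun e => hne e.symm)
      have h4 : z1 = b := h2 (fun e => hne' e.symm)
      exact k1 (h4.trans h3.symm)
    · rintro rfl
      by_cases e : z = a
      · have h5 : z1 ≠ a := by rw [← e]; exact k1
        exact hne' (h2 h5).symm
      · exact hne (h1 e).symm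
  · rintro ⟨a, ha, ha1⟩ ⟨b, hb, hb1⟩ hab v hv
    have hab' : a ≠ b := fun e => hab (Subtype.ext e)
    rcases h.four ha hb ha1 hb1 hab' hv with e | e | e | e
    · exact ⟨1, one_mem _, 1, one_mem _, by simpa using e⟩
    · exact ⟨a, mem_zpowers _, 1, one_mem _, by simpa using e⟩
    · exact ⟨1, one_mem _, b, mem_zpowers _, by simpa using e⟩
    · exact ⟨a, mem_zpowers _, b, mem_zpowers _, e⟩
  · rintro ⟨v, hv, hv1⟩ r hr q hq
    rcases (memz v hv r).1 hr with rfl | rfl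
    · simp
    · exact (h.at_v hv hv1).2.2.1 q hq
  · rintro ⟨v, hv, hv1⟩ w hw q hq
    rcases (h.at_v hv hv1).2.2.2.1 w hw q hq with e | e
    · rw [e]; exact one_mem _
    · rw [e]; exact mem_zpowers _
  · rintro g hg ⟨v, hv, hv1⟩
    refine ⟨⟨g * v * g⁻¹, (mem_normalizer_iff.1 hg v).1 hv, ?_⟩, cjR g v, h.eqQ g v, h.eqW g v⟩
    intro e
    apply hv1
    have : g * v = g := by rw [mul_inv_eq_one] at e; exact e
    simpa using this
  · rintro ⟨a, ha, ha1⟩ ⟨c, hc, hc1⟩ ⟨b, hb, hb1⟩ hac hbc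
    obtain ⟨w, hw, hwab⟩ := h.exists_swap ha ha1 hb hb1 hc hc1 (fun e => hac (Subtype.ext e))
      (fun e => hbc (Subtype.ext e))
    refine ⟨w, hw, ?_, ?_, ?_⟩
    · have := cjR w a
      rwa [hwab] at this
    · have := h.eqQ w a
      rwa [hwab] at this
    · have := h.eqW w a
      rwa [hwab] at this
  · intro X hX hinv hne
    have h1 : X ≤ Qf z := fun x hx => mem_iInf.1 (hX hx) ⟨z, hzV, h.z_ne⟩
    exact ⟨z, h.meet X h1 hinv hne, hzV, h.z_ne⟩

/-- `Qf v = Wf v C_{Qf v}(V)` -/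
theorem hQW : ∀ i : {v : G // v ∈ V ∧ v ≠ 1}, ∀ q ∈ Qf i, ∃ w ∈ Wf i,
    w⁻¹ * q ∈ centralizer (V : Set G) := by
  rintro ⟨c, hc, hc1⟩ q hq
  obtain ⟨hV, hWQ, hcen, hcom, -⟩ := h.at_v hc hc1
  -- another involution
  obtain ⟨k, hk, -⟩ := h.pts.three ⟨c, hc, hc1⟩ ⟨c, hc, hc1⟩
  obtain ⟨a, ha, ha1⟩ := k
  have hac : a ≠ c := fun e => hk (Subtype.ext e)
  have hcent : ∀ u : G, u * c = c * u → u * a = a * u → u ∈ centralizer (V : Set G) := by
    intro u h1 h2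
    rw [mem_centralizer_iff]
    intro v hv
    have c1 : Commute u c := h1
    have c2 : Commute u a := h2
    rcases h.four ha hc ha1 hc1 hac hv with e | e | e | e <;> rw [e]
    · simp
    · exact c2.symm
    · exact c1.symm
    · exact (c2.mul_right c1).symm
  have hqc : q * c = c * q := (hcen q hq).symm
  have hqN : q * a * q⁻¹ ∈ V := by
    have hqn : q ∈ normalizer (V : Set G) := h.pts.mem_normalizer (i := ⟨c, hc, hc1⟩) hq
    exact (mem_normalizer_iff.1 hqn a).1 ha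
  have hq1 : q * a * q⁻¹ ≠ 1 := by
    intro e
    have : q * a = q := by rw [mul_inv_eq_one] at e; exact e
    exact ha1 (by simpa using this)
  have hqc' : q * a * q⁻¹ ≠ c := by
    intro e
    apply hac
    have e1 : a = q⁻¹ * c * q := by rw [← e]; group
    rw [e1, mul_assoc, ← hqc]; group
  obtain ⟨w, hw, hwe⟩ := h.exists_swap ha ha1 hqN hq1 hc hc1 hac hqc'
  refine ⟨w, hw, hcent _ ?_ ?_⟩
  · have hwc : Commute w c := (hcen w (hWQ hw)).symm
    have hqc2 : Commute q c := hqc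
    exact (hwc.inv_left.mul_left hqc2).eq
  · have e1 : w * a * w⁻¹ = q * a * q⁻¹ := hwe
    calc w⁻¹ * q * a = w⁻¹ * (q * a * q⁻¹) * q := by group
      _ = w⁻¹ * (w * a * w⁻¹) * q := by rw [e1]
      _ = a * (w⁻¹ * q) := by group

/-- the commutator map is onto -/
theorem surj : ∀ i j : {v : G // v ∈ V ∧ v ≠ 1}, i ≠ j → ∀ w ∈ Wf j,
    w ∉ centralizer (V : Set G) → ∀ s ∈ zpowers (j : G), ∃ r ∈ zpowers (i : G), ⁅w, r⁆ = s := by
  rintro ⟨a, ha, ha1⟩ ⟨c, hc, hc1⟩ hac w hw hwV s hs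
  have hac' : a ≠ c := fun e => hac (Subtype.ext e)
  obtain ⟨hV, hWQ, hcen, hcom, -⟩ := h.at_v hc hc1
  have hwc : Commute w c := (hcen w (hWQ hw)).symm
  have hwa : ¬ w * a = a * w := by
    intro e
    have hwa : Commute w a := e
    apply hwV
    rw [mem_centralizer_iff]
    intro v hv
    rcases h.four ha hc ha1 hc1 hac' hv with e | e | e | e <;> rw [e]
    · simp
    · exact hwa.symm
    · exact hwc.symm
    · exact (hwa.mul_right hwc).symm
  have hs' : s = 1 ∨ s = c := by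
    obtain ⟨n, rfl⟩ := mem_zpowers_iff.1 hs
    have h2 : c ^ (2 : ℤ) = 1 := by rw [zpow_ofNat, pow_two]; exact h.sq hc
    rcases Int.even_or_odd' n with ⟨k, rfl | rfl⟩
    · left; rw [zpow_mul, h2, one_zpow]
    · right; rw [zpow_add, zpow_mul, h2, one_zpow, one_mul, zpow_one]
  rcases hs' with rfl | rfl
  · exact ⟨1, one_mem _, by simp⟩
  · refine ⟨a, mem_zpowers _, ?_⟩
    rcases hcom w hw a (hWQ (hV ha)) with e | e
    · exact absurd (commutatorElement_eq_one_iff_mul_comm.1 e) hwa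
    · exact e

/-- **FF-2a (6)** : `[Q, Q] ≤ ⟨z⟩`. -/
theorem comm_Q [Finite G] {p q : G} (hp : p ∈ Qf z) (hq : q ∈ Qf z) : ⁅p, q⁆ = 1 ∨ ⁅p, q⁆ = z := by
  have hzV : z ∈ V := (h.mem_V z).2 (Or.inr (Or.inl rfl))
  have h1 := h.pts.comm_mem h.hQW (j := ⟨z, hzV, h.z_ne⟩) hp hq
  obtain ⟨n, hn⟩ := mem_zpowers_iff.1 h1
  have h2 : z ^ (2 : ℤ) = 1 := by rw [zpow_ofNat, pow_two]; exact h.z_sq
  simp only at hn
  rcases Int.even_or_odd' n with ⟨k, rfl | rfl⟩
  · left; rw [← hn, zpow_mul, h2, one_zpow]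
  · right; rw [← hn, zpow_add, zpow_mul, h2, one_zpow, one_mul, zpow_one]

/-- **FF-2a (6)** : squares of elements of `Q` lie in `⟨z⟩`. -/
theorem sq_Q [Finite G] (hW : ∀ w ∈ Wf z, w * w = 1 ∨ w * w = z) {q : G} (hq : q ∈ Qf z) :
    q * q = 1 ∨ q * q = z := by
  have hzV : z ∈ V := (h.mem_V z).2 (Or.inr (Or.inl rfl))
  have h1 := h.pts.sq_mem h.hQW (fun v hv => h.sq hv) (j := ⟨z, hzV, h.z_ne⟩) (fun w hw => by
    rcases hW w hw with e | e
    · rw [e]; exact one_mem _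
    · rw [e]; exact mem_zpowers _) hq
  obtain ⟨n, hn⟩ := mem_zpowers_iff.1 h1
  have h2 : z ^ (2 : ℤ) = 1 := by rw [zpow_ofNat, pow_two]; exact h.z_sq
  simp only at hn
  rcases Int.even_or_odd' n with ⟨k, rfl | rfl⟩
  · left; rw [← hn, zpow_mul, h2, one_zpow]
  · right; rw [← hn, zpow_add, zpow_mul, h2, one_zpow, one_mul, zpow_one]

end Two

/-- If `W` is generated by involutions and `[W, Q] ≤ ⟨z⟩`, then squares of `W` lie in `⟨z⟩`. -/
theorem sq_of_closure {z : G} (hz : z * z = 1) {T : Set G} (hT : ∀ t ∈ T, t * t = 1)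
    (hcen : ∀ q ∈ closure T, z * q = q * z)
    (hcom : ∀ w ∈ closure T, ∀ q ∈ closure T, ⁅w, q⁆ = 1 ∨ ⁅w, q⁆ = z) :
    ∀ w ∈ closure T, w * w = 1 ∨ w * w = z := by
  intro w hw
  induction hw using closure_induction with
  | mem t ht => exact Or.inl (hT t ht)
  | one => left; simp
  | mul a b ha hb iha ihb =>
    have e : a * b * (a * b) = (a * a) * ⁅a⁻¹, b⁆ * (b * b) := by
      simp only [commutatorElement_def]; group
    have hc := hcom _ (inv_mem ha) _ hb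
    rw [e]
    rcases iha with e1 | e1 <;> rcases ihb with e2 | e2 <;> rcases hc with e3 | e3 <;>
      rw [e1, e2, e3] <;> simp [hz]
  | inv a ha iha =>
    have e : a⁻¹ * a⁻¹ = (a * a)⁻¹ := by group
    rw [e]
    rcases iha with e1 | e1 <;> rw [e1]
    · left; simp
    · right; exact inv_eq_of_mul_eq_one_left hz

end Cfsg.Agent.Omega.FFTwoA
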